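import Groth.Agent.Triage.CMBC
import Groth.Agent.CMBCAny.Basic
import Groth.Agent.LC.GorRingRows
import Groth.Prelude.Def_Dual3

/-!
# Gorenstein morphisms in terms of local rings
-/

set_option autoImplicit false
set_option linter.style.haveILetI false
set_option backward.isDefEq.respectTransparency false
universe u

open AlgebraicGeometry CategoryTheory CategoryTheory.Limits IsLocalRing TensorProduct

namespace Groth.Agent.Dual349

open Groth.Agent

theorem gor_of_equiv {R S : Type u} [CommRing R] [CommRing S] (e : R ≃+* S)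
    (h : LocCoh.IsGorensteinLocalRing R) : LocCoh.IsGorensteinLocalRing S := by
  haveI : IsLocalRing S := e.isLocalRing
  haveI : IsNoetherianRing S := isNoetherianRing_of_ringEquiv R e
  exact LC.gorenstein_of_ringEquiv e

theorem gor_congr {R S : Type u} [CommRing R] [CommRing S] (e : R ≃+* S) :
    LocCoh.IsGorensteinLocalRing R ↔ LocCoh.IsGorensteinLocalRing S :=
  ⟨gor_of_equiv e, gor_of_equiv e.symm⟩

variable {X S : Scheme.{u}}

theorem isGorensteinAt_iff_stalk (f : X ⟶ S) (x : X) :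
    Dual3.IsGorensteinAt f x ↔ (f.stalkMap x).hom.Flat ∧ LocCoh.IsGorensteinLocalRing
      (↑(X.presheaf.stalk x) ⧸ (maximalIdeal (S.presheaf.stalk (f x))).map (f.stalkMap x).hom) :=
  and_congr_right fun _ => (gor_congr (Triage.CMMor.exists_equiv_fibre_stalk f x).some).symm

theorem isGorensteinAt_iff_sm (f : X ⟶ S) (x : X) (s : S) (hs : f x = s) :
    Dual3.IsGorensteinAt f x ↔ (FibFlat.sm f x s hs).Flat ∧ LocCoh.IsGorensteinLocalRing
      (↑(X.presheaf.stalk x) ⧸ (maximalIdeal (S.presheaf.stalk s)).map (FibFlat.sm f x s hs)) := by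
  subst hs
  rw [isGorensteinAt_iff_stalk, FibFlat.sm_self]

/-- A flat morphism out of a Gorenstein scheme, at a point. -/
theorem isGorensteinAt_of_gorenstein_stalk (f : X ⟶ S) (x : X) (hf : (f.stalkMap x).hom.Flat)
    [IsNoetherianRing (S.presheaf.stalk (f x))]
    (hX : LocCoh.IsGorensteinLocalRing (X.presheaf.stalk x)) :
    Dual3.IsGorensteinAt f x ∧ LocCoh.IsGorensteinLocalRing (S.presheaf.stalk (f x)) := by
  letI := (f.stalkMap x).hom.toAlgebra
  haveI : Module.Flat (S.presheaf.stalk (f x)) (X.presheaf.stalk x) := hf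
  haveI : IsLocalHom (algebraMap (S.presheaf.stalk (f x)) (X.presheaf.stalk x)) :=
    inferInstanceAs (IsLocalHom (f.stalkMap x).hom)
  haveI := hX
  haveI : IsNoetherianRing (X.presheaf.stalk x) := inferInstance
  obtain ⟨hA, hB⟩ := (LC.gorenstein_flat_local_iff (S.presheaf.stalk (f x)) (X.presheaf.stalk x)).1 hX
  exact ⟨(isGorensteinAt_iff_stalk f x).2 ⟨hf, hB⟩, hA⟩

/-- The fibre rings along a composite of local homomorphisms `A → B → C`, with `C` flat over `B`. -/
theorem gor_fibre_comp {A B C : Type u} [CommRing A] [CommRing B] [CommRing C] [IsLocalRing A] [IsLocalRing B]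
    [IsLocalRing C] (ψ : A →+* B) (φ : B →+* C) [IsLocalHom ψ] [IsLocalHom φ] (hφ : φ.Flat)
    [IsNoetherianRing (B ⧸ (maximalIdeal A).map ψ)] [IsNoetherianRing (C ⧸ (maximalIdeal A).map (φ.comp ψ))] :
    LocCoh.IsGorensteinLocalRing (C ⧸ (maximalIdeal A).map (φ.comp ψ)) ↔
      LocCoh.IsGorensteinLocalRing (B ⧸ (maximalIdeal A).map ψ) ∧
        LocCoh.IsGorensteinLocalRing (C ⧸ (maximalIdeal B).map φ) := by
  let I := (maximalIdeal A).map ψ
  have hIm : I ≤ maximalIdeal B := map_maximalIdeal_le ψ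
  have hJ : (maximalIdeal A).map (φ.comp ψ) = I.map φ := (Ideal.map_map ψ φ).symm
  haveI : IsNoetherianRing (C ⧸ I.map φ) :=
    isNoetherianRing_of_ringEquiv (C ⧸ (maximalIdeal A).map (φ.comp ψ)) (Ideal.quotEquivOfEq hJ)
  rw [gor_congr (Ideal.quotEquivOfEq hJ)]
  haveI : Nontrivial (B ⧸ I) :=
    Ideal.Quotient.nontrivial_iff.2 fun h => (maximalIdeal.isMaximal B).ne_top (top_le_iff.1 (h ▸ hIm))
  haveI : Nontrivial (C ⧸ I.map φ) :=
    Ideal.Quotient.nontrivial_iff.2 fun h => (maximalIdeal.isMaximal C).ne_top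
      (top_le_iff.1 (h ▸ (Ideal.map_mono hIm).trans (map_maximalIdeal_le φ)))
  haveI : IsLocalRing (B ⧸ I) := .of_surjective' (Ideal.Quotient.mk _) Ideal.Quotient.mk_surjective
  haveI : IsLocalRing (C ⧸ I.map φ) := .of_surjective' (Ideal.Quotient.mk _) Ideal.Quotient.mk_surjective
  letI : Algebra B C := φ.toAlgebra
  haveI : Module.Flat B C := hφ
  haveI : Module.Flat (B ⧸ I) (C ⧸ I.map (algebraMap B C)) :=
    Module.Flat.of_linearEquiv (((TensorProduct.quotTensorEquivQuotSMul C I).trans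
      ((Submodule.quotEquivOfEq _ _ (Ideal.smul_top_eq_map I)).trans
        (Submodule.Quotient.restrictScalarsEquiv B _))).extendScalarsOfSurjective
          Ideal.Quotient.mk_surjective).symm
  haveI : Nontrivial (C ⧸ I.map (algebraMap B C)) := ‹Nontrivial (C ⧸ I.map φ)›
  haveI : IsLocalRing (C ⧸ I.map (algebraMap B C)) := ‹IsLocalRing (C ⧸ I.map φ)›
  haveI : IsNoetherianRing (C ⧸ I.map (algebraMap B C)) := ‹IsNoetherianRing (C ⧸ I.map φ)›
  haveI : IsLocalHom (algebraMap (B ⧸ I) (C ⧸ I.map (algebraMap B C))) := by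
    constructor
    intro b hb
    obtain ⟨b, rfl⟩ := Ideal.Quotient.mk_surjective b
    have hb' : IsUnit (Ideal.Quotient.mk (I.map φ) (φ b)) := hb
    haveI : IsLocalHom (Ideal.Quotient.mk (I.map φ)) := IsLocalHom.of_surjective _ Ideal.Quotient.mk_surjective
    exact (isUnit_of_map_unit φ b (isUnit_of_map_unit _ _ hb')).map _
  show LocCoh.IsGorensteinLocalRing (C ⧸ I.map (algebraMap B C)) ↔
    LocCoh.IsGorensteinLocalRing (B ⧸ I) ∧ LocCoh.IsGorensteinLocalRing (C ⧸ (maximalIdeal B).map φ)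
  rw [LC.gorenstein_flat_local_iff (B ⧸ I) (C ⧸ I.map (algebraMap B C))]
  refine and_congr_right fun _ => ?_
  refine gor_congr ?_
  have hmB : maximalIdeal (B ⧸ I) = (maximalIdeal B).map (Ideal.Quotient.mk I) :=
    (IsLocalRing.map_maximalIdeal_of_surjective _ Ideal.Quotient.mk_surjective).symm
  refine (Ideal.quotEquivOfEq (show (maximalIdeal (B ⧸ I)).map (algebraMap (B ⧸ I) (C ⧸ I.map (algebraMap B C))) =
    ((maximalIdeal B).map φ).map (Ideal.Quotient.mk (I.map φ)) from ?_)).trans
    (DoubleQuot.quotQuotEquivQuotOfLE (Ideal.map_mono hIm))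
  rw [hmB]
  exact (Ideal.map_map (Ideal.Quotient.mk I) (algebraMap (B ⧸ I) (C ⧸ I.map (algebraMap B C)))).trans
    (Ideal.map_map φ (Ideal.Quotient.mk (I.map φ))).symm

/-- The local rings of the tensor product of two fields, one of them finitely generated. -/
theorem gor_stalk_of_field_pullback {k K L : Type u} [Field k] [Field K] [Field L] [Algebra k K]
    [Algebra k L] (hfg : Algebra.EssFiniteType k K ∨ Algebra.EssFiniteType k L) {G : Scheme.{u}}
    {a : G ⟶ Spec (CommRingCat.of K)} {b : G ⟶ Spec (CommRingCat.of L)}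
    (h : IsPullback a b (Spec.map (CommRingCat.ofHom (algebraMap k K))) (Spec.map (CommRingCat.ofHom (algebraMap k L))))
    (w : G) : LocCoh.IsGorensteinLocalRing (G.presheaf.stalk w) := by
  haveI : LocCoh.IsGorensteinRing K := LC.gorensteinRing_of_isRegularRing K
  haveI : LocCoh.IsGorensteinRing L := LC.gorensteinRing_of_isRegularRing L
  haveI : LocCoh.IsGorensteinRing (K ⊗[k] L) := by
    rcases hfg with hK | hL
    · haveI := hK
      exact LC.gorensteinRing_field_tensor k L K
    · haveI := hL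
      exact LC.gorensteinRing_of_ringEquiv (Algebra.TensorProduct.comm k L K).toRingEquiv
        (LC.gorensteinRing_field_tensor k K L)
  let e : G ⟶ Spec (CommRingCat.of (K ⊗[k] L)) := (h.isoPullback ≪≫ pullbackSpecIso k K L).hom
  let v := e w
  refine gor_of_equiv ((asIso (e.stalkMap w)).commRingCatIsoToRingEquiv) ?_
  exact gor_of_equiv (Spec.stalkIso (CommRingCat.of (K ⊗[k] L)) v).symm.commRingCatIsoToRingEquiv
    (LocCoh.IsGorensteinRing.isGorensteinLocalRing_localization v.asIdeal)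

variable {X' T : Scheme.{u}} {f : X ⟶ S} {f' : X' ⟶ T} {g' : X' ⟶ X} {g : T ⟶ S}

/-- Gorensteinness of the local rings of the fibres along a base change, in which either the residue
field extension or the fibre is of finite type. -/
theorem gor_fibre_iff (hc : IsPullback g' f' f g) (x' : X')
    (hft : LocallyOfFiniteType g ∨ LocallyOfFiniteType f)
    (hN : IsNoetherianRing
      (↑(X'.presheaf.stalk x') ⧸ (maximalIdeal (T.presheaf.stalk (f' x'))).map (FibFlat.sm f' x' (f' x') rfl))) :
    LocCoh.IsGorensteinLocalRing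
        (↑(X'.presheaf.stalk x') ⧸ (maximalIdeal (T.presheaf.stalk (f' x'))).map (FibFlat.sm f' x' (f' x') rfl)) ↔
      LocCoh.IsGorensteinLocalRing
        (↑(X.presheaf.stalk (g' x')) ⧸
          (maximalIdeal (S.presheaf.stalk (f (g' x')))).map (FibFlat.sm f (g' x') (f (g' x')) rfl)) := by
  have hy : f (g' x') = g (f' x') := by rw [← Scheme.Hom.comp_apply, hc.w, Scheme.Hom.comp_apply]
  have hI : LocCoh.IsGorensteinLocalRing
        (↑(X.presheaf.stalk (g' x')) ⧸
          (maximalIdeal (S.presheaf.stalk (f (g' x')))).map (FibFlat.sm f (g' x') (f (g' x')) rfl)) ↔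
      LocCoh.IsGorensteinLocalRing
        (↑(X.presheaf.stalk (g' x')) ⧸
          (maximalIdeal (S.presheaf.stalk (g (f' x')))).map (FibFlat.sm f (g' x') (g (f' x')) hy)) :=
    gor_congr (Ideal.quotEquivOfEq (FibFlat.map_max_sm f (g' x') _ hy))
  rw [hI]
  obtain ⟨e, he, hι⟩ := ConsPropLib.exists_fibre_pullback hc (f' x')
  let z' := f'.asFiber x'
  have hz' : f'.fiberι (f' x') z' = x' := f'.fiberι_asFiber x'
  have hz : f.fiberι (g (f' x')) (e z') = g' x' := by
    rw [← Scheme.Hom.comp_apply, hι, Scheme.Hom.comp_apply, hz']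
  obtain ⟨E'⟩ := Triage.CMMor.exists_equiv_fibre_stalk_aux f' x' (f' x') rfl z' hz'
  obtain ⟨E⟩ := Triage.CMMor.exists_equiv_fibre_stalk_aux f (g' x') (g (f' x')) hy (e z') hz
  haveI : IsNoetherianRing ((f'.fiber (f' x')).presheaf.stalk z') :=
    @isNoetherianRing_of_ringEquiv _ _ _ _ E' hN
  rw [gor_congr E', gor_congr E]
  haveI : Flat e := by
    have h1 : Flat (Spec.map (g.residueFieldMap (f' x'))) := by
      rw [Flat.SpecMap_iff]
      let := (g.residueFieldMap (f' x')).hom.toAlgebra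
      exact RingHom.flat_algebraMap_iff.2 inferInstance
    exact MorphismProperty.of_isPullback (P := (@Flat : MorphismProperty Scheme.{u})) he.flip h1
  letI : Algebra ((f.fiber (g (f' x'))).presheaf.stalk (e z')) ((f'.fiber (f' x')).presheaf.stalk z') :=
    (e.stalkMap z').hom.toAlgebra
  haveI : IsLocalHom (algebraMap ((f.fiber (g (f' x'))).presheaf.stalk (e z')) ((f'.fiber (f' x')).presheaf.stalk z')) :=
    inferInstanceAs (IsLocalHom (e.stalkMap z').hom)
  haveI : Module.Flat ((f.fiber (g (f' x'))).presheaf.stalk (e z')) ((f'.fiber (f' x')).presheaf.stalk z') :=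
    Flat.stalkMap e z'
  haveI : IsNoetherianRing ((f.fiber (g (f' x'))).presheaf.stalk (e z')) := by
    haveI : IsNoetherianRing (((f'.fiber (f' x')).presheaf.stalk z') ⧸
        (⊥ : Ideal ((f.fiber (g (f' x'))).presheaf.stalk (e z'))).map (e.stalkMap z').hom) := inferInstance
    haveI := Triage.CMMor.isNoetherian_fibre_of_flat (e.stalkMap z').hom (Flat.stalkMap e z') ⊥
    exact isNoetherianRing_of_ringEquiv _ (RingEquiv.quotientBot _)
  rw [LC.gorenstein_flat_local_iff ((f.fiber (g (f' x'))).presheaf.stalk (e z'))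
    ((f'.fiber (f' x')).presheaf.stalk z')]
  refine ⟨And.left, fun h => ⟨h, ?_⟩⟩
  refine (gor_congr (Triage.CMMor.exists_equiv_fibre_stalk e z').some).2 ?_
  -- the fibre of `e` is the base change of a field extension
  let F := f.fiber (g (f' x'))
  let k := S.residueField (g (f' x'))
  obtain ⟨φ, hφ⟩ := Spec.map_surjective (F.fromSpecResidueField (e z') ≫ f.fiberToSpecResidueField (g (f' x')))
  have hk : LocallyOfFiniteType f → φ.hom.EssFiniteType := fun _ =>
    CMBCAny.essFiniteType_of_fromSpecResidueField (Field.toIsField k) (f.fiberToSpecResidueField (g (f' x')))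
      (e z') φ hφ
  letI : Field k := inferInstance
  letI : Algebra k (F.residueField (e z')) := φ.hom.toAlgebra
  letI : Algebra k (T.residueField (f' x')) := (g.residueFieldMap (f' x')).hom.toAlgebra
  refine gor_stalk_of_field_pullback (k := k) (K := F.residueField (e z')) (L := T.residueField (f' x'))
    ?_ (a := pullback.snd e (F.fromSpecResidueField (e z')))
    (b := pullback.fst e (F.fromSpecResidueField (e z')) ≫ f'.fiberToSpecResidueField (f' x')) ?_ _
  · rcases hft with hg | hf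
    · haveI := hg
      exact .inr (Triage.CMBC.essFiniteType_residueFieldMap g (f' x'))
    · exact .inl (hk hf)
  show IsPullback _ _ (Spec.map φ) (Spec.map (g.residueFieldMap (f' x')))
  rw [hφ]
  exact (IsPullback.of_hasPullback e (F.fromSpecResidueField (e z'))).flip.paste_vert he

/-- Gorensteinness at a point passes to a base change. -/
theorem isGorensteinAt_iff_of_isPullback (hc : IsPullback g' f' f g) (x' : X')
    (hft : LocallyOfFiniteType g ∨ LocallyOfFiniteType f)
    (hN : IsNoetherianRing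
      (↑(X'.presheaf.stalk x') ⧸ (maximalIdeal (T.presheaf.stalk (f' x'))).map (FibFlat.sm f' x' (f' x') rfl)))
    (hf : (f.stalkMap (g' x')).hom.Flat) :
    Dual3.IsGorensteinAt f' x' ↔ Dual3.IsGorensteinAt f (g' x') := by
  rw [isGorensteinAt_iff_sm f' x' (f' x') rfl, isGorensteinAt_iff_sm f (g' x') (f (g' x')) rfl]
  exact and_congr (iff_of_true ((FibFlat.sm_flat_iff f' x' (f' x') rfl).2
    (Triage.CMBC.flat_stalk_of_isPullback hc x' hf)) ((FibFlat.sm_flat_iff f (g' x') (f (g' x')) rfl).2 hf))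
    (gor_fibre_iff hc x' hft hN)

/-- Flatness at a point descends along a flat base change. -/
theorem flat_stalk_of_flat_base (hc : IsPullback g' f' f g) (x' : X')
    (hg : (g.stalkMap (f' x')).hom.Flat) (hf' : (f'.stalkMap x').hom.Flat) :
    (f.stalkMap (g' x')).hom.Flat := by
  have hg' : (g'.stalkMap x').hom.Flat := Triage.CMBC.flat_stalk_of_isPullback hc.flip x' hg
  have hy : g (f' x') = f (g' x') := by rw [← Scheme.Hom.comp_apply, ← hc.w, Scheme.Hom.comp_apply]
  have hgf' : (g.stalkMap (f' x') ≫ f'.stalkMap x').hom.Flat := RingHom.Flat.comp hg hf'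
  rw [← FibFlat.sm_flat_iff f (g' x') (f (g' x')) rfl]
  refine Triage.CMMor.flat_of_comp (FibFlat.sm f (g' x') (f (g' x')) rfl) (FibFlat.sm g' x' (g' x') rfl)
    ((FibFlat.sm_flat_iff g' x' (g' x') rfl).2 hg') ?_
  rw [← FibFlat.sm_comp g' f x' (g' x') (f (g' x')) rfl rfl,
    FibFlat.sm_congr hc.w x' (f (g' x')) rfl, FibFlat.sm_flat_iff, Scheme.Hom.stalkMap_comp]
  exact hgf'

/-- Gorensteinness at a point and composition. -/
theorem isGorensteinAt_comp_iff {Z : Scheme.{u}} (f : X ⟶ S) (h : S ⟶ Z) (x : X)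
    (hf : (f.stalkMap x).hom.Flat) (hNg : IsLocallyNoetherian (h.fiber (h (f x))))
    (hNc : IsLocallyNoetherian ((f ≫ h).fiber (h (f x)))) :
    Dual3.IsGorensteinAt (f ≫ h) x ↔ Dual3.IsGorensteinAt f x ∧ Dual3.IsGorensteinAt h (f x) := by
  rw [isGorensteinAt_iff_sm (f ≫ h) x (h (f x)) rfl, isGorensteinAt_iff_sm f x (f x) rfl,
    isGorensteinAt_iff_sm h (f x) (h (f x)) rfl]
  haveI := Triage.CMMor.isNoetherianRing_fibre_stalk_sm h (f x) (h (f x)) rfl hNg
  haveI := Triage.CMMor.isNoetherianRing_fibre_stalk_sm (f ≫ h) x (h (f x)) rfl hNc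
  have hf1 := (FibFlat.sm_flat_iff f x (f x) rfl).2 hf
  have e := FibFlat.sm_comp f h x (f x) (h (f x)) rfl rfl
  haveI : IsNoetherianRing (↑(X.presheaf.stalk x) ⧸ (maximalIdeal (Z.presheaf.stalk (h (f x)))).map
      ((FibFlat.sm f x (f x) rfl).comp (FibFlat.sm h (f x) (h (f x)) rfl))) := by
    rw [← e]; infer_instance
  rw [e, gor_fibre_comp (FibFlat.sm h (f x) (h (f x)) rfl) (FibFlat.sm f x (f x) rfl) hf1]
  constructor
  · rintro ⟨h1, h2, h3⟩
    exact ⟨⟨hf1, h3⟩, Triage.CMMor.flat_of_comp _ _ hf1 h1, h2⟩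
  · rintro ⟨⟨-, h3⟩, h1, h2⟩
    exact ⟨RingHom.Flat.comp h1 hf1, h2, h3⟩

end Groth.Agent.Dual349
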