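import Groth.Agent.Dual349.DualizingLocal
import Groth.Agent.Dual349.GorMor
import Groth.Agent.KFlatLib.Ring.DualizingFibreRows
import Groth.Agent.LC.GorLCI

/-!
# Dualizing complexes and flat inverse images
-/

set_option autoImplicit false
set_option linter.style.haveILetI false
set_option backward.isDefEq.respectTransparency false
set_option backward.isDefEq.respectTransparency.types false

universe u

open CategoryTheory CategoryTheory.Limits AlgebraicGeometry IsLocalRing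

attribute [local instance] HasDerivedCategory.standard

namespace Groth.Agent.Dual349

open KFlatLib

theorem gor_quot_congr {A A' B B' : Type u} [CommRing A] [CommRing A'] [CommRing B] [CommRing B'] [IsLocalRing A]
    [IsLocalRing A'] (φ : A →+* B) (φ' : A' →+* B') (a : A ≃+* A') (b : B ≃+* B')
    (h : ∀ z, b (φ z) = φ' (a z)) :
    LocCoh.IsGorensteinLocalRing (B ⧸ (maximalIdeal A).map φ) ↔
      LocCoh.IsGorensteinLocalRing (B' ⧸ (maximalIdeal A').map φ') :=
  gor_congr (Ideal.quotientEquiv _ _ b (by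
    have hm : maximalIdeal A' = (maximalIdeal A).map a.toRingHom :=
      (IsLocalRing.map_maximalIdeal_of_surjective _ a.surjective).symm
    rw [hm, Ideal.map_map, Ideal.map_map]
    exact congrArg (fun g => Ideal.map g (maximalIdeal A)) (RingHom.ext fun z => (h z).symm)))

variable {X Y : Scheme.{u}}

/-- On affine charts a Gorenstein morphism has Gorenstein fibre rings. -/
theorem gorenstein_fibLoc_appLE (f : X ⟶ Y) {U : Y.Opens} (hU : IsAffineOpen U) {V : X.Opens}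
    (hV : IsAffineOpen V) (hVU : V ≤ f ⁻¹ᵁ U) (hG : ∀ x ∈ V, Dual3.IsGorensteinAt f x)
    (q : PrimeSpectrum Γ(X, V)) :
    letI := (f.appLE U V hVU).hom.toAlgebra
    LocCoh.IsGorensteinLocalRing (Localization.AtPrime q.asIdeal ⧸
      (q.asIdeal.comap (algebraMap Γ(Y, U) Γ(X, V))).map (algebraMap Γ(Y, U) (Localization.AtPrime q.asIdeal))) := by
  letI := (f.appLE U V hVU).hom.toAlgebra
  let x := hV.fromSpec q
  have hx : x ∈ V := by
    have : x ∈ Set.range hV.fromSpec.base := ⟨q, rfl⟩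
    rw [hV.range_fromSpec] at this
    exact this
  have hq : hV.primeIdealOf ⟨x, hx⟩ = q :=
    hV.fromSpec.isOpenEmbedding.injective (hV.fromSpec_primeIdealOf ⟨x, hx⟩)
  have key : ∀ (q' : PrimeSpectrum Γ(X, V)), hV.primeIdealOf ⟨x, hx⟩ = q' →
      LocCoh.IsGorensteinLocalRing (Localization.AtPrime q'.asIdeal ⧸
        (q'.asIdeal.comap (algebraMap Γ(Y, U) Γ(X, V))).map
          (algebraMap Γ(Y, U) (Localization.AtPrime q'.asIdeal))) := by
    rintro _ rfl
    let p := (hU.primeIdealOf ⟨f x, hVU hx⟩).asIdeal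
    let Q := (hV.primeIdealOf ⟨x, hx⟩).asIdeal
    have hpQ : Q.comap (f.appLE U V hVU).hom = p :=
      congr($(IsAffineOpen.comap_primeIdealOf_appLE U hU V hV hVU hx).1)
    let i := IsAffineOpen.arrowStalkMapIso f U hU V hV hVU hx
    let a := (Arrow.leftFunc.mapIso i).commRingCatIsoToRingEquiv
    let b := (Arrow.rightFunc.mapIso i).commRingCatIsoToRingEquiv
    have h1 := (gor_quot_congr (f.stalkMap x).hom (Localization.localRingHom p Q (f.appLE U V hVU).hom hpQ.symm)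
      a b (fun z => (RingHom.congr_fun (congrArg CommRingCat.Hom.hom i.hom.w) z).symm)).1
        ((isGorensteinAt_iff_stalk f x).1 (hG x hx)).2
    refine gor_of_equiv (Ideal.quotEquivOfEq ?_) h1
    show (maximalIdeal (Localization.AtPrime p)).map _ = (Q.comap (f.appLE U V hVU).hom).map _
    refine Eq.trans ?_ (congrArg (Ideal.map (algebraMap Γ(Y, U) (Localization.AtPrime Q))) hpQ.symm)
    rw [← Localization.AtPrime.map_eq_maximalIdeal (I := p), Ideal.map_map]
    exact congrArg (fun g => Ideal.map g p) (RingHom.ext fun z => by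
      rw [RingHom.comp_apply, Localization.localRingHom_to_map]
      exact (IsScalarTower.algebraMap_apply Γ(Y, U) Γ(X, V) (Localization.AtPrime Q) z).symm)
  exact key q hq

variable [∀ (R : CommRingCat.{u}), PreservesFiniteLimits (tilde.functor R)]

/-- The inverse image on an affine chart is base change. -/
theorem nonempty_chart_pull_iso (f : X ⟶ Y) [DCoh.HasLpull f] {U : Y.Opens} (hU : IsAffineOpen U) {V : X.Opens}
    (hV : IsAffineOpen V) (hVU : V ≤ f ⁻¹ᵁ U) [DRing.HasLBaseChange (f.appLE U V hVU).hom] (K : DCoh.D Y)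
    (w : Dual.D Γ(Y, U)) (e : (rho hU.fromSpec).obj K ≅ (DCoh.tildeD Γ(Y, U)).obj w) :
    Nonempty ((rho hV.fromSpec).obj ((DCoh.Lpull f).obj K) ≅
      (DCoh.tildeD Γ(X, V)).obj ((DRing.LBaseChange (f.appLE U V hVU).hom).obj w)) := by
  let g := Spec.map (f.appLE U V hVU)
  have hfac : g ≫ hU.fromSpec = hV.fromSpec ≫ f := hU.SpecMap_appLE_fromSpec f hV hVU
  haveI := hasLpull g
  haveI := hasLpull hV.fromSpec
  haveI := hasLpull (hV.fromSpec ≫ f)
  haveI := hasLpull (Spec.map (CommRingCat.ofHom (f.appLE U V hVU).hom))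
  obtain ⟨c⟩ := nonempty_lpull_comp hV.fromSpec f
  obtain ⟨d⟩ := nonempty_lpull_factor g hU.fromSpec (hV.fromSpec ≫ f) hfac K
  obtain ⟨t⟩ := nonempty_tildeD_lpull_iso (A := Γ(Y, U)) (B := Γ(X, V)) (f.appLE U V hVU).hom
  exact ⟨rhoLpullIso _ _ ≪≫ c.app K ≪≫ d.symm ≪≫ (DCoh.Lpull g).mapIso e ≪≫ (t.app w).symm⟩

theorem isNoetherianRing_sections [IsLocallyNoetherian Y] {U : Y.Opens} (hU : IsAffineOpen U) :
    IsNoetherianRing Γ(Y, U) :=
  IsLocallyNoetherian.component_noetherian ⟨U, hU⟩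

/-- A flat finite type chart with Gorenstein fibres carries dualizing complexes upstairs. -/
theorem isDualizingChart_pull [IsLocallyNoetherian X] (f : X ⟶ Y) [DCoh.HasLpull f] {U : Y.Opens} (hU : IsAffineOpen U) {V : X.Opens}
    (hV : IsAffineOpen V) (hVU : V ≤ f ⁻¹ᵁ U) (hflat : (f.appLE U V hVU).hom.Flat)
    (hft : (f.appLE U V hVU).hom.FiniteType)
    (hG : letI := (f.appLE U V hVU).hom.toAlgebra; ∀ q : PrimeSpectrum Γ(X, V),
      LocCoh.IsGorensteinLocalRing (Localization.AtPrime q.asIdeal ⧸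
        (q.asIdeal.comap (algebraMap Γ(Y, U) Γ(X, V))).map (algebraMap Γ(Y, U) (Localization.AtPrime q.asIdeal))))
    (K : DCoh.D Y) (h : IsDualizingChart K hU.fromSpec) :
    IsDualizingChart ((DCoh.Lpull f).obj K) hV.fromSpec := by
  obtain ⟨w, hw, ⟨e⟩⟩ := h
  letI := (f.appLE U V hVU).hom.toAlgebra
  haveI : Module.Flat Γ(Y, U) Γ(X, V) := hflat
  haveI : Algebra.FiniteType Γ(Y, U) Γ(X, V) := hft
  haveI := hw.isNoetherianRing
  haveI := isNoetherianRing_sections hV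
  haveI : DRing.HasLBaseChange (f.appLE U V hVU).hom := H9Misc.DRingLBase.hasLBaseChange _
  haveI : DTen.HasLBase (algebraMap Γ(Y, U) Γ(X, V)) := hasLBase _
  haveI : DRing.HasLBaseChange (algebraMap Γ(Y, U) Γ(X, V)) := H9Misc.DRingLBase.hasLBaseChange _
  obtain ⟨e'⟩ := nonempty_chart_pull_iso f hU hV hVU K w e
  obtain ⟨d⟩ := nonempty_LBaseChange_iso (algebraMap Γ(Y, U) Γ(X, V))
  exact ⟨_, isDualizing_of_iso (d.app w).symm (isDualizing_LBase_of_gorenstein_fibres hw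
    (ringKrullDim_lt_top_of_finiteType (ringKrullDim_lt_top_of_isDualizing hw)) hG), ⟨e'⟩⟩

variable [∀ (U : Scheme.{u}) (j : U ⟶ Y) [IsOpenImmersion j], PreservesFiniteLimits (Scheme.Modules.restrictFunctor j)]
  [∀ (U : Scheme.{u}) (j : U ⟶ X) [IsOpenImmersion j], PreservesFiniteLimits (Scheme.Modules.restrictFunctor j)]

/-- Inverse images of dualizing complexes along Gorenstein morphisms of finite type. -/
theorem isDualizingSch_Lpull [IsLocallyNoetherian X] (f : X ⟶ Y) [LocallyOfFiniteType f]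
    (hG : Dual3.IsGorensteinMor f) [DCoh.HasLpull f] {K : DCoh.D Y} (hK : Dual2.IsDualizingSch Y K) :
    Dual2.IsDualizingSch X ((DCoh.Lpull f).obj K) := by
  refine isDualizingSch_of_charts fun x => ?_
  obtain ⟨U, hU, hxU, -⟩ := exists_isAffineOpen_mem_and_subset (x := f x) (U := ⊤) trivial
  obtain ⟨V, hV, hxV, hVU⟩ := exists_isAffineOpen_mem_and_subset (x := x) (U := f ⁻¹ᵁ U) hxU
  haveI : Flat f := (Flat.iff_flat_stalkMap f).2 fun x => (hG x).1
  refine ⟨Γ(X, V), inferInstance, hV.fromSpec, inferInstance, (Set.ext_iff.1 (IsAffineOpen.range_fromSpec hV) x).2 hxV,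
    isDualizingChart_pull f hU hV hVU (f.flat_appLE hU hV hVU) (f.finiteType_appLE hU hV hVU)
      (gorenstein_fibLoc_appLE f hU hV hVU fun x _ => hG x) K (hK Γ(Y, U) hU.fromSpec)⟩

/-- Inverse images of dualizing complexes along flat local complete intersection morphisms. -/
theorem isDualizingSch_Lpull_lci [IsLocallyNoetherian X] [IsLocallyNoetherian Y] (f : X ⟶ Y) [Flat f]
    (hf : Dual3.IsLCIMor f) [DCoh.HasLpull f] {K : DCoh.D Y} (hK : Dual2.IsDualizingSch Y K) :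
    Dual2.IsDualizingSch X ((DCoh.Lpull f).obj K) := by
  refine isDualizingSch_of_charts fun x => ?_
  obtain ⟨⟨V, hV⟩, ⟨U, hU⟩, hVU, hxV, hl⟩ := hf x
  letI := (f.appLE U V hVU).hom.toAlgebra
  haveI : Module.Flat Γ(Y, U) Γ(X, V) := f.flat_appLE hU hV hVU
  haveI := isNoetherianRing_sections hU
  haveI := isNoetherianRing_sections hV
  refine ⟨Γ(X, V), inferInstance, hV.fromSpec, inferInstance, (Set.ext_iff.1 (IsAffineOpen.range_fromSpec hV) x).2 hxV,
    isDualizingChart_pull f hU hV hVU (f.flat_appLE hU hV hVU) hl.1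
      (fun q => LC.fibLoc_of_fiber q.asIdeal fun p _ => ?_) K (hK Γ(Y, U) hU.fromSpec)⟩
  exact LC.gorensteinRing_of_ringEquiv (Algebra.TensorProduct.comm Γ(Y, U) Γ(X, V) p.ResidueField).toRingEquiv
    (LC.gorensteinRing_fibre_of_isLCI Γ(Y, U) Γ(X, V) hl p)

/-- Dualizing complexes descend along flat surjections which are open or quasi-compact. -/
theorem isDualizingSch_of_Lpull [IsLocallyNoetherian X] [IsLocallyNoetherian Y] (f : X ⟶ Y) [Flat f] [Surjective f]
    (hcov : ∀ (U : Y.Opens), IsAffineOpen U → ∃ (n : ℕ) (V : Fin n → X.Opens), (∀ i, IsAffineOpen (V i)) ∧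
      (∀ i, V i ≤ f ⁻¹ᵁ U) ∧ ∀ y ∈ U, ∃ i, ∃ x ∈ V i, f x = y)
    [DCoh.HasLpull f] {K : DCoh.D Y} (hKq : DCoh.IsQCohD K) (hX : Dual2.IsDualizingSch X ((DCoh.Lpull f).obj K)) :
    Dual2.IsDualizingSch Y K := by
  refine isDualizingSch_of_charts fun y => ?_
  obtain ⟨U, hU, hyU, -⟩ := exists_isAffineOpen_mem_and_subset (x := y) (U := ⊤) trivial
  haveI := isNoetherianRing_sections hU
  obtain ⟨n, V, hV, hVU, hsurj⟩ := hcov U hU
  obtain ⟨w, ⟨e⟩⟩ := exists_tildeD_iso (R := Γ(Y, U)) (isQCohD_rho hU.fromSpec hKq)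
  refine ⟨Γ(Y, U), inferInstance, hU.fromSpec, inferInstance, (Set.ext_iff.1 hU.range_fromSpec y).2 hyU, w, ?_,
    ⟨e.symm⟩⟩
  letI : ∀ i, Algebra Γ(Y, U) Γ(X, V i) := fun i => (f.appLE U (V i) (hVU i)).hom.toAlgebra
  haveI : ∀ i, Module.Flat Γ(Y, U) Γ(X, V i) := fun i => f.flat_appLE hU (hV i) (hVU i)
  haveI : ∀ i, DTen.HasLBase (algebraMap Γ(Y, U) Γ(X, V i)) := fun i => hasLBase _
  refine isDualizing_of_finite_family (B := fun i : Fin n => Γ(X, V i)) (fun m hm => ?_) fun i => ?_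
  · obtain ⟨i, x, hx, hfx⟩ := hsurj (hU.fromSpec ⟨m, hm.isPrime⟩) (by
      have : hU.fromSpec ⟨m, hm.isPrime⟩ ∈ Set.range hU.fromSpec.base := ⟨_, rfl⟩
      rw [hU.range_fromSpec] at this
      exact this)
    refine ⟨i, fun htop => ((hV i).primeIdealOf ⟨x, hx⟩).isPrime.ne_top
      (top_le_iff.1 (htop ▸ Ideal.map_le_iff_le_comap.2 ?_))⟩
    have h1 := IsAffineOpen.comap_primeIdealOf_appLE (f := f) U hU (V i) (hV i) (hVU i) hx
    have h2 : hU.primeIdealOf ⟨f x, hVU i hx⟩ = ⟨m, hm.isPrime⟩ :=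
      hU.fromSpec.isOpenEmbedding.injective ((hU.fromSpec_primeIdealOf _).trans hfx)
    exact le_of_eq (congrArg PrimeSpectrum.asIdeal (h1.trans h2)).symm
  · haveI : DRing.HasLBaseChange (f.appLE U (V i) (hVU i)).hom := H9Misc.DRingLBase.hasLBaseChange _
    haveI : DTen.HasLBase (f.appLE U (V i) (hVU i)).hom := hasLBase _
    obtain ⟨v, hv, ⟨ev⟩⟩ := hX Γ(X, V i) (hV i).fromSpec
    obtain ⟨e'⟩ := nonempty_chart_pull_iso f hU (hV i) (hVU i) K w e.symm
    obtain ⟨c⟩ := nonempty_iso_of_tildeD (R := Γ(X, V i)) (ev.symm ≪≫ e')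
    obtain ⟨d⟩ := nonempty_LBaseChange_iso (f.appLE U (V i) (hVU i)).hom
    exact isDualizing_of_iso (c ≪≫ d.app w) hv

omit [∀ (R : CommRingCat.{u}), PreservesFiniteLimits (tilde.functor R)]
  [∀ (U : Scheme.{u}) (j : U ⟶ Y) [IsOpenImmersion j], PreservesFiniteLimits (Scheme.Modules.restrictFunctor j)]
  [∀ (U : Scheme.{u}) (j : U ⟶ X) [IsOpenImmersion j], PreservesFiniteLimits (Scheme.Modules.restrictFunctor j)] in
theorem exists_affines_quasiCompact (f : X ⟶ Y) [Surjective f] [QuasiCompact f] (U : Y.Opens) (hU : IsAffineOpen U) :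
    ∃ (n : ℕ) (V : Fin n → X.Opens), (∀ i, IsAffineOpen (V i)) ∧
      (∀ i, V i ≤ f ⁻¹ᵁ U) ∧ ∀ y ∈ U, ∃ i, ∃ x ∈ V i, f x = y := by
  choose W hW hxW hWU using fun x : ↥(f ⁻¹ᵁ U) => exists_isAffineOpen_mem_and_subset (x := x.1) (U := f ⁻¹ᵁ U) x.2
  obtain ⟨t, ht⟩ := (f.isCompact_preimage hU.isCompact).elim_finite_subcover (fun x => (W x : Set X))
    (fun x => (W x).2) fun x hx => Set.mem_iUnion.2 ⟨⟨x, hx⟩, hxW _⟩
  refine ⟨t.card, fun i => W (t.equivFin.symm i).1, fun i => hW _, fun i => hWU _, fun y hy => ?_⟩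
  obtain ⟨x, rfl⟩ := f.surjective y
  obtain ⟨z, hz, hxz⟩ := Set.mem_iUnion₂.1 (ht hy)
  exact ⟨t.equivFin ⟨z, hz⟩, x, by simpa using hxz, rfl⟩

omit [∀ (R : CommRingCat.{u}), PreservesFiniteLimits (tilde.functor R)]
  [∀ (U : Scheme.{u}) (j : U ⟶ Y) [IsOpenImmersion j], PreservesFiniteLimits (Scheme.Modules.restrictFunctor j)]
  [∀ (U : Scheme.{u}) (j : U ⟶ X) [IsOpenImmersion j], PreservesFiniteLimits (Scheme.Modules.restrictFunctor j)] in
theorem exists_affines_open (f : X ⟶ Y) [Surjective f] [UniversallyOpen f] (U : Y.Opens) (hU : IsAffineOpen U) :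
    ∃ (n : ℕ) (V : Fin n → X.Opens), (∀ i, IsAffineOpen (V i)) ∧
      (∀ i, V i ≤ f ⁻¹ᵁ U) ∧ ∀ y ∈ U, ∃ i, ∃ x ∈ V i, f x = y := by
  choose W hW hxW hWU using fun x : ↥(f ⁻¹ᵁ U) => exists_isAffineOpen_mem_and_subset (x := x.1) (U := f ⁻¹ᵁ U) x.2
  obtain ⟨t, ht⟩ := hU.isCompact.elim_finite_subcover (fun x => f.base '' (W x : Set X))
    (fun x => f.isOpenMap _ (W x).2) fun y hy => by
      obtain ⟨x, rfl⟩ := f.surjective y
      exact Set.mem_iUnion.2 ⟨⟨x, hy⟩, x, hxW _, rfl⟩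
  refine ⟨t.card, fun i => W (t.equivFin.symm i).1, fun i => hW _, fun i => hWU _, fun y hy => ?_⟩
  obtain ⟨z, hz, x, hx, hxy⟩ := Set.mem_iUnion₂.1 (ht hy)
  exact ⟨t.equivFin ⟨z, hz⟩, x, by simpa using hx, hxy⟩

end Groth.Agent.Dual349
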