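import Groth.Agent.Dual349.Frobenius
import Groth.Agent.Dual349.DualizingPull
import Groth.Agent.DualityLC.GorLocus
import Groth.Agent.AlgSpC7.GorScheme
import Groth.Agent.CMOpen5.Open
import Groth.Agent.LC.GorHull

/-!
# Openness of the Gorenstein locus of a morphism
-/

set_option autoImplicit false
set_option linter.style.haveILetI false
set_option backward.isDefEq.respectTransparency false
set_option backward.isDefEq.respectTransparency.types false

universe u

open CategoryTheory CategoryTheory.Limits AlgebraicGeometry IsLocalRing TensorProduct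

attribute [local instance] HasDerivedCategory.standard

namespace Groth.Agent.Dual349.GorOpen

open Groth.Agent Groth.Agent.Dual349

/-- The morphism of spectra of an algebra. -/
noncomputable abbrev specMap (A B : Type u) [CommRing A] [CommRing B] [Algebra A B] :
    Spec (CommRingCat.of B) ⟶ Spec (CommRingCat.of A) :=
  Spec.map (CommRingCat.ofHom (algebraMap A B))

theorem isGorensteinAt_specMap_iff {A B : Type u} [CommRing A] [CommRing B] [Algebra A B] [Module.Flat A B]
    (q : PrimeSpectrum B) :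
    Dual3.IsGorensteinAt (specMap A B) q ↔ LocCoh.IsGorensteinLocalRing (EGA4.FibLocRing A B q.asIdeal) := by
  haveI : Flat (specMap A B) := Flat.SpecMap_iff.2 (RingHom.flat_algebraMap_iff.2 inferInstance)
  rw [isGorensteinAt_iff_stalk]
  refine (and_iff_right (Flat.stalkMap (specMap A B) _)).trans ?_
  let p := q.asIdeal.comap (algebraMap A B)
  let i := Scheme.arrowStalkMapSpecIso (CommRingCat.ofHom (algebraMap A B)) q
  let a := (Arrow.leftFunc.mapIso i).commRingCatIsoToRingEquiv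
  let b := (Arrow.rightFunc.mapIso i).commRingCatIsoToRingEquiv
  refine (gor_quot_congr ((specMap A B).stalkMap q).hom
    (Localization.localRingHom p q.asIdeal (algebraMap A B) rfl)
    a b (fun z => (RingHom.congr_fun (congrArg CommRingCat.Hom.hom i.hom.w) z).symm)).trans
    (gor_congr (Ideal.quotEquivOfEq ?_))
  rw [← Localization.AtPrime.map_eq_maximalIdeal (I := p), Ideal.map_map]
  exact congrArg (fun g => Ideal.map g p) (RingHom.ext fun z => by
    rw [RingHom.comp_apply, Localization.localRingHom_to_map]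
    exact (IsScalarTower.algebraMap_apply A B (Localization.AtPrime q.asIdeal) z).symm)

/-- A finite flat morphism is Gorenstein near a Gorenstein fibre with one point. -/
theorem exists_nhd_finite {A C : Type u} [CommRing A] [CommRing C] [Algebra A C] [Module.Finite A C]
    [Algebra.FinitePresentation A C] [Module.Flat A C] (c : PrimeSpectrum C)
    (huniq : ∀ c' : PrimeSpectrum C, c'.asIdeal.comap (algebraMap A C) = c.asIdeal.comap (algebraMap A C) → c' = c)
    (hG : Dual3.IsGorensteinAt (specMap A C) c) :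
    ∃ W : Set (PrimeSpectrum C), IsOpen W ∧ c ∈ W ∧ ∀ c' ∈ W, Dual3.IsGorensteinAt (specMap A C) c' := by
  let P := c.asIdeal.comap (algebraMap A C)
  haveI : Module.FinitePresentation A C := Module.FinitePresentation.of_finite_of_finitePresentation A C
  obtain ⟨Q₀, hQ₀⟩ := FlatLoc6.exists_fiber_prime P c.asIdeal rfl
  have hall : ∀ Q : PrimeSpectrum (P.Fiber C), Q = Q₀ := fun Q => by
    apply (PrimeSpectrum.primesOverOrderIsoFiber A C P).symm.injective
    apply Subtype.ext
    have h1 := fun Q' : PrimeSpectrum (P.Fiber C) =>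
      congrArg PrimeSpectrum.asIdeal (huniq ⟨_, ((PrimeSpectrum.primesOverOrderIsoFiber A C P).symm Q').2.1⟩
        ((PrimeSpectrum.primesOverOrderIsoFiber A C P).symm Q').2.2.over.symm)
    exact (h1 Q).trans (h1 Q₀).symm
  haveI : Nontrivial (P.Fiber C) := PrimeSpectrum.nonempty_iff_nontrivial.1 ⟨Q₀⟩
  haveI : IsLocalRing (P.Fiber C) := by
    refine IsLocalRing.of_unique_max_ideal ⟨Q₀.asIdeal, ?_, fun J hJ => ?_⟩
    · obtain ⟨J, hJ⟩ := Ideal.exists_maximal (P.Fiber C)
      rwa [← hall ⟨J, hJ.isPrime⟩]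
    · exact congrArg PrimeSpectrum.asIdeal (hall ⟨J, hJ.isPrime⟩)
  have hG' := (isGorensteinAt_specMap_iff c).1 hG
  haveI : IsNoetherianRing (P.Fiber C) := IsNoetherianRing.of_finite P.ResidueField _
  have hP : LocCoh.IsGorensteinRing (P.Fiber C) := by
    refine LC.gorensteinRing_of_atPrime fun Q hQ => ?_
    obtain rfl : Q = Q₀.asIdeal := congrArg PrimeSpectrum.asIdeal (hall ⟨Q, hQ⟩)
    obtain ⟨e⟩ := FlatLoc6.exists_fibLocEquiv P Q₀.asIdeal
    have key : ∀ (q' : Ideal C) [q'.IsPrime], q' = c.asIdeal →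
        LocCoh.IsGorensteinLocalRing (EGA4.FibLocRing A C q') := by
      rintro _ _ rfl; exact hG'
    exact gor_of_equiv e.symm (key _ hQ₀)
  obtain ⟨D, hD, hD'⟩ := Frob.exists_notMem_gorensteinRing_fiber (C := C) P hP
  refine ⟨PrimeSpectrum.basicOpen (algebraMap A C D), PrimeSpectrum.isOpen_basicOpen, hD, fun c' hc' => ?_⟩
  refine (isGorensteinAt_specMap_iff c').2 ?_
  let P' := c'.asIdeal.comap (algebraMap A C)
  obtain ⟨Q, hQ⟩ := FlatLoc6.exists_fiber_prime P' c'.asIdeal rfl
  obtain ⟨e⟩ := FlatLoc6.exists_fibLocEquiv P' Q.asIdeal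
  haveI := hD' P' hc'
  have key : ∀ (q' : Ideal C) [q'.IsPrime], Q.asIdeal.comap Algebra.TensorProduct.includeRight = q' →
      LocCoh.IsGorensteinLocalRing (EGA4.FibLocRing A C q') := by
    rintro _ _ rfl
    exact gor_of_equiv e (LocCoh.IsGorensteinRing.isGorensteinLocalRing_localization Q.asIdeal)
  exact key _ hQ

/-- A flat finitely presented morphism is Gorenstein near a quasi-finite Gorenstein point. -/
theorem exists_nhd_quasiFinite {A B : Type u} [CommRing A] [CommRing B] [Algebra A B]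
    [Algebra.FinitePresentation A B] [Module.Flat A B] (q : PrimeSpectrum B)
    (hqf : Scheme.Hom.QuasiFiniteAt (specMap A B) q) (hG : Dual3.IsGorensteinAt (specMap A B) q) :
    ∃ W : Set (PrimeSpectrum B), IsOpen W ∧ q ∈ W ∧ ∀ z ∈ W, Dual3.IsGorensteinAt (specMap A B) z := by
  haveI : Flat (specMap A B) := Flat.SpecMap_iff.2 (RingHom.flat_algebraMap_iff.2 inferInstance)
  haveI : LocallyOfFiniteType (specMap A B) :=
    HasRingHomProperty.Spec_iff.2 (RingHom.finiteType_algebraMap.2 inferInstance)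
  haveI : Algebra.QuasiFiniteAt A q.asIdeal := by
    have h := Scheme.Hom.quasiFiniteAt_iff_isOpen_singleton_asFiber.1 hqf
    have := ((specMap A B).fiberHomeo (specMap A B q)).isOpen_image.2 h
    simp only [Set.image_singleton, Scheme.Hom.asFiber, Homeomorph.apply_symm_apply] at this
    exact (Algebra.quasiFiniteAt_iff_isOpen_singleton_fiber q).2 this
  obtain ⟨A', _, _, _, P, hPp, hPo, e, -, P', hP'p, hP'o, hP'q, heP', -, hfin, huniq⟩ :=
    Algebra.exists_etale_isIdempotentElem_forall_liesOver_eq (q.asIdeal.under A) q.asIdeal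
  let C := Localization.Away e
  haveI : Module.Finite A' C := hfin
  haveI : Algebra.FinitePresentation (A' ⊗[A] B) C := IsLocalization.Away.finitePresentation e
  haveI : Algebra.FinitePresentation A' C := Algebra.FinitePresentation.trans A' (A' ⊗[A] B) C
  haveI : Module.Flat (A' ⊗[A] B) C := IsLocalization.flat _ (Submonoid.powers e)
  haveI : Module.Flat A' C := Module.Flat.trans A' (A' ⊗[A] B) C
  haveI : Etale (specMap A A') := HasRingHomProperty.Spec_iff.2 (RingHom.etale_algebraMap.2 inferInstance)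
  letI : Algebra B (A' ⊗[A] B) := Algebra.TensorProduct.rightAlgebra
  haveI : IsScalarTower A B (A' ⊗[A] B) := Algebra.TensorProduct.right_isScalarTower
  have hc : IsPullback (specMap B (A' ⊗[A] B)) (specMap A' (A' ⊗[A] B)) (specMap A B) (specMap A A') :=
    isPullback_SpecMap_of_isPushout _ _ _ _ (CommRingCat.isPushout_of_isPushout A B A' (A' ⊗[A] B))
  let j := specMap (A' ⊗[A] B) C
  haveI : IsOpenImmersion j := IsOpenImmersion.of_isLocalization e
  haveI : Etale (specMap B (A' ⊗[A] B)) := MorphismProperty.of_isPullback hc.flip ‹Etale (specMap A A')›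
  haveI : Flat (specMap A' (A' ⊗[A] B)) := MorphismProperty.of_isPullback hc ‹Flat (specMap A B)›
  haveI : LocallyOfFiniteType (specMap A' (A' ⊗[A] B)) :=
    MorphismProperty.of_isPullback hc ‹LocallyOfFiniteType (specMap A B)›
  have hN : ∀ z, IsLocallyNoetherian ((specMap A' (A' ⊗[A] B)).fiber z) := fun z =>
    LocallyOfFiniteType.isLocallyNoetherian ((specMap A' (A' ⊗[A] B)).fiberToSpecResidueField z)
  have hjf : j ≫ specMap A' (A' ⊗[A] B) = specMap A' C := by
    rw [← Spec.map_comp]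
    exact congrArg Spec.map (CommRingCat.hom_ext (IsScalarTower.algebraMap_eq A' (A' ⊗[A] B) C).symm)
  let π := j ≫ specMap B (A' ⊗[A] B)
  have key : ∀ z : Spec (CommRingCat.of C),
      Dual3.IsGorensteinAt (specMap A' C) z ↔ Dual3.IsGorensteinAt (specMap A B) (π z) := fun z => by
    rw [← hjf, AlgSpC7.GorScheme.isGorensteinAt_precomp j _ hN z]
    refine (isGorensteinAt_iff_of_isPullback hc (j z) (.inr inferInstance) ?_ (Flat.stalkMap _ _)).trans ?_
    · exact Triage.CMMor.isNoetherianRing_fibre_stalk_sm _ _ _ rfl (hN _)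
    · rw [Scheme.Hom.comp_apply]
  have hdis : Disjoint (Submonoid.powers e : Set (A' ⊗[A] B)) P' :=
    (Ideal.disjoint_powers_iff_notMem_of_isPrime _).2 heP'
  let c : PrimeSpectrum C := ⟨P'.map (algebraMap _ C), IsLocalization.isPrime_of_isPrime_disjoint _ _ _ hP'p hdis⟩
  have hjc : c.asIdeal.comap (algebraMap (A' ⊗[A] B) C) = P' :=
    IsLocalization.comap_map_of_isPrime_disjoint _ _ hP'p hdis
  have hπc : π c = q := by
    refine PrimeSpectrum.ext ?_
    show (c.asIdeal.comap (algebraMap (A' ⊗[A] B) C)).comap (algebraMap B (A' ⊗[A] B)) = _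
    rw [hjc]
    exact hP'q
  obtain ⟨W, hW, hcW, hWG⟩ := exists_nhd_finite (A := A') c (fun c' hc' => by
    have h1 : ∀ d : PrimeSpectrum C, d.asIdeal.comap (algebraMap A' C) =
        (d.asIdeal.comap (algebraMap (A' ⊗[A] B) C)).comap (algebraMap A' (A' ⊗[A] B)) := fun d => by
      rw [Ideal.comap_comap, ← IsScalarTower.algebraMap_eq]
    rw [h1, h1, hjc] at hc'
    have hlo : (c'.asIdeal.comap (algebraMap (A' ⊗[A] B) C)).LiesOver P := ⟨hP'o.over.trans hc'.symm⟩
    apply PrimeSpectrum.localization_comap_injective C (Submonoid.powers e)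
    refine PrimeSpectrum.ext ((huniq (c'.asIdeal.comap (algebraMap (A' ⊗[A] B) C)) inferInstance hlo ?_).trans hjc.symm)
    exact fun he => c'.2.ne_top (Ideal.eq_top_of_isUnit_mem _ he (IsLocalization.Away.algebraMap_isUnit e)))
    ((key c).2 (hπc.symm ▸ hG))
  refine ⟨π '' W, π.isOpenMap _ hW, ⟨c, hcW, hπc⟩, ?_⟩
  rintro _ ⟨z, hz, rfl⟩
  exact (key z).1 (hWG z hz)

/-- The Gorenstein locus of a scheme locally of finite type over a field is open. -/
theorem isOpen_gor_stalks {k : Type u} [Field k] {F : Scheme.{u}} (g : F ⟶ Spec (CommRingCat.of k))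
    [LocallyOfFiniteType g] : IsOpen {w : F | LocCoh.IsGorensteinLocalRing (F.presheaf.stalk w)} := by
  rw [isOpen_iff_forall_mem_open]
  intro w hw
  obtain ⟨W, hW, hwW, -⟩ := exists_isAffineOpen_mem_and_subset (U := (⊤ : F.Opens)) (x := w) trivial
  obtain ⟨φ, hφ⟩ := Spec.map_surjective (hW.fromSpec ≫ g)
  letI : Algebra k Γ(F, W) := φ.hom.toAlgebra
  haveI : Algebra.FiniteType k Γ(F, W) := by
    have h : LocallyOfFiniteType (Spec.map φ) := by rw [hφ]; infer_instance
    exact HasRingHomProperty.Spec_iff.1 h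
  haveI : HasInjectiveDimensionLT (ModuleCat.of k k) 1 :=
    injective_iff_hasInjectiveDimensionLT_one.1
      ((Module.injective_iff_injective_object k k).1 (Module.injective_of_isSemisimpleRing k k))
  obtain ⟨ω, hω⟩ := KFlatLib.exists_isDualizing_of_essFiniteType (LC.isDualizing_self_of_injDim k (n := 1)) Γ(F, W)
  haveI := hω.isNoetherianRing
  have hopen := DualityLC.isOpen_gorensteinLocus hω
  have key : hW.fromSpec ⁻¹' {w : F | LocCoh.IsGorensteinLocalRing (F.presheaf.stalk w)} =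
      {q : PrimeSpectrum Γ(F, W) | LocCoh.IsGorensteinLocalRing (Localization.AtPrime q.asIdeal)} := by
    ext q
    exact (gor_congr (asIso (hW.fromSpec.stalkMap q)).commRingCatIsoToRingEquiv).trans
      (gor_congr (Spec.stalkIso Γ(F, W) q).commRingCatIsoToRingEquiv)
  refine ⟨hW.fromSpec '' (hW.fromSpec ⁻¹' {w : F | LocCoh.IsGorensteinLocalRing (F.presheaf.stalk w)}),
    Set.image_preimage_subset _ _, hW.fromSpec.isOpenEmbedding.isOpenMap _ (key ▸ hopen), ?_⟩
  obtain ⟨q, rfl⟩ : w ∈ Set.range hW.fromSpec := by rw [hW.range_fromSpec]; exact hwW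
  exact ⟨q, hw, rfl⟩

/-- A closed point of the fibre, specializing the given one, at which `f` is Gorenstein. -/
theorem exists_closed_specialization {X Y : Scheme.{u}} (f : X ⟶ Y) [LocallyOfFinitePresentation f] (x : X)
    (h : Dual3.IsGorensteinAt f x) :
    ∃ x₁, x ⤳ x₁ ∧ f x₁ = f x ∧ Dual3.IsGorensteinAt f x₁ ∧ ∀ w, x₁ ⤳ w → f w = f x₁ → w = x₁ := by
  haveI : LocallyOfFiniteType (f.fiberToSpecResidueField (f x)) :=
    inferInstanceAs (LocallyOfFiniteType (pullback.snd f (Y.fromSpecResidueField (f x))))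
  haveI : JacobsonSpace ↥(f.fiber (f x)) :=
    LocallyOfFiniteType.jacobsonSpace (f.fiberToSpecResidueField (f x))
  let ι := f.fiberι (f x)
  let O : Set ↥(f.fiber (f x)) := {w | LocCoh.IsGorensteinLocalRing ((f.fiber (f x)).presheaf.stalk w)} ∩
    ι ⁻¹' {z | (f.stalkMap z).hom.Flat}
  have hO : IsOpen O := IsOpen.inter
    (@isOpen_gor_stalks (IsLocalRing.ResidueField (Y.presheaf.stalk (f x))) _ _ (f.fiberToSpecResidueField (f x)) ‹_›)
    ((FlatLocus.isOpen_flat_locus f).preimage ι.continuous)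
  have hxO : f.asFiber x ∈ O := ⟨h.2, by
    show (f.stalkMap (f.fiberι (f x) (f.asFiber x))).hom.Flat
    rw [Scheme.Hom.fiberι_asFiber]; exact h.1⟩
  obtain ⟨w, ⟨hwO, hwcl⟩, hwc⟩ := nonempty_inter_closedPoints (Z := O ∩ closure {f.asFiber x})
    ⟨_, hxO, subset_closure rfl⟩ (hO.isLocallyClosed.inter isClosed_closure.isLocallyClosed)
  have hfw : f (ι w) = f x := FlatDvr.fiberι_apply_eq f w
  refine ⟨ι w, ?_, hfw, ?_, fun v hv hfv => ?_⟩
  · have := (specializes_iff_mem_closure.2 hwcl).map ι.continuous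
    rwa [Scheme.Hom.fiberι_asFiber] at this
  · rw [isGorensteinAt_iff_sm f (ι w) (f x) hfw]
    exact ⟨(FibFlat.sm_flat_iff f (ι w) (f x) hfw).2 hwO.2,
      gor_of_equiv (Triage.CMMor.exists_equiv_fibre_stalk_aux f (ι w) (f x) hfw w rfl).some.symm hwO.1⟩
  · obtain ⟨t, rfl⟩ : v ∈ Set.range ι := by rw [Scheme.Hom.range_fiberι]; exact hfv.trans hfw
    have h2 : w ⤳ t := ι.isEmbedding.isInducing.specializes_iff.1 hv
    have h3 := h2.mem_closure
    rw [(show IsClosed ({w} : Set _) from hwc).closure_eq] at h3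
    rw [show t = w from h3]

theorem isCMAt_of_isGorensteinAt {X Y : Scheme.{u}} (f : X ⟶ Y) (x : X) (h : Dual3.IsGorensteinAt f x) :
    MoreMor.IsCMAt f x :=
  ⟨h.1, by haveI := h.2; exact LC.isCohenMacaulayLocalRing_of_gorenstein⟩

theorem isGorensteinAt_chart {X Y U V : Scheme.{u}} (f : X ⟶ Y) (φ : U ⟶ V) (j : U ⟶ X) [IsOpenImmersion j]
    (i : V ⟶ Y) [IsOpenImmersion i] (h : j ≫ f = φ ≫ i) (hN : ∀ y, IsLocallyNoetherian (f.fiber y)) (q : U) :
    Dual3.IsGorensteinAt f (j q) ↔ Dual3.IsGorensteinAt φ q := by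
  rw [← AlgSpC7.GorScheme.isGorensteinAt_precomp j f hN q, h, AlgSpC7.GorScheme.isGorensteinAt_postcomp]

theorem isGorensteinAt_poly (R : Type u) [CommRing R] (n : ℕ) (y : PrimeSpectrum (MvPolynomial (Fin n) R)) :
    Dual3.IsGorensteinAt (specMap R (MvPolynomial (Fin n) R)) y := by
  refine (isGorensteinAt_specMap_iff y).2 ?_
  let p := y.asIdeal.comap (algebraMap R (MvPolynomial (Fin n) R))
  haveI : LocCoh.IsGorensteinRing p.ResidueField := LC.gorensteinRing_of_isRegularRing _
  haveI : LocCoh.IsGorensteinRing (p.Fiber (MvPolynomial (Fin n) R)) :=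
    LC.gorensteinRing_of_ringEquiv (MvPolynomial.algebraTensorAlgEquiv R p.ResidueField).symm.toRingEquiv
      (LC.gorensteinRing_of_ringEquiv (MvPolynomial.renameEquiv p.ResidueField Equiv.ulift).toRingEquiv
        (LC.gorensteinRing_mvPolynomial p.ResidueField (ULift.{u} (Fin n))))
  obtain ⟨Q, hQ⟩ := FlatLoc6.exists_fiber_prime p y.asIdeal rfl
  obtain ⟨e⟩ := FlatLoc6.exists_fibLocEquiv p Q.asIdeal
  have key : ∀ (q' : Ideal (MvPolynomial (Fin n) R)) [q'.IsPrime],
      Q.asIdeal.comap Algebra.TensorProduct.includeRight = q' →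
      LocCoh.IsGorensteinLocalRing (EGA4.FibLocRing R (MvPolynomial (Fin n) R) q') := by
    rintro _ _ rfl
    exact gor_of_equiv e (LocCoh.IsGorensteinRing.isGorensteinLocalRing_localization Q.asIdeal)
  exact key _ hQ

/-- The Gorenstein locus of a morphism locally of finite presentation is open. -/
theorem isOpen_isGorensteinAt {X Y : Scheme.{u}} (f : X ⟶ Y) [LocallyOfFinitePresentation f] :
    IsOpen {x : X | Dual3.IsGorensteinAt f x} := by
  rw [isOpen_iff_forall_mem_open]
  intro x hx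
  obtain ⟨x₁, hxx₁, -, hx₁, hcl⟩ := exists_closed_specialization f x hx
  have hNf : ∀ y, IsLocallyNoetherian (f.fiber y) := fun y =>
    LocallyOfFiniteType.isLocallyNoetherian (f.fiberToSpecResidueField y)
  obtain ⟨V, hV, hxV, -⟩ := exists_isAffineOpen_mem_and_subset (U := (⊤ : Y.Opens)) (x := f x₁) trivial
  let F : X.Opens := ⟨{z | (f.stalkMap z).hom.Flat}, FlatLocus.isOpen_flat_locus f⟩
  obtain ⟨U, hU, hxU, hUW⟩ := exists_isAffineOpen_mem_and_subset (U := F ⊓ f ⁻¹ᵁ V) (x := x₁) ⟨hx₁.1, hxV⟩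
  have hUV : U ≤ f ⁻¹ᵁ V := fun z hz => (hUW hz).2
  letI : Algebra Γ(Y, V) Γ(X, U) := (f.appLE V U hUV).hom.toAlgebra
  haveI : Algebra.FinitePresentation Γ(Y, V) Γ(X, U) := f.finitePresentation_appLE hV hU hUV
  have hsq : hU.fromSpec ≫ f = specMap Γ(Y, V) Γ(X, U) ≫ hV.fromSpec :=
    (hV.SpecMap_appLE_fromSpec f hU hUV).symm
  haveI : Module.Flat Γ(Y, V) Γ(X, U) := CMOpen5.flat_of_flat_stalks f hV hU hsq fun z hz => (hUW hz).1
  obtain ⟨q, rfl⟩ : x₁ ∈ Set.range hU.fromSpec := by rw [hU.range_fromSpec]; exact hxU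
  have hg : Dual3.IsGorensteinAt (specMap Γ(Y, V) Γ(X, U)) q :=
    (isGorensteinAt_chart f _ _ _ hsq hNf q).1 hx₁
  obtain ⟨n, φ, hφflat, hφqf⟩ := CMOpen5.exists_flat_quasiFinite (R := Γ(Y, V)) (P := Γ(X, U)) q
    (isCMAt_of_isGorensteinAt _ _ hg) fun w hw hfw => by
      refine hU.fromSpec.isOpenEmbedding.injective (hcl _ (hw.map hU.fromSpec.continuous) ?_)
      rw [← Scheme.Hom.comp_apply, ← Scheme.Hom.comp_apply, hsq, Scheme.Hom.comp_apply, Scheme.Hom.comp_apply]
      exact congrArg _ hfw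
  haveI := CMOpen5.lfp_chart φ
  set fS := Spec.map (CommRingCat.ofHom φ.toRingHom) with hfS
  set gS := specMap Γ(Y, V) (MvPolynomial (Fin n) Γ(Y, V))
  have hcomp : fS ≫ gS = specMap Γ(Y, V) Γ(X, U) :=
    (Spec.map_comp _ _).symm.trans (congrArg Spec.map (CommRingCat.hom_ext φ.comp_algebraMap))
  haveI : LocallyOfFiniteType (specMap Γ(Y, V) Γ(X, U)) :=
    HasRingHomProperty.Spec_iff.2 (RingHom.finiteType_algebraMap.2 inferInstance)
  haveI : LocallyOfFiniteType (fS ≫ gS) := hcomp ▸ inferInstance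
  haveI : LocallyOfFiniteType gS :=
    HasRingHomProperty.Spec_iff.2 (RingHom.finiteType_algebraMap.2 inferInstance)
  have hcompG : ∀ z, (fS.stalkMap z).hom.Flat →
      (Dual3.IsGorensteinAt (specMap Γ(Y, V) Γ(X, U)) z ↔ Dual3.IsGorensteinAt fS z) := fun z hz => by
    rw [← hcomp, isGorensteinAt_comp_iff fS gS z hz
      (LocallyOfFiniteType.isLocallyNoetherian (gS.fiberToSpecResidueField _))
      (LocallyOfFiniteType.isLocallyNoetherian ((fS ≫ gS).fiberToSpecResidueField _))]
    exact and_iff_left (isGorensteinAt_poly _ n _)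
  let W₀ : (Spec Γ(X, U)).Opens := ⟨_, FlatLocus.isOpen_flat_locus fS⟩ ⊓ fS.quasiFiniteLocus
  obtain ⟨_, ⟨h, rfl⟩, hqh, hhW⟩ := PrimeSpectrum.isTopologicalBasis_basic_opens.exists_subset_of_mem_open
    (u := (W₀.carrier : Set (PrimeSpectrum Γ(X, U)))) (a := q) ⟨hφflat, hφqf⟩ W₀.2
  letI : Algebra (MvPolynomial (Fin n) Γ(Y, V)) Γ(X, U) := φ.toRingHom.toAlgebra
  let B := Localization.Away h
  let j := specMap Γ(X, U) B
  haveI : IsOpenImmersion j := IsOpenImmersion.of_isLocalization h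
  have hjf : j ≫ fS = specMap (MvPolynomial (Fin n) Γ(Y, V)) B := by
    rw [hfS, ← Spec.map_comp]
    exact congrArg Spec.map (CommRingCat.hom_ext
      (IsScalarTower.algebraMap_eq (MvPolynomial (Fin n) Γ(Y, V)) Γ(X, U) B).symm)
  have hjW : ∀ b, j b ∈ W₀ := fun b => hhW (by
    show h ∉ (j b).asIdeal
    exact fun hb => b.2.ne_top (Ideal.eq_top_of_isUnit_mem _ hb (IsLocalization.Away.algebraMap_isUnit h)))
  haveI : Algebra.FinitePresentation (MvPolynomial (Fin n) Γ(Y, V)) B := by
    haveI : LocallyOfFinitePresentation (j ≫ fS) := inferInstance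
    rw [hjf] at this
    exact RingHom.finitePresentation_algebraMap.1 (HasRingHomProperty.Spec_iff.1 this)
  haveI : Module.Flat (MvPolynomial (Fin n) Γ(Y, V)) B := by
    refine RingHom.flat_algebraMap_iff.1 (HasRingHomProperty.Spec_iff.1 ((Flat.iff_flat_stalkMap _).2 fun b => ?_ :
      Flat (specMap (MvPolynomial (Fin n) Γ(Y, V)) B)))
    rw [← hjf]
    exact (FibFlat.flat_stalk_open_comp j fS b).2 (hjW b).1
  obtain ⟨b, hb⟩ : q ∈ Set.range j := by
    have := PrimeSpectrum.localization_away_comap_range B h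
    show q ∈ Set.range (PrimeSpectrum.comap (algebraMap Γ(X, U) B))
    rw [this]; exact hqh
  have hNfS : ∀ z, IsLocallyNoetherian (fS.fiber z) := fun z =>
    LocallyOfFiniteType.isLocallyNoetherian (fS.fiberToSpecResidueField z)
  have hjG : ∀ b, Dual3.IsGorensteinAt (specMap (MvPolynomial (Fin n) Γ(Y, V)) B) b ↔
      Dual3.IsGorensteinAt fS (j b) := fun b => by
    rw [← hjf, AlgSpC7.GorScheme.isGorensteinAt_precomp j fS hNfS b]
  obtain ⟨W, hW, hbW, hWG⟩ := exists_nhd_quasiFinite b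
    (by rw [← hjf, Scheme.Hom.quasiFiniteAt_comp_iff_of_isOpenImmersion, hb]; exact hφqf)
    ((hjG b).2 (hb.symm ▸ (hcompG q hφflat).1 hg))
  refine ⟨hU.fromSpec '' (j '' W), ?_, hU.fromSpec.isOpenEmbedding.isOpenMap _ (j.isOpenEmbedding.isOpenMap _ hW),
    hxx₁.mem_open (hU.fromSpec.isOpenEmbedding.isOpenMap _ (j.isOpenEmbedding.isOpenMap _ hW))
      ⟨q, ⟨b, hbW, hb⟩, rfl⟩⟩
  rintro _ ⟨_, ⟨z, hz, rfl⟩, rfl⟩
  exact (isGorensteinAt_chart f _ _ _ hsq hNf _).2 ((hcompG _ (hjW z).1).2 ((hjG z).1 (hWG z hz)))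

end Groth.Agent.Dual349.GorOpen
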