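import Groth.Agent.QCoh.SubCompare
import Groth.Agent.QCoh.Support
import Groth.Agent.KFlatLib.Scheme.QCohDerived
import Groth.Prelude.Def_Dual3

/-!
# The Artin–Rees comparison of `Hᵖ(Iⁿ F)` and `Iⁿ Hᵖ(F)`
-/

set_option autoImplicit false
set_option linter.style.haveILetI false
set_option backward.isDefEq.respectTransparency false
set_option backward.isDefEq.respectTransparency.types false

universe u

open CategoryTheory CategoryTheory.Limits AlgebraicGeometry TopologicalSpace Opposite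

namespace Groth.Agent.Dual349.ArtinReesCx

open QCoh

variable {X : Scheme.{u}}

/-- A map factors through a submodule if it does on an affine cover. -/
theorem exists_factor {A B M : X.Modules} (hA : Coh.IsQCoh A) (hB : Coh.IsQCoh B) (hM : Coh.IsQCoh M)
    (a : A ⟶ M) (b : B ⟶ M) [Mono b] {κ : Type*} (U : κ → X.Opens) (haff : ∀ k, IsAffineOpen (U k))
    (hU : ∀ x : X, ∃ k, x ∈ U k) (h : ∀ k x, a.app (U k) x ∈ LinearMap.range (appLin b (U k))) :
    ∃ l : A ⟶ B, l ≫ b = a := by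
  have h0 : a ≫ cokernel.π b = 0 := hom_eq_zero_of_cover hA (isQCoh_cokernel hB hM b) _ U haff hU
    fun k x => (mem_range_iff_cokernel b (U k) _).2 (h k x)
  obtain ⟨l, hl⟩ := KernelFork.IsLimit.lift' (Abelian.monoIsKernelOfCokernel _ (cokernelIsCokernel b)) a h0
  exact ⟨l, hl⟩

/-- A map descends along an epimorphism if it kills the sections that die. -/
theorem exists_desc {A B N : X.Modules} (hA : Coh.IsQCoh A) (hB : Coh.IsQCoh B) (hN : Coh.IsQCoh N)
    (q : A ⟶ B) [Epi q] (g : A ⟶ N) {κ : Type*} (U : κ → X.Opens) (haff : ∀ k, IsAffineOpen (U k))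
    (hU : ∀ x : X, ∃ k, x ∈ U k) (h : ∀ k x, q.app (U k) x = 0 → g.app (U k) x = 0) :
    ∃ l : B ⟶ N, q ≫ l = g := by
  have h0 : kernel.ι q ≫ g = 0 := hom_eq_zero_of_cover (isQCoh_kernel hA hB q) hN _ U haff hU
    fun k x => h k _ (congr(($(kernel.condition q)).app (U k) x) : _)
  obtain ⟨l, hl⟩ := CokernelCofork.IsColimit.desc' (Abelian.epiIsCokernelOfKernel _ (kernelIsKernel q)) g h0
  exact ⟨l, hl⟩

/-- Cycles with zero class are boundaries on affines. -/
theorem exists_toCycles_eq (K : CochainComplex X.Modules ℤ) (hK : ∀ i, Coh.IsQCoh (K.X i)) (p : ℤ)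
    (hc : Coh.IsQCoh (K.cycles p)) {U : X.Opens} (hU : IsAffineOpen U) (z : Γ(K.cycles p, U))
    (hz : (K.homologyπ p).app U z = 0) : ∃ w, (K.toCycles (p - 1) p).app U w = z := by
  let S : ShortComplex X.Modules := ShortComplex.mk (K.toCycles (p - 1) p) (K.homologyπ p) (K.toCycles_comp_homologyπ _ _)
  have hS : S.Exact := S.exact_of_g_is_cokernel (K.homologyIsCokernel (p - 1) p (by simp))
  haveI : Epi (kernel.lift (K.homologyπ p) (K.toCycles (p - 1) p) (K.toCycles_comp_homologyπ _ _)) :=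
    hS.epi_kernelLift
  have hH := KFlatLib.isQCoh_homology_of_terms K hK p
  obtain ⟨y, hy⟩ := exists_kernel_lift (K.homologyπ p) U z hz
  obtain ⟨w, rfl⟩ := app_surjective_of_epi (hK (p - 1)) (isQCoh_kernel hc hH _)
    (kernel.lift (K.homologyπ p) (K.toCycles (p - 1) p) (K.toCycles_comp_homologyπ _ _)) hU y
  have hl := kernel.lift_ι (K.homologyπ p) (K.toCycles (p - 1) p) (K.toCycles_comp_homologyπ _ _)
  exact ⟨w, (congr(($hl).app U w) : _).symm.trans hy⟩

theorem isQCoh_cycles (K : CochainComplex X.Modules ℤ) (hK : ∀ i, Coh.IsQCoh (K.X i)) (p : ℤ) :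
    Coh.IsQCoh (K.cycles p) :=
  KFlatLib.isQCoh_of_iso ((limit.isLimit _).conePointUniqueUpToIso (K.cyclesIsKernel p (p + 1) (by simp)))
    (QCoh.isQCoh_kernel (hK p) (hK (p + 1)) (K.d p (p + 1)))

theorem isQCoh_deligne (I : X.IdealSheafData) (n : ℕ) (F : CochainComplex X.Modules ℤ)
    (hF : ∀ i, Coh.IsQCoh (F.X i)) (i : ℤ) : Coh.IsQCoh (((Dual3.deligne I n).obj F).X i) :=
  isQCoh_idealMul (I ^ n) (hF i)

/-- Sections of `Iⁿ M`. -/
theorem range_pow (I : X.IdealSheafData) (n : ℕ) {M : X.Modules} (hM : Coh.IsQCoh M) {U : X.Opens}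
    (hU : IsAffineOpen U) :
    LinearMap.range (appLin (Dual3.idealMulι (I ^ n) M) U) =
      I.ideal ⟨U, hU⟩ ^ n • (⊤ : Submodule Γ(X, U) Γ(M, U)) := by
  rw [range_idealMul (I ^ n) hM hU, Scheme.IdealSheafData.ideal_pow, Pi.pow_apply]

theorem exists_ar {A M N : Type u} [CommRing A] [IsNoetherianRing A] [AddCommGroup M] [Module A M]
    [Module.Finite A M] [AddCommGroup N] [Module A N] (l : N →ₗ[A] M) (J : Ideal A) :
    ∃ k : ℕ, ∀ n c : ℕ, k ≤ c → c ≤ n → ∀ y, l y ∈ J ^ n • (⊤ : Submodule A M) →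
      ∃ y', y' ∈ J ^ (n - c) • (⊤ : Submodule A N) ∧ l y' = l y := by
  obtain ⟨k, hk⟩ := Ideal.exists_pow_inf_eq_pow_smul J (LinearMap.range l)
  refine ⟨k, fun n c hkc hcn y hy => ?_⟩
  have h1 : l y ∈ J ^ n • (⊤ : Submodule A M) ⊓ LinearMap.range l := ⟨hy, LinearMap.mem_range_self l y⟩
  rw [hk n (by omega)] at h1
  have h2 : l y ∈ (J ^ (n - c) • (⊤ : Submodule A N)).map l := by
    rw [Submodule.map_smul'', Submodule.map_top]
    exact Submodule.smul_mono (Ideal.pow_le_pow_right (by omega)) inf_le_right h1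
  obtain ⟨y', hy', he⟩ := h2
  exact ⟨y', hy', he⟩

variable (I : X.IdealSheafData) (F : CochainComplex X.Modules ℤ) (p : ℤ)

theorem mono_cyclesMap (n : ℕ) : Mono (HomologicalComplex.cyclesMap (Dual3.deligneι I n F) p) := by
  haveI : Mono ((Dual3.deligneι I n F).f p) := Dual3.mono_idealMulι (I ^ n) (F.X p)
  haveI : Mono (HomologicalComplex.cyclesMap (Dual3.deligneι I n F) p ≫ F.iCycles p) := by
    rw [HomologicalComplex.cyclesMap_i]
    infer_instance
  exact mono_of_mono (HomologicalComplex.cyclesMap (Dual3.deligneι I n F) p) (F.iCycles p)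

theorem epi_idealMul_map {M N : X.Modules} (hM : Coh.IsQCoh M) (hN : Coh.IsQCoh N) (q : M ⟶ N) [Epi q]
    (J : X.IdealSheafData) : Epi ((Dual3.idealMul J).map q) := by
  have hA := isQCoh_idealMul J hM
  have hB := isQCoh_idealMul J hN
  refine Preadditive.epi_of_cokernel_zero ?_
  refine hom_eq_zero_of_cover hB (isQCoh_cokernel hA hB _) _ (fun U : X.affineOpens => U.1) (fun U => U.2)
    (fun x => by
      obtain ⟨U, hU, hx⟩ := exists_affine_mem x
      exact ⟨⟨U, hU⟩, hx⟩) fun U x => ?_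
  have h1 : appLin (Dual3.idealMulι J N) U.1 x ∈ J.ideal U • (⊤ : Submodule Γ(X, U.1) Γ(N, U.1)) := by
    rw [← range_idealMul J hN U.2]
    exact LinearMap.mem_range_self _ x
  rw [← LinearMap.range_eq_top.2 (show Function.Surjective (appLin q U.1) from app_surjective_of_epi hM hN q U.2),
    ← Submodule.map_top, ← Submodule.map_smul''] at h1
  obtain ⟨m, hm, hmx⟩ := h1
  rw [SetLike.mem_coe, ← range_idealMul J hM U.2] at hm
  obtain ⟨y, rfl⟩ := hm
  have h2 : ((Dual3.idealMul J).map q).app U.1 y = x :=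
    app_injective (Dual3.idealMulι J N) U.1
      ((congr(($(Dual3.idealMul_map_ι J q)).app U.1 y) : _).trans hmx)
  rw [← h2]
  exact congr(($(cokernel.condition ((Dual3.idealMul J).map q))).app U.1 y)

variable {I F p}

/-- The comparison maps at level `c`. -/
structure Data (c : ℕ) : Prop where
  α : ∀ n, c ≤ n → ∃ a : ((Dual3.deligne I n).obj F).cycles p ⟶ (Dual3.idealMul (I ^ (n - c))).obj (F.cycles p),
    a ≫ Dual3.idealMulι (I ^ (n - c)) (F.cycles p) = HomologicalComplex.cyclesMap (Dual3.deligneι I n F) p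
  β : ∀ n, c ≤ n → ∃ (b : (Dual3.idealMul (I ^ n)).obj (F.cycles p) ⟶ ((Dual3.deligne I (n - c)).obj F).cycles p)
    (ψ : (Dual3.idealMul (I ^ n)).obj (F.homology p) ⟶ ((Dual3.deligne I (n - c)).obj F).homology p),
    b ≫ HomologicalComplex.cyclesMap (Dual3.deligneι I (n - c) F) p = Dual3.idealMulι (I ^ n) (F.cycles p) ∧
      (Dual3.idealMul (I ^ n)).map (F.homologyπ p) ≫ ψ = b ≫ ((Dual3.deligne I (n - c)).obj F).homologyπ p

theorem exists_data [IsNoetherian X] (hF : ∀ q, Coh.IsCoh (F.X q)) : ∃ c, 0 < c ∧ Data (I := I) (F := F) (p := p) c := by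
  classical
  choose U hU hxU using fun x : X => exists_affine_mem x
  obtain ⟨t, ht⟩ := isCompact_univ.elim_finite_subcover (fun x : X => (U x : Set X))
    (fun x => (U x).2) (fun x _ => Set.mem_iUnion.2 ⟨x, hxU x⟩)
  have hcov : ∀ y : X, ∃ x : t, y ∈ U x.1 := fun y => by
    obtain ⟨x, hx, hy⟩ := Set.mem_iUnion₂.1 (ht (Set.mem_univ y))
    exact ⟨⟨x, hx⟩, hy⟩
  have hq : ∀ q, Coh.IsQCoh (F.X q) := fun q => (hF q).1
  have hZ := isQCoh_cycles F hq p
  have hH := KFlatLib.isQCoh_homology_of_terms F hq p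
  have har : ∀ x : X, ∃ k : ℕ, (∀ n c : ℕ, k ≤ c → c ≤ n → ∀ y, appLin (F.iCycles p) (U x) y ∈
      I.ideal ⟨U x, hU x⟩ ^ n • (⊤ : Submodule Γ(X, U x) Γ(F.X p, U x)) →
        ∃ y', y' ∈ I.ideal ⟨U x, hU x⟩ ^ (n - c) • (⊤ : Submodule Γ(X, U x) Γ(F.cycles p, U x)) ∧
          appLin (F.iCycles p) (U x) y' = appLin (F.iCycles p) (U x) y) ∧
      (∀ n c : ℕ, k ≤ c → c ≤ n → ∀ w, appLin (F.d (p - 1) p) (U x) w ∈
      I.ideal ⟨U x, hU x⟩ ^ n • (⊤ : Submodule Γ(X, U x) Γ(F.X p, U x)) →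
        ∃ w', w' ∈ I.ideal ⟨U x, hU x⟩ ^ (n - c) • (⊤ : Submodule Γ(X, U x) Γ(F.X (p - 1), U x)) ∧
          appLin (F.d (p - 1) p) (U x) w' = appLin (F.d (p - 1) p) (U x) w) := fun x => by
    haveI := noetherian_sections (X := X) ⟨U x, hU x⟩
    haveI := finite_sections (hF p) (hU x)
    obtain ⟨k₁, h₁⟩ := exists_ar (appLin (F.iCycles p) (U x)) (I.ideal ⟨U x, hU x⟩)
    obtain ⟨k₂, h₂⟩ := exists_ar (appLin (F.d (p - 1) p) (U x)) (I.ideal ⟨U x, hU x⟩)
    exact ⟨max k₁ k₂, fun n c hk => h₁ n c (le_of_max_le_left hk), fun n c hk => h₂ n c (le_of_max_le_right hk)⟩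
  choose k hk₁ hk₂ using har
  refine ⟨t.sup k + 1, Nat.succ_pos _, ⟨fun n hn => ?_, fun n hn => ?_⟩⟩
  · -- cycles of `Iⁿ F` lie in `Iⁿ⁻ᶜ` times the cycles
    refine exists_factor (isQCoh_cycles _ (isQCoh_deligne I n F hq) p) (isQCoh_idealMul _ hZ) hZ _ _
      (fun x : t => U x.1) (fun x => hU _) hcov fun x z => ?_
    rw [range_pow I _ hZ (hU x.1)]
    have h1 : appLin (F.iCycles p) (U x.1) ((HomologicalComplex.cyclesMap (Dual3.deligneι I n F) p).app (U x.1) z) ∈
        I.ideal ⟨U x.1, hU x.1⟩ ^ n • (⊤ : Submodule Γ(X, U x.1) Γ(F.X p, U x.1)) := by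
      rw [← range_pow I n (hq p) (hU x.1)]
      exact ⟨(((Dual3.deligne I n).obj F).iCycles p).app (U x.1) z,
        (congr(($(HomologicalComplex.cyclesMap_i (Dual3.deligneι I n F) p)).app (U x.1) z) : _).symm⟩
    obtain ⟨y', hy', he⟩ := hk₁ x.1 n (t.sup k + 1) ((Finset.le_sup (f := k) x.2).trans (Nat.le_succ _)) hn _ h1
    rw [← app_injective (F.iCycles p) (U x.1) he]
    exact hy'
  · -- `Iⁿ` times the cycles lies in the cycles of `Iⁿ⁻ᶜ F`
    let m := n - (t.sup k + 1)
    let D := (Dual3.deligne I m).obj F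
    have hDq := isQCoh_deligne I m F hq
    haveI := mono_cyclesMap I F p m
    haveI : Mono ((Dual3.deligneι I m F).f p) := Dual3.mono_idealMulι (I ^ m) (F.X p)
    obtain ⟨b₀, hb₀⟩ := exists_factor (isQCoh_idealMul (I ^ n) hZ) (hDq p) (hq p)
      (Dual3.idealMulι (I ^ n) (F.cycles p) ≫ F.iCycles p) ((Dual3.deligneι I m F).f p)
      (fun x : t => U x.1) (fun x => hU _) hcov fun x z => by
        change _ ∈ LinearMap.range (appLin (Dual3.idealMulι (I ^ m) (F.X p)) (U x.1))
        rw [range_pow I m (hq p) (hU x.1)]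
        have h := LinearMap.mem_range_self (appLin (Dual3.idealMulι (I ^ n) (F.cycles p) ≫ F.iCycles p) (U x.1)) z
        rw [range_idealMul_comp (I ^ n) hZ (F.iCycles p) (hU x.1), Scheme.IdealSheafData.ideal_pow, Pi.pow_apply] at h
        exact Submodule.smul_mono (Ideal.pow_le_pow_right (Nat.sub_le n _)) le_top h
    haveI : Mono ((Dual3.deligneι I m F).f (p + 1)) := Dual3.mono_idealMulι (I ^ m) (F.X (p + 1))
    have hb₁ : b₀ ≫ D.d p (p + 1) = 0 := by
      rw [← cancel_mono ((Dual3.deligneι I m F).f (p + 1)), Category.assoc, ← (Dual3.deligneι I m F).comm p (p + 1),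
        ← Category.assoc, hb₀, Category.assoc, HomologicalComplex.iCycles_d, comp_zero, zero_comp]
    let b := D.liftCycles b₀ (p + 1) (by simp) hb₁
    have hb : b ≫ HomologicalComplex.cyclesMap (Dual3.deligneι I m F) p = Dual3.idealMulι (I ^ n) (F.cycles p) := by
      rw [← cancel_mono (F.iCycles p), Category.assoc, HomologicalComplex.cyclesMap_i,
        HomologicalComplex.liftCycles_i_assoc, hb₀]
    haveI := epi_idealMul_map hZ hH (F.homologyπ p) (I ^ n)
    obtain ⟨ψ, hψ⟩ := exists_desc (isQCoh_idealMul (I ^ n) hZ) (isQCoh_idealMul (I ^ n) hH)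
      (KFlatLib.isQCoh_homology_of_terms D hDq p) ((Dual3.idealMul (I ^ n)).map (F.homologyπ p))
      (b ≫ D.homologyπ p) (fun x : t => U x.1) (fun x => hU _) hcov fun x z hz => by
        have h1 : (F.homologyπ p).app (U x.1) ((Dual3.idealMulι (I ^ n) (F.cycles p)).app (U x.1) z) = 0 :=
          ((congr(($(Dual3.idealMul_map_ι (I ^ n) (F.homologyπ p))).app (U x.1) z) : _).symm.trans
            (congrArg ((Dual3.idealMulι (I ^ n) (F.homology p)).app (U x.1)) hz)).trans (map_zero _)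
        obtain ⟨w, hw⟩ := exists_toCycles_eq F hq p hZ (hU x.1) _ h1
        have h2 : appLin (F.d (p - 1) p) (U x.1) w ∈
            I.ideal ⟨U x.1, hU x.1⟩ ^ n • (⊤ : Submodule Γ(X, U x.1) Γ(F.X p, U x.1)) := by
          have h := LinearMap.mem_range_self (appLin (Dual3.idealMulι (I ^ n) (F.cycles p) ≫ F.iCycles p) (U x.1)) z
          rw [range_idealMul_comp (I ^ n) hZ (F.iCycles p) (hU x.1), Scheme.IdealSheafData.ideal_pow, Pi.pow_apply] at h
          have h' : appLin (F.d (p - 1) p) (U x.1) w =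
              appLin (Dual3.idealMulι (I ^ n) (F.cycles p) ≫ F.iCycles p) (U x.1) z :=
            (congr(($(F.toCycles_i (p - 1) p)).app (U x.1) w) : _).symm.trans
              (congrArg ((F.iCycles p).app (U x.1)) hw)
          rw [h']
          exact Submodule.smul_mono le_rfl le_top h
        obtain ⟨w', hw', he⟩ := hk₂ x.1 n (t.sup k + 1) ((Finset.le_sup (f := k) x.2).trans (Nat.le_succ _)) hn w h2
        rw [← range_pow I m (hq (p - 1)) (hU x.1)] at hw'
        obtain ⟨v, rfl⟩ := hw'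
        have hb' : b.app (U x.1) z = (D.toCycles (p - 1) p).app (U x.1) v := by
          refine app_injective (HomologicalComplex.cyclesMap (Dual3.deligneι I m F) p) (U x.1)
            (app_injective (F.iCycles p) (U x.1) ?_)
          refine (congrArg ((F.iCycles p).app (U x.1)) ((congr(($hb).app (U x.1) z) : _).trans hw.symm)).trans ?_
          refine ((congr(($(F.toCycles_i (p - 1) p)).app (U x.1) w) : _).trans he.symm).trans ?_
          have h4 : (D.toCycles (p - 1) p ≫ HomologicalComplex.cyclesMap (Dual3.deligneι I m F) p) ≫ F.iCycles p =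
              (Dual3.deligneι I m F).f (p - 1) ≫ F.d (p - 1) p := by
            rw [Category.assoc, HomologicalComplex.cyclesMap_i, HomologicalComplex.toCycles_i_assoc,
              (Dual3.deligneι I m F).comm]
          exact (congr(($h4).app (U x.1) v) : _).symm
        show (D.homologyπ p).app (U x.1) (b.app (U x.1) z) = 0
        rw [hb']
        exact congr(($(D.toCycles_comp_homologyπ (p - 1) p)).app (U x.1) v)
    exact ⟨b, ψ, hb, hψ⟩

/-- The Artin–Rees comparison. -/
theorem exists_comparison [IsNoetherian X] (hF : ∀ q, Coh.IsCoh (F.X q)) :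
    ∃ (c : ℕ) (φ : ∀ n : ℕ, ((Dual3.deligne I n).obj F).homology p ⟶ (Dual3.idealMul (I ^ (n - c))).obj (F.homology p))
      (ψ : ∀ n : ℕ, (Dual3.idealMul (I ^ n)).obj (F.homology p) ⟶ ((Dual3.deligne I (n - c)).obj F).homology p),
      0 < c ∧ (∀ n : ℕ, c ≤ n → φ n ≫ Dual3.idealMulι (I ^ (n - c)) (F.homology p) =
          HomologicalComplex.homologyMap (Dual3.deligneι I n F) p) ∧
        (∀ n : ℕ, c ≤ n → ψ n ≫ HomologicalComplex.homologyMap (Dual3.deligneι I (n - c) F) p =
          Dual3.idealMulι (I ^ n) (F.homology p)) ∧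
        (∀ n : ℕ, 2 * c ≤ n → (ψ n ≫ φ (n - c)) ≫ Dual3.idealMulι (I ^ (n - c - c)) (F.homology p) =
          Dual3.idealMulι (I ^ n) (F.homology p)) ∧
        ∀ (n : ℕ), 2 * c ≤ n → ∀ t : (Dual3.deligne I n).obj F ⟶ (Dual3.deligne I (n - c - c)).obj F,
          t ≫ Dual3.deligneι I (n - c - c) F = Dual3.deligneι I n F →
            φ n ≫ ψ (n - c) = HomologicalComplex.homologyMap t p := by
  obtain ⟨c, hc, hD⟩ := exists_data (I := I) (p := p) hF
  have hq : ∀ q, Coh.IsQCoh (F.X q) := fun q => (hF q).1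
  have hφ' : ∀ n, ∃ φ : ((Dual3.deligne I n).obj F).homology p ⟶ (Dual3.idealMul (I ^ (n - c))).obj (F.homology p),
      c ≤ n → φ ≫ Dual3.idealMulι (I ^ (n - c)) (F.homology p) =
        HomologicalComplex.homologyMap (Dual3.deligneι I n F) p ∧
        ∀ a : ((Dual3.deligne I n).obj F).cycles p ⟶ (Dual3.idealMul (I ^ (n - c))).obj (F.cycles p),
          a ≫ Dual3.idealMulι (I ^ (n - c)) (F.cycles p) = HomologicalComplex.cyclesMap (Dual3.deligneι I n F) p →
          ((Dual3.deligne I n).obj F).homologyπ p ≫ φ = a ≫ (Dual3.idealMul (I ^ (n - c))).map (F.homologyπ p) := by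
    intro n
    by_cases hn : c ≤ n
    swap
    · exact ⟨0, fun h => absurd h hn⟩
    obtain ⟨a, ha⟩ := hD.α n hn
    have h0 : HomologicalComplex.homologyMap (Dual3.deligneι I n F) p ≫
        (Scheme.Modules.pullbackPushforwardAdjunction (I ^ (n - c)).subschemeι).unit.app (F.homology p) = 0 := by
      rw [← cancel_epi (((Dual3.deligne I n).obj F).homologyπ p), comp_zero,
        HomologicalComplex.homologyπ_naturality_assoc, ← ha, Category.assoc]
      have h := (Dual3.idealMul_map_ι_assoc (I ^ (n - c)) (F.homologyπ p)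
        ((Scheme.Modules.pullbackPushforwardAdjunction (I ^ (n - c)).subschemeι).unit.app (F.homology p))).symm
      rw [h]
      exact (congrArg (fun t => a ≫ _ ≫ t) (kernel.condition _)).trans (by rw [comp_zero, comp_zero])
    refine ⟨kernel.lift _ _ h0, fun _ => ⟨kernel.lift_ι _ _ _, fun a' ha' => ?_⟩⟩
    rw [← cancel_mono (Dual3.idealMulι (I ^ (n - c)) (F.homology p)), Category.assoc, Category.assoc,
      Dual3.idealMul_map_ι, ← Category.assoc a', ha', ← HomologicalComplex.homologyπ_naturality]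
    exact congrArg (_ ≫ ·) (kernel.lift_ι _ _ _)
  choose φ hφ using hφ'
  have hψ' : ∀ n, ∃ ψ : (Dual3.idealMul (I ^ n)).obj (F.homology p) ⟶ ((Dual3.deligne I (n - c)).obj F).homology p,
      c ≤ n → ψ ≫ HomologicalComplex.homologyMap (Dual3.deligneι I (n - c) F) p =
        Dual3.idealMulι (I ^ n) (F.homology p) ∧
        ∃ b : (Dual3.idealMul (I ^ n)).obj (F.cycles p) ⟶ ((Dual3.deligne I (n - c)).obj F).cycles p,
          b ≫ HomologicalComplex.cyclesMap (Dual3.deligneι I (n - c) F) p = Dual3.idealMulι (I ^ n) (F.cycles p) ∧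
          (Dual3.idealMul (I ^ n)).map (F.homologyπ p) ≫ ψ = b ≫ ((Dual3.deligne I (n - c)).obj F).homologyπ p := by
    intro n
    by_cases hn : c ≤ n
    swap
    · exact ⟨0, fun h => absurd h hn⟩
    obtain ⟨b, ψ, hb, hψ⟩ := hD.β n hn
    refine ⟨ψ, fun _ => ⟨?_, b, hb, hψ⟩⟩
    haveI := epi_idealMul_map (isQCoh_cycles F hq p) (KFlatLib.isQCoh_homology_of_terms F hq p) (F.homologyπ p) (I ^ n)
    rw [← cancel_epi ((Dual3.idealMul (I ^ n)).map (F.homologyπ p)), ← Category.assoc, hψ, Category.assoc,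
      HomologicalComplex.homologyπ_naturality, ← Category.assoc, hb, Dual3.idealMul_map_ι]
  choose ψ hψ using hψ'
  refine ⟨c, φ, ψ, hc, fun n hn => (hφ n hn).1, fun n hn => (hψ n hn).1, fun n hn => ?_, fun n hn t ht => ?_⟩
  · rw [Category.assoc, (hφ (n - c) (by omega)).1, (hψ n (by omega)).1]
  · obtain ⟨a, ha⟩ := hD.α n (by omega)
    obtain ⟨-, b, hb, hψb⟩ := hψ (n - c) (by omega)
    haveI := mono_cyclesMap I F p (n - c - c)
    have hab : a ≫ b = HomologicalComplex.cyclesMap t p := by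
      rw [← cancel_mono (HomologicalComplex.cyclesMap (Dual3.deligneι I (n - c - c) F) p), Category.assoc, hb, ha,
        ← HomologicalComplex.cyclesMap_comp, ht]
    rw [← cancel_epi (((Dual3.deligne I n).obj F).homologyπ p), ← Category.assoc, (hφ n (by omega)).2 a ha,
      Category.assoc, hψb, ← Category.assoc, hab, HomologicalComplex.homologyπ_naturality]

end Groth.Agent.Dual349.ArtinReesCx
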