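import Groth.Agent.Dual349.GorMor
import Groth.Agent.DualityLC.SchemeCM
import Groth.Agent.DualityLC.GorLocus
import Groth.Agent.KFlatLib.Scheme.Exact
import Groth.Agent.KFlatLib.Scheme.LocalDevissage
import Groth.Agent.KFlatLib.Ring.DualizingDimension
import Groth.Agent.LC.GorRing

/-!
# Dualizing complexes on schemes and the Gorenstein property
-/

set_option autoImplicit false
set_option linter.style.haveILetI false
set_option backward.isDefEq.respectTransparency false
set_option backward.isDefEq.respectTransparency.types false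

universe u

open CategoryTheory CategoryTheory.Limits AlgebraicGeometry

attribute [local instance] HasDerivedCategory.standard

namespace Groth.Agent.Dual349

/-! ### Rings -/

section Ring

variable {A : Type u} [CommRing A] [IsNoetherianRing A] {ω : Dual.D A}

theorem exists_nontrivial_localized (hω : Dual.IsDualizing A ω) (P : PrimeSpectrum A) :
    ∃ i : ℤ, Nontrivial (LocalizedModule P.asIdeal.primeCompl (Dual.HD A ω i)) := by
  obtain ⟨n, hn, -, -, -⟩ := KFlatLib.exists_extDegree hω
  obtain ⟨k, d, hk, hd⟩ := DualityLC.exists_depth_dim P A (DualityLC.mem_support_self _)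
  obtain ⟨-, h1, -⟩ := DualityLC.ext_range_at hω hn P A (DualityLC.mem_support_self _) k d hk hd
  obtain ⟨e⟩ := KFlatLib.exists_homRingLEquiv ω (n P - d)
  exact ⟨_, (DualityLC.nontrivial_localized_congr e).1 h1⟩

theorem exists_degree_range (hω : Dual.IsDualizing A ω) :
    ∃ a b : ℤ, ∀ j : ℤ, j ∉ Finset.Icc a b → Subsingleton (Dual.HD A ω j) := by
  obtain ⟨a, b, hab⟩ := hω.finite_injective_dimension
  refine ⟨a, b, fun j hj => ?_⟩
  rw [Finset.mem_Icc] at hj
  haveI := hab A j (by omega)
  obtain ⟨e⟩ := KFlatLib.exists_homRingLEquiv ω j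
  exact e.toEquiv.symm.subsingleton

/-- A module which is free of rank one at a prime is so after a map from the ring, near that prime. -/
theorem exists_generator (P : PrimeSpectrum A) (N : Type u) [AddCommGroup N] [Module A N] [Module.Finite A N]
    (hfree : P ∈ Module.freeLocus A N) (hrk : Module.rankAtStalk N P = 1) :
    ∃ φ : A →ₗ[A] N, P ∉ Module.support A (LinearMap.ker φ) ∧
      P ∉ Module.support A (N ⧸ LinearMap.range φ) := by
  haveI : Module.Free (Localization.AtPrime P.asIdeal) (LocalizedModule P.asIdeal.primeCompl N) := hfree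
  obtain ⟨e⟩ : Nonempty (LocalizedModule P.asIdeal.primeCompl N ≃ₗ[Localization.AtPrime P.asIdeal]
      Localization.AtPrime P.asIdeal) :=
    FiniteDimensional.nonempty_linearEquiv_of_finrank_eq (hrk.trans (Module.finrank_self _).symm)
  let ψ : N →ₗ[A] Localization.AtPrime P.asIdeal :=
    (e.restrictScalars A).toLinearMap ∘ₗ LocalizedModule.mkLinearMap P.asIdeal.primeCompl N
  haveI : IsLocalizedModule P.asIdeal.primeCompl ψ :=
    IsLocalizedModule.of_linearEquiv P.asIdeal.primeCompl (LocalizedModule.mkLinearMap _ _) (e.restrictScalars A)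
  obtain ⟨⟨s, t⟩, hst⟩ := IsLocalizedModule.surj P.asIdeal.primeCompl ψ 1
  have hs : ψ s = algebraMap A _ (t : A) := by
    rw [← hst, Submonoid.smul_def, Algebra.smul_def, mul_one]
  refine ⟨LinearMap.toSpanSingleton A N s, ?_, ?_⟩
  · rw [Module.notMem_support_iff']
    rintro ⟨a, ha⟩
    rw [LinearMap.mem_ker, LinearMap.toSpanSingleton_apply] at ha
    have h0 : algebraMap A (Localization.AtPrime P.asIdeal) (a * t) = 0 := by
      rw [map_mul, ← hs, ← Algebra.smul_def, ← map_smul, ha, map_zero]
    obtain ⟨u, hu⟩ := (IsLocalization.map_eq_zero_iff P.asIdeal.primeCompl _ _).1 h0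
    refine ⟨u * t, mul_mem u.2 t.2, Subtype.ext ?_⟩
    show ((u : A) * (t : A)) * a = 0
    rw [← hu]
    ring
  · rw [Module.notMem_support_iff']
    intro q
    obtain ⟨n, rfl⟩ := Submodule.Quotient.mk_surjective _ q
    obtain ⟨⟨a, t'⟩, hn⟩ := IsLocalization.surj P.asIdeal.primeCompl (ψ n)
    obtain ⟨u, hu⟩ := (IsLocalizedModule.eq_iff_exists P.asIdeal.primeCompl ψ
      (x₁ := ((t : A) * (t' : A)) • n) (x₂ := a • s)).1 (by
        rw [map_smul, map_smul, hs, Algebra.smul_def, Algebra.smul_def, map_mul, ← hn]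
        ring)
    refine ⟨(u : A) * ((t : A) * (t' : A)), mul_mem u.2 (mul_mem t.2 t'.2), ?_⟩
    rw [← Submodule.Quotient.mk_smul, Submodule.Quotient.mk_eq_zero, mul_smul]
    refine LinearMap.mem_range.2 ⟨(u : A) * a, ?_⟩
    rw [LinearMap.toSpanSingleton_apply, mul_smul]
    simpa [Submonoid.smul_def] using hu.symm

/-- A Gorenstein ring with a dualizing complex is dualized by itself. -/
theorem isDualizing_inD_self (hω : Dual.IsDualizing A ω) (hA : LocCoh.IsGorensteinRing A) :
    Dual.IsDualizing A (Dual.inD A A) := by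
  have hfin : ∀ j : ℤ, Module.Finite A (Dual.HD A (Dual.inD A A) j) := fun j => by
    by_cases hj : j = 0
    · subst hj
      obtain ⟨c⟩ := DualityLC.exists_hdInDEquiv (A := A) A
      exact Module.Finite.equiv c.symm
    · haveI := DualityLC.subsingleton_hd_inD (A := A) A hj
      exact Module.Finite.of_finite
  have hloc : ∀ p : PrimeSpectrum A, ∀ [DTen.HasLBase (algebraMap A (Localization.AtPrime p.asIdeal))],
      Dual.IsDualizing (Localization.AtPrime p.asIdeal)
        ((DTen.LBase (algebraMap A (Localization.AtPrime p.asIdeal))).obj (Dual.inD A A)) := by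
    intro p _
    haveI : Module.Flat A (Localization.AtPrime p.asIdeal) := IsLocalization.flat _ p.asIdeal.primeCompl
    have hd := (LC.gorenstein_iff_isDualizing _).1 (hA.isGorensteinLocalRing_localization p.asIdeal)
    have eL := fun j => KFlatLib.exists_hdLBaseLEquiv (B := Localization.AtPrime p.asIdeal) (Dual.inD A A) j
    obtain ⟨c0⟩ := DualityLC.exists_hdInDEquiv (A := A) A
    obtain ⟨e0⟩ := eL 0
    obtain ⟨e⟩ := DualityLC.exists_iso_inD_of_concentrated
      ((DTen.LBase (algebraMap A (Localization.AtPrime p.asIdeal))).obj (Dual.inD A A)) 0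
      (Localization.AtPrime p.asIdeal) (fun j hj => by
        obtain ⟨ej⟩ := eL j
        haveI := DualityLC.subsingleton_hd_inD (A := A) A hj
        exact ej.toEquiv.subsingleton)
      (e0.trans ((c0.baseChange A (Localization.AtPrime p.asIdeal)).trans
        (TensorProduct.AlgebraTensorModule.rid A _ _)))
    exact KFlatLib.isDualizing_of_iso (e.symm ≪≫ (shiftFunctorZero (Dual.D _) ℤ).app _) hd
  haveI : (Dual.inD A A).IsGE 0 := inferInstanceAs
    (((DerivedCategory.singleFunctor (ModuleCat.{u} A) 0).obj (ModuleCat.of A A)).IsGE 0)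
  obtain ⟨b, hb⟩ := KFlatLib.exists_injAmplitude_of_local
    (KFlatLib.ringKrullDim_lt_top_of_isDualizing hω) 0 hfin hloc
  exact KFlatLib.isDualizing_of_atPrime hb hfin hloc

end Ring

/-! ### Schemes -/

variable {X : Scheme.{u}}

/-- On a chart, local rings are localizations. -/
theorem gorLocalRing_stalk_iff {A : Type u} [CommRing A] (j : Spec (CommRingCat.of A) ⟶ X)
    [IsOpenImmersion j] (y : PrimeSpectrum A) :
    LocCoh.IsGorensteinLocalRing (X.presheaf.stalk (j.base y)) ↔
      LocCoh.IsGorensteinLocalRing (Localization.AtPrime y.asIdeal) :=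
  gor_congr (asIso (j.stalkMap y) ≪≫ Spec.stalkIso (CommRingCat.of A) y).commRingCatIsoToRingEquiv

theorem gorensteinRing_of_chart {A : Type u} [CommRing A] [IsNoetherianRing A]
    (j : Spec (CommRingCat.of A) ⟶ X) [IsOpenImmersion j]
    (h : ∀ x : X, LocCoh.IsGorensteinLocalRing (X.presheaf.stalk x)) : LocCoh.IsGorensteinRing A :=
  LC.gorensteinRing_of_atPrime fun q _ => (gorLocalRing_stalk_iff j ⟨q, inferInstance⟩).1 (h _)

variable [∀ (U : Scheme.{u}) (j : U ⟶ X) [IsOpenImmersion j], PreservesFiniteLimits (Scheme.Modules.restrictFunctor j)]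
  [∀ (R : CommRingCat.{u}), PreservesFiniteLimits (tilde.functor R)]

/-- The Gorenstein locus of a scheme with a dualizing complex is open. -/
theorem isOpen_gorenstein_sch [IsLocallyNoetherian X] {K : DCoh.D X} (hK : Dual2.IsDualizingSch X K) :
    IsOpen {x : X | LocCoh.IsGorensteinLocalRing (X.presheaf.stalk x)} := by
  rw [isOpen_iff_forall_mem_open]
  intro x hx
  obtain ⟨R, hR, j, hj, y, rfl⟩ := KFlatLib.exists_chart x
  haveI := hR
  haveI := hj
  obtain ⟨w, hw, -⟩ := hK R j
  refine ⟨j.base '' {p | LocCoh.IsGorensteinLocalRing (Localization.AtPrime p.asIdeal)}, ?_,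
    j.isOpenEmbedding.isOpenMap _ (DualityLC.isOpen_gorensteinLocus hw), y,
    (gorLocalRing_stalk_iff j y).1 hx, rfl⟩
  rintro _ ⟨p, hp, rfl⟩
  exact (gorLocalRing_stalk_iff j p).2 hp

/-- A scheme with a dualizing module is Cohen–Macaulay. -/
theorem cm_of_dualizing_module [IsLocallyNoetherian X] (M : X.Modules)
    (hD : Dual2.IsDualizingSch X (DCoh.inD X M)) (x : X) :
    LocCoh.IsCohenMacaulayLocalRing (X.presheaf.stalk x) := by
  obtain ⟨R, hR, j, hj, y, rfl⟩ := KFlatLib.exists_chart x
  haveI := hR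
  haveI := hj
  obtain ⟨w, hw, ⟨e⟩⟩ := hD R j
  refine ((DualityLC.cmLocalRing_stalk_iff_existsUnique hD).1 _).2 ?_
  obtain ⟨i, hi⟩ := exists_nontrivial_localized hw y
  obtain ⟨ei⟩ := DualityLC.exists_stalkHDEquiv j e y i
  have key : ∀ k : ℤ, Nontrivial ((DCoh.HD (DCoh.inD X M) k).presheaf.stalk (j.base y)) → k = 0 := fun k hk => by
    by_contra hne
    have hz : IsZero (DCoh.HD (DCoh.inD X M) k) := by
      rcases lt_or_gt_of_ne hne with h | h
      · exact DerivedCategory.isZero_of_isGE (DCoh.inD X M) 0 k h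
      · exact DerivedCategory.isZero_of_isLE (DCoh.inD X M) 0 k h
    haveI : Subsingleton ((DCoh.HD (DCoh.inD X M) k).presheaf.stalk (j.base y)) :=
      AddCommGrpCat.subsingleton_of_isZero
        ((Scheme.Modules.toPresheaf X ⋙ TopCat.Presheaf.stalkFunctor Ab.{u} (j.base y)).map_isZero hz)
    exact not_nontrivial _ hk
  have hi' := ei.toEquiv.nontrivial_congr.2 hi
  exact ⟨i, hi', fun k hk => (key k hk).trans (key i hi').symm⟩

/-- On a chart, cohomology sheaves are tilde modules. -/
noncomputable def chartHDIso {R : CommRingCat.{u}} (j : Spec R ⟶ X) [IsOpenImmersion j]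
    {K : DCoh.D X} {w : Dual.D R} (e : (DCoh.restrictD j).obj K ≅ (DCoh.tildeD R).obj w) (i : ℤ) :
    (Scheme.Modules.restrictFunctor j).obj (DCoh.HD K i) ≅
      (tilde.functor R).obj ((DerivedCategory.homologyFunctor (ModuleCat.{u} R) i).obj w) :=
  ((KFlatLib.mapDCHomologyIso (Scheme.Modules.restrictFunctor j) i).app K).symm ≪≫
    (DerivedCategory.homologyFunctor _ i).mapIso e ≪≫
      (KFlatLib.mapDCHomologyIso (tilde.functor R) i).app w

omit [∀ (U : Scheme.{u}) (j : U ⟶ X) [IsOpenImmersion j], PreservesFiniteLimits (Scheme.Modules.restrictFunctor j)] in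
/-- `M~` vanishes on an open set missing the support of `M`. -/
theorem isZero_restrict_tilde {R : CommRingCat.{u}} (M : ModuleCat.{u} R) (W : (Spec R).Opens)
    (h : ∀ p : PrimeSpectrum R, p ∈ W → p ∉ Module.support R M) :
    IsZero ((Scheme.Modules.restrictFunctor W.ι).obj (tilde M)) := by
  refine KFlatLib.isZero_of_stalk _ fun p => ?_
  haveI : Subsingleton (LocalizedModule (W.ι.base p).asIdeal.primeCompl M) :=
    Module.notMem_support_iff.1 (h _ p.2)
  haveI : Subsingleton ((tilde M).presheaf.stalk (W.ι.base p)) :=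
    (IsLocalizedModule.iso (W.ι.base p).asIdeal.primeCompl (tilde.toStalk M (W.ι.base p)).hom).symm.toEquiv.subsingleton
  haveI : Subsingleton ((((Scheme.Modules.restrictFunctor W.ι).obj (tilde M)).presheaf.stalk p : Ab.{u}) : Type u) :=
    @Equiv.subsingleton _ _ ((Scheme.Modules.restrictStalkNatIso W.ι p).app (tilde M)).addCommGroupIsoToAddEquiv.toEquiv this
  exact @ModuleCat.isZero_of_subsingleton _ _ ((DerSch.stalkFunctor _ p).obj _) this

end Groth.Agent.Dual349
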