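import Groth.Agent.DualityLC.RpushAdjoint
import Groth.Agent.KFlatLib.Scheme.TildePush
import Groth.Agent.KFlatLib.Scheme.TildeD
import Groth.Agent.KFlatLib.Scheme.RpushUnbounded
import Groth.Agent.Dual349.DualizingStalk
import Groth.Agent.EtDual68.DerivedClosed
import Mathlib.RingTheory.Jacobson.Ring

/-!
# The duality functor is independent of the base field
-/

set_option autoImplicit false
set_option linter.style.haveILetI false
set_option backward.isDefEq.respectTransparency false

universe u

open CategoryTheory CategoryTheory.Limits AlgebraicGeometry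

attribute [local instance] HasDerivedCategory.standard

namespace Groth.Agent.Dual349.BaseField

open KFlatLib

/-- Everything in the derived category of the empty scheme is zero. -/
theorem isZero_of_isEmpty {X : Scheme.{u}} [IsEmpty X] (C : DCoh.D X) : IsZero C := by
  have hM : ∀ M : X.Modules, IsZero M := fun M => by
    rw [IsZero.iff_id_eq_zero]
    refine Scheme.Modules.hom_ext _ _ fun U => ConcreteCategory.hom_ext _ _ fun s => ?_
    exact TopCat.Presheaf.section_ext (⟨M.presheaf, M.isSheaf⟩ : TopCat.Sheaf Ab.{u} X) U _ _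
      fun y _ => (IsEmpty.false y).elim
  haveI : IsIso (0 : C ⟶ C) := (DerivedCategory.isIso_iff _ _).2 fun i =>
    ⟨0, (hM _).eq_of_src _ _, (hM _).eq_of_src _ _⟩
  rw [IsZero.iff_id_eq_zero, ← cancel_mono (0 : C ⟶ C)]
  simp

/-- A field through which a nonempty scheme of finite type over `k` factors is finite over `k`. -/
theorem finite_of_factor {k k' : Type u} [Field k] [Field k'] [Algebra k k'] {X : Scheme.{u}} [Nonempty X]
    (f : X ⟶ Spec (CommRingCat.of k)) [IsProper f] (f' : X ⟶ Spec (CommRingCat.of k'))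
    (h : f' ≫ Spec.map (CommRingCat.ofHom (algebraMap k k')) = f) : Module.Finite k k' := by
  haveI : CompactSpace X := QuasiCompact.compactSpace_of_compactSpace f
  obtain ⟨x, -, hx⟩ := IsClosed.exists_closed_singleton (isClosed_univ (X := X)) Set.univ_nonempty
  haveI : IsClosedImmersion (X.fromSpecResidueField x) :=
    IsClosedImmersion.of_isPreimmersion _ (by rwa [Scheme.range_fromSpecResidueField])
  let ι := Spec.preimage (X.fromSpecResidueField x ≫ f')
  let φ : k →+* X.residueField x := ι.hom.comp (algebraMap k k')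
  have hφ : Spec.map (CommRingCat.ofHom φ) = X.fromSpecResidueField x ≫ f := by
    rw [← h, show CommRingCat.ofHom φ = CommRingCat.ofHom (algebraMap k k') ≫ ι from rfl, Spec.map_comp]
    simp [ι]
  haveI : LocallyOfFiniteType (Spec.map (CommRingCat.ofHom φ)) := by
    rw [hφ]
    infer_instance
  have hft : φ.FiniteType := (HasRingHomProperty.Spec_iff (P := @LocallyOfFiniteType)).1 ‹_›
  letI := φ.toAlgebra
  haveI : Algebra.FiniteType k (X.residueField x) := hft
  haveI : Module.Finite k (X.residueField x) := finite_of_finite_type_of_isJacobsonRing k (X.residueField x)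
  let l : k' →ₐ[k] X.residueField x := { ι.hom with commutes' := fun _ => rfl }
  exact Module.Finite.of_injective l.toLinearMap ι.hom.injective

variable (k k' : Type u) [Field k] [Field k'] [Algebra k k']

theorem exact_coextend :
    PreservesFiniteLimits (ModuleCat.coextendScalars.{u, u, u} (algebraMap k k')) ∧
      PreservesFiniteColimits (ModuleCat.coextendScalars.{u, u, u} (algebraMap k k')) := by
  let F := ModuleCat.coextendScalars.{u, u, u} (algebraMap k k')
  haveI : F.IsRightAdjoint := (ModuleCat.restrictCoextendScalarsAdj.{u} (algebraMap k k')).isRightAdjoint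
  haveI hl : PreservesFiniteLimits F := inferInstance
  haveI : HasBinaryBiproducts (ModuleCat.{u} k) := HasBinaryBiproducts.of_hasBinaryProducts
  haveI : F.Additive := (ModuleCat.restrictCoextendScalarsAdj.{u} (algebraMap k k')).right_adjoint_additive
  haveI : F.PreservesEpimorphisms := ⟨fun {M N} g hg => by
    rw [ModuleCat.epi_iff_surjective] at hg ⊢
    intro y
    let R := (ModuleCat.restrictScalars (algebraMap k k')).obj (ModuleCat.of k' k')
    haveI : Module.Free k R := Module.Free.of_divisionRing k R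
    obtain ⟨z, hz⟩ := Module.projective_lifting_property g.hom (y : R →ₗ[k] N) hg
    exact ⟨z, hz⟩⟩
  haveI := Functor.preservesHomology_of_preservesEpis_and_kernels F
  exact ⟨hl, F.preservesFiniteColimits_of_preservesHomology⟩

/-- The `k`-dual of a finite extension is one-dimensional. -/
theorem nonempty_coextend_iso [Module.Finite k k'] :
    Nonempty (ModuleCat.of k' k' ≅ (ModuleCat.coextendScalars.{u, u, u} (algebraMap k k')).obj (ModuleCat.of k k)) := by
  obtain ⟨φ, hφ⟩ : ∃ φ : k' →ₗ[k] k, φ ≠ 0 := by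
    haveI : Nontrivial (k' →ₗ[k] k) := by
      refine Module.nontrivial_of_finrank_pos (R := k) ?_
      rw [Subspace.dual_finrank_eq]
      exact Module.finrank_pos
    exact exists_ne 0
  let Ψ : k' →ₗ[k] (k' →ₗ[k] k) := (LinearMap.mul k k').compr₂ φ
  have hinj : Function.Injective Ψ := by
    rw [injective_iff_map_eq_zero]
    intro b hb
    by_contra hb0
    exact hφ (LinearMap.ext fun a => by
      have := LinearMap.congr_fun hb (b⁻¹ * a)
      simpa [Ψ, ← mul_assoc, mul_inv_cancel₀ hb0] using this)
  have hsurj : Function.Surjective Ψ :=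
    (LinearMap.injective_iff_surjective_of_finrank_eq_finrank (Subspace.dual_finrank_eq).symm).1 hinj
  let R := (ModuleCat.restrictScalars (algebraMap k k')).obj (ModuleCat.of k' k')
  let M := (ModuleCat.coextendScalars.{u, u, u} (algebraMap k k')).obj (ModuleCat.of k k)
  let w : R →ₗ[k] k :=
    { toFun := fun a : k' => φ a
      map_add' := map_add φ
      map_smul' := fun c a => by
        show φ (algebraMap k k' c * (show k' from a)) = c • φ (show k' from a)
        rw [← Algebra.smul_def]
        exact φ.map_smul c (show k' from a) }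
  let m : M := w
  let L : k' →ₗ[k'] M := LinearMap.toSpanSingleton k' M m
  have hL : ∀ b a : k', (show R →ₗ[k] k from L b) a = Ψ b a := fun b a => by
    show φ (a * b) = φ (b * a)
    rw [mul_comm]
  refine ⟨(LinearEquiv.ofBijective L ⟨fun b b' h => hinj (LinearMap.ext fun a => ?_), fun v => ?_⟩).toModuleIso⟩
  · rw [← hL, ← hL, h]
  · let v' : k' →ₗ[k] k :=
      { toFun := fun a : k' => (show R →ₗ[k] k from v) a
        map_add' := map_add (show R →ₗ[k] k from v)
        map_smul' := fun c a => by
          rw [Algebra.smul_def]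
          exact (show R →ₗ[k] k from v).map_smul c (show R from a) }
    obtain ⟨b, hb⟩ := hsurj v'
    refine ⟨b, LinearMap.ext fun a => ?_⟩
    exact (hL b a).trans (LinearMap.congr_fun hb (show k' from a))

variable {k k'}

/-- The upper shriek of a finite extension of fields carries `O` to `O`. -/
theorem nonempty_field_iso [Module.Finite k k'] [DCoh.HasRpush (Spec.map (CommRingCat.ofHom (algebraMap k k')))]
    (hg : DCoh.RpushPreservesQCoh (Spec.map (CommRingCat.ofHom (algebraMap k k'))))
    (b : DCoh.DQCoh (Spec (CommRingCat.of k)) ⥤ DCoh.DQCoh (Spec (CommRingCat.of k')))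
    (adj : DCoh.RpushQ (Spec.map (CommRingCat.ofHom (algebraMap k k'))) hg ⊣ b)
    (O : DCoh.DQCoh (Spec (CommRingCat.of k)))
    (hO : Nonempty (O.obj ≅ DCoh.inD (Spec (CommRingCat.of k)) (Coh.structureModule (Spec (CommRingCat.of k))))) :
    Nonempty ((b.obj O).obj ≅ DCoh.inD (Spec (CommRingCat.of k')) (Coh.structureModule (Spec (CommRingCat.of k')))) := by
  obtain ⟨eO⟩ := hO
  let g := CommRingCat.ofHom (algebraMap k k')
  haveI : PreservesFiniteLimits (tilde.functor (CommRingCat.of k)) := QCoh.tilde_preservesFiniteLimits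
  haveI : PreservesFiniteLimits (tilde.functor (CommRingCat.of k')) := QCoh.tilde_preservesFiniteLimits
  haveI : (tilde.functor (CommRingCat.of k)).Additive := tilde_additive _
  haveI : (tilde.functor (CommRingCat.of k')).Additive := tilde_additive _
  haveI : PreservesFiniteColimits (tilde.functor (CommRingCat.of k)) := QCoh.tilde_preservesFiniteColimits
  haveI : PreservesFiniteColimits (tilde.functor (CommRingCat.of k')) := QCoh.tilde_preservesFiniteColimits
  let Co := ModuleCat.coextendScalars.{u, u, u} (algebraMap k k')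
  haveI : PreservesFiniteLimits Co := (exact_coextend k k').1
  haveI : PreservesFiniteColimits Co := (exact_coextend k k').2
  haveI : HasBinaryBiproducts (ModuleCat.{u} k) := HasBinaryBiproducts.of_hasBinaryProducts
  haveI : Co.Additive := (ModuleCat.restrictCoextendScalarsAdj.{u} (algebraMap k k')).right_adjoint_additive
  let ad := EtDual68.adjDerived (ModuleCat.restrictCoextendScalarsAdj.{u} (algebraMap k k'))
  let T := DCoh.tildeD (CommRingCat.of k')
  let T₀ := DCoh.tildeD (CommRingCat.of k)
  obtain ⟨ρ⟩ := nonempty_tildeD_rpush_iso g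
  obtain ⟨W, ⟨eW⟩⟩ := exists_tildeD_iso (b.obj O).property
  let A₀ : DerivedCategory (ModuleCat.{u} k) :=
    (DerivedCategory.singleFunctor (ModuleCat.{u} k) 0).obj (ModuleCat.of k k)
  let e₀ : T₀.obj A₀ ≅ O.obj :=
    ((tilde.functor (CommRingCat.of k)).mapDerivedCategorySingleFunctor 0).app _ ≪≫
      (DerivedCategory.singleFunctor _ 0).mapIso tildeSelf ≪≫ eO.symm
  let hff := ObjectProperty.fullyFaithfulι (DCoh.IsQCohD (X := Spec (CommRingCat.of k)))
  let hff' := ObjectProperty.fullyFaithfulι (DCoh.IsQCohD (X := Spec (CommRingCat.of k')))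
  let W' := Co.mapDerivedCategory.obj A₀
  let V' : DerivedCategory (ModuleCat.{u} k') → DCoh.DQCoh (Spec (CommRingCat.of k')) := fun V =>
    ⟨T.obj V, isQCohD_tildeD (CommRingCat.of k') V⟩
  let eq : ∀ V : DerivedCategory (ModuleCat.{u} k'), (V ⟶ W) ≃ (V ⟶ W') := fun V =>
    (Equiv.ofBijective _ (tildeD_map_bijective (R := CommRingCat.of k') V W)).trans <|
      eW.homToEquiv.trans <| (hff'.homEquiv (X := V' V)).symm.trans <| (adj.homEquiv (V' V) O).symm.trans <|
        hff.homEquiv.trans <| (ρ.app V).homFromEquiv.trans <| e₀.symm.homToEquiv.trans <|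
          (Equiv.ofBijective _ (tildeD_map_bijective (R := CommRingCat.of k) _ A₀)).symm.trans (ad.homEquiv V A₀)
  have hnat : ∀ {V U : DerivedCategory (ModuleCat.{u} k')} (v : U ⟶ V) (z : V ⟶ W), eq U (v ≫ z) = v ≫ eq V z := by
    intro V U v z
    change ad.homEquiv U A₀ ((Equiv.ofBijective _ (tildeD_map_bijective (R := CommRingCat.of k) _ A₀)).symm
        ((ρ.inv.app U ≫ ((adj.homEquiv (V' U) O).symm (ObjectProperty.homMk (T.map (v ≫ z) ≫ eW.hom))).hom) ≫ e₀.inv)) =
      v ≫ ad.homEquiv V A₀ ((Equiv.ofBijective _ (tildeD_map_bijective (R := CommRingCat.of k) _ A₀)).symm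
        ((ρ.inv.app V ≫ ((adj.homEquiv (V' V) O).symm (ObjectProperty.homMk (T.map z ≫ eW.hom))).hom) ≫ e₀.inv))
    rw [← ad.homEquiv_naturality_left]
    refine congrArg _ ?_
    rw [Equiv.symm_apply_eq]
    refine Eq.trans ?_ (((DCoh.tildeD (CommRingCat.of k)).map_comp _ _).trans (congrArg (_ ≫ ·)
      (Equiv.apply_symm_apply (Equiv.ofBijective _ (tildeD_map_bijective (R := CommRingCat.of k) _ A₀)) _))).symm
    have h1 : (ObjectProperty.homMk (T.map (v ≫ z) ≫ eW.hom) : V' U ⟶ b.obj O) =
        (ObjectProperty.homMk (T.map v) : V' U ⟶ V' V) ≫ ObjectProperty.homMk (T.map z ≫ eW.hom) := by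
      ext1
      exact (congrArg (· ≫ eW.hom) (T.map_comp v z)).trans (Category.assoc _ _ _)
    rw [h1, adj.homEquiv_naturality_left_symm]
    have h2 := ρ.inv.naturality v
    simp only [← Category.assoc]
    refine congrArg (· ≫ e₀.inv) ?_
    exact ((Category.assoc _ _ _).symm.trans (congrArg (· ≫ _) h2.symm))
  let e : W ≅ W' := Yoneda.fullyFaithful.preimageIso
    (NatIso.ofComponents (fun V => (eq V.unop).toIso) (fun {V U} v => by ext z; exact hnat v.unop z))
  obtain ⟨c⟩ := nonempty_coextend_iso k k'
  exact ⟨eW.symm ≪≫ T.mapIso (e ≪≫ (Co.mapDerivedCategorySingleFunctor 0).app _ ≪≫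
      (DerivedCategory.singleFunctor _ 0).mapIso c.symm) ≪≫
    ((tilde.functor (CommRingCat.of k')).mapDerivedCategorySingleFunctor 0).app _ ≪≫
      (DerivedCategory.singleFunctor _ 0).mapIso tildeSelf⟩

/-- The dualizing complex of a proper scheme is independent of the base field. -/
theorem nonempty_indep {X : Scheme.{u}} (f : X ⟶ Spec (CommRingCat.of k)) [IsProper f]
    (f' : X ⟶ Spec (CommRingCat.of k')) (hff' : f' ≫ Spec.map (CommRingCat.ofHom (algebraMap k k')) = f)
    [DCoh.HasRpush f] (hf : DCoh.RpushPreservesQCoh f) (a : DCoh.DQCoh (Spec (CommRingCat.of k)) ⥤ DCoh.DQCoh X)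
    (adj : DCoh.RpushQ f hf ⊣ a) [DCoh.HasRpush f'] (hf' : DCoh.RpushPreservesQCoh f')
    (a' : DCoh.DQCoh (Spec (CommRingCat.of k')) ⥤ DCoh.DQCoh X) (adj' : DCoh.RpushQ f' hf' ⊣ a')
    (O : DCoh.DQCoh (Spec (CommRingCat.of k)))
    (hO : Nonempty (O.obj ≅ DCoh.inD (Spec (CommRingCat.of k)) (Coh.structureModule (Spec (CommRingCat.of k)))))
    (O' : DCoh.DQCoh (Spec (CommRingCat.of k')))
    (hO' : Nonempty (O'.obj ≅ DCoh.inD (Spec (CommRingCat.of k')) (Coh.structureModule (Spec (CommRingCat.of k'))))) :
    Nonempty ((a.obj O).obj ≅ (a'.obj O').obj) := by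
  rcases isEmpty_or_nonempty X with hX | hX
  · exact ⟨(isZero_of_isEmpty _).iso (isZero_of_isEmpty _)⟩
  haveI : Module.Finite k k' := finite_of_factor f f' hff'
  subst hff'
  let g := Spec.map (CommRingCat.ofHom (algebraMap k k'))
  haveI := hasRpush_scheme g
  have hg : DCoh.RpushPreservesQCoh g := fun K hK => isQCohD_rpush g hK
  haveI := DualityLC.isLeftAdjoint_rpush g hg
  let adjb := Adjunction.ofIsLeftAdjoint (DCoh.RpushQ g hg)
  obtain ⟨c⟩ := nonempty_rpush_comp f' g
  let e : DCoh.RpushQ f' hf' ⋙ DCoh.RpushQ g hg ≅ DCoh.RpushQ (f' ≫ g) hf :=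
    NatIso.ofComponents (fun K => ObjectProperty.isoMk _ (c.app K.obj))
      (fun {K L} u => ObjectProperty.hom_ext _ (c.hom.naturality u.hom))
  let r := adj.rightAdjointUniq ((adj'.comp adjb).ofNatIsoLeft e)
  obtain ⟨eb⟩ := nonempty_field_iso hg _ adjb O hO
  obtain ⟨eO'⟩ := hO'
  exact ⟨(ObjectProperty.ι _).mapIso (r.app O ≪≫ a'.mapIso (ObjectProperty.isoMk _ (eb ≪≫ eO'.symm)))⟩

end Groth.Agent.Dual349.BaseField
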