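import Groth.Agent.Dual349.DerivedHomO
import Groth.Agent.KFlatLib.Scheme.RHomBounded
import Groth.Agent.KFlatLib.Scheme.CohD
import Groth.Agent.KZ.ClosedDev

/-!
# Duality for a closed immersion on bounded below quasi-coherent objects
-/

set_option autoImplicit false
set_option linter.style.haveILetI false
set_option backward.isDefEq.respectTransparency false
set_option backward.isDefEq.respectTransparency.types false

universe u

open CategoryTheory CategoryTheory.Limits AlgebraicGeometry

attribute [local instance] HasDerivedCategory.standard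

namespace Groth.Agent.Dual349

open KFlatLib

variable {Z X : Scheme.{u}} (i : Z ⟶ X) [IsClosedImmersion i]
  [PreservesFiniteLimits (Scheme.Modules.pushforward i)] [PreservesFiniteColimits (Scheme.Modules.pushforward i)]

omit [PreservesFiniteLimits (Scheme.Modules.pushforward i)] [PreservesFiniteColimits (Scheme.Modules.pushforward i)] in
theorem isQCoh_of_push {M : Z.Modules} (h : Coh.IsQCoh ((Scheme.Modules.pushforward i).obj M)) : Coh.IsQCoh M :=
  haveI := KZ.ClosedDev.isIso_counit i h
  isQCoh_of_iso (asIso ((Scheme.Modules.pullbackPushforwardAdjunction i).counit.app M)) (QCoh.isQCoh_pullback i h)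

omit [PreservesFiniteLimits (Scheme.Modules.pushforward i)] [PreservesFiniteColimits (Scheme.Modules.pushforward i)] in
theorem isCoh_of_push [IsLocallyNoetherian X] {M : Z.Modules}
    (h : Coh.IsCoh ((Scheme.Modules.pushforward i).obj M)) : Coh.IsCoh M :=
  haveI := LocallyOfFiniteType.isLocallyNoetherian i
  haveI := KZ.ClosedDev.isIso_counit i h.1
  isCoh_of_iso (asIso ((Scheme.Modules.pullbackPushforwardAdjunction i).counit.app M)) (KZ.ClosedDev.isCoh_pull i h)

theorem isQCohD_of_pushD {K : DCoh.D Z} (h : DCoh.IsQCohD ((Dual3.pushD i).obj K)) : DCoh.IsQCohD K := fun j =>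
  isQCoh_of_push i (isQCoh_of_iso ((mapDCHomologyIso (Scheme.Modules.pushforward i) j).app K) (h j))

theorem isCohD_of_pushD [IsLocallyNoetherian X] {K : DCoh.D Z} (h : DCoh.IsCohD ((Dual3.pushD i).obj K)) :
    DCoh.IsCohD K := fun j =>
  isCoh_of_push i (isCoh_of_iso ((mapDCHomologyIso (Scheme.Modules.pushforward i) j).app K) (h j))

omit [IsClosedImmersion i] [PreservesFiniteLimits (Scheme.Modules.pushforward i)]
  [PreservesFiniteColimits (Scheme.Modules.pushforward i)] in
/-- The chosen representative of `i_* O_Z`. -/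
noncomputable abbrev pushUnitCx : CochainComplex X.Modules ℤ :=
  (HomologicalComplex.single X.Modules (ComplexShape.up ℤ) 0).obj
    ((Scheme.Modules.pushforward i).obj (Coh.structureModule Z))

omit [IsClosedImmersion i] [PreservesFiniteLimits (Scheme.Modules.pushforward i)]
  [PreservesFiniteColimits (Scheme.Modules.pushforward i)] in
/-- `i_* O_Z` in the derived category. -/
noncomputable def pushUnitCxIso : DCoh.toD X (pushUnitCx i) ≅
    DCoh.inD X ((Scheme.Modules.pushforward i).obj (Coh.structureModule Z)) :=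
  ((DerivedCategory.singleFunctorIsoCompQ X.Modules 0).app _).symm

theorem isPseudoCoherent_pushUnit [IsLocallyNoetherian X] (m : ℤ) :
    DCoh.IsPseudoCoherentD m (DCoh.inD X ((Scheme.Modules.pushforward i).obj (Coh.structureModule Z))) := by
  haveI := LocallyOfFiniteType.isLocallyNoetherian i
  have hc : Coh.IsCoh ((Scheme.Modules.pushforward i).obj (Coh.structureModule Z)) :=
    QCoh.isCoh_pushforward_finite i QCoh.isCoh_structureModule'
  have key : ∀ j : ℤ, Coh.IsCoh (DCoh.HD (DCoh.inD X ((Scheme.Modules.pushforward i).obj (Coh.structureModule Z))) j) := fun j => by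
    rcases eq_or_ne j 0 with rfl | hj
    · exact isCoh_of_iso ((DerivedCategory.singleFunctorCompHomologyFunctorIso X.Modules 0).app _).symm hc
    · refine isCoh_of_isZero ?_
      rcases hj.lt_or_gt with h | h
      · exact DerivedCategory.isZero_of_isGE _ 0 j h
      · exact DerivedCategory.isZero_of_isLE _ 0 j h
  exact (isPseudoCoherentD_iff _ _).2 (locPC_of_coh (fun j => (key j).1) (fun j _ => key j) 0
    fun j hj => DerivedCategory.isZero_of_isLE _ 0 j hj)

variable [Dual3.HasHomO i]

theorem nonempty_RHomO_obj (K : DCoh.D X) :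
    ∃ (E : CochainComplex X.Modules ℤ) (_ : DCoh.HasLTensorCx E) (_ : DCoh.HasRSheafHom E),
      Nonempty (DCoh.toD X E ≅ DCoh.inD X ((Scheme.Modules.pushforward i).obj (Coh.structureModule Z))) ∧
      Nonempty ((Dual3.pushD i).obj ((RHomO i).obj K) ≅ (DCoh.RSheafHom E).obj K) := by
  haveI := hasLpull i
  haveI := hasLTensorCx (pushUnitCx i)
  obtain ⟨adjL⟩ := nonempty_lpull_pushD_adj i
  obtain ⟨φ⟩ := nonempty_lpull_pushD_iso i (pushUnitCx i) ⟨pushUnitCxIso i⟩
  haveI : DCoh.HasRSheafHom (pushUnitCx i) := ((adjL.comp (RHomOAdj i)).ofNatIsoLeft φ).isLeftAdjoint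
  obtain ⟨ψ⟩ := nonempty_RHomO_pushD_iso i (pushUnitCx i) ⟨pushUnitCxIso i⟩
  exact ⟨pushUnitCx i, inferInstance, inferInstance, ⟨pushUnitCxIso i⟩, ⟨ψ.app K⟩⟩

theorem isQCohD_RHomO (hpc : ∀ m : ℤ, DCoh.IsPseudoCoherentD m
      (DCoh.inD X ((Scheme.Modules.pushforward i).obj (Coh.structureModule Z))))
    {K : DCoh.D X} (hK : DCoh.IsQCohD K) (n : ℤ) [K.IsGE n] : DCoh.IsQCohD ((RHomO i).obj K) := by
  obtain ⟨E, _, _, ⟨eE⟩, ⟨ψ⟩⟩ := nonempty_RHomO_obj i K
  refine isQCohD_of_pushD i (isQCohD_of_iso ψ.symm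
    (isQCohD_RSheafHom_of_pseudoCoherent E (fun m => ?_) K hK n))
  exact (isPseudoCoherentD_iff _ _).2 (((isPseudoCoherentD_iff _ _).1 (hpc m)).of_iso eE.symm)

/-- A right adjoint of `Ri_*` on `D_QCoh` is `R Hom(O_Z, -)` on bounded below objects. -/
theorem nonempty_rightAdjoint_iso (hpc : ∀ m : ℤ, DCoh.IsPseudoCoherentD m
      (DCoh.inD X ((Scheme.Modules.pushforward i).obj (Coh.structureModule Z))))
    [DCoh.HasRpush i] (hf : DCoh.RpushPreservesQCoh i)
    (a : DCoh.DQCoh X ⥤ DCoh.DQCoh Z) (adj : DCoh.RpushQ i hf ⊣ a) :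
    Nonempty (Dual3.bddι X ⋙ a ⋙ ObjectProperty.ι _ ≅
      Dual3.bddι X ⋙ ObjectProperty.ι _ ⋙ RHomO i) := by
  obtain ⟨e⟩ := nonempty_rpush_iso_pushD i
  let adj' : DCoh.Rpush i ⊣ RHomO i := (RHomOAdj i).ofNatIsoLeft e.symm
  let τ : a ⋙ ObjectProperty.ι _ ⟶ ObjectProperty.ι _ ⋙ RHomO i :=
    { app := fun K => adj'.homEquiv _ _ (adj.counit.app K).hom
      naturality := fun K L φ => by
        refine (adj'.homEquiv_naturality_left _ _).symm.trans
          (Eq.trans (congrArg _ ?_) (adj'.homEquiv_naturality_right _ _))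
        exact congrArg (fun t => t.hom) (adj.counit.naturality φ) }
  haveI : ∀ K : (Dual3.IsBddBelowQ X).FullSubcategory, IsIso (τ.app K.obj) := by
    intro K
    obtain ⟨n, hn⟩ := K.property
    haveI : K.obj.obj.IsGE n := hn
    let R : DCoh.DQCoh Z := ⟨(RHomO i).obj K.obj.obj, isQCohD_RHomO i hpc K.obj.property n⟩
    let σ : a.obj K.obj ⟶ R := ObjectProperty.homMk (τ.app K.obj)
    have key : ∀ (M : DCoh.DQCoh Z) (x : M ⟶ a.obj K.obj),
        (adj'.homEquiv M.obj K.obj.obj).symm (x ≫ σ).hom = ((adj.homEquiv M K.obj).symm x).hom := by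
      intro M x
      refine (adj'.homEquiv_naturality_left_symm x.hom (τ.app K.obj)).trans ?_
      refine (congrArg ((DCoh.Rpush i).map x.hom ≫ ·) (Equiv.symm_apply_apply _ _)).trans ?_
      exact congrArg (fun t => t.hom) (adj.homEquiv_counit M K.obj x).symm
    haveI : IsIso σ := isIso_of_yoneda_map_bijective _ fun M => by
      constructor
      · intro x y h
        refine (adj.homEquiv M K.obj).symm.injective (ObjectProperty.hom_ext _ ?_)
        rw [← key M x, ← key M y]
        exact congrArg (fun t => (adj'.homEquiv M.obj K.obj.obj).symm t.hom) h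
      · intro y
        refine ⟨adj.homEquiv M K.obj (ObjectProperty.homMk ((adj'.homEquiv M.obj K.obj.obj).symm y.hom)),
          ObjectProperty.hom_ext _ ((adj'.homEquiv M.obj K.obj.obj).symm.injective ?_)⟩
        rw [key, Equiv.symm_apply_apply]
        rfl
    exact inferInstanceAs (IsIso ((ObjectProperty.ι DCoh.IsQCohD).map σ))
  haveI : ∀ K, IsIso ((Functor.whiskerLeft (Dual3.bddι X) τ).app K) := fun K =>
    inferInstanceAs (IsIso (τ.app K.obj))
  haveI := NatIso.isIso_of_isIso_app (Functor.whiskerLeft (Dual3.bddι X) τ)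
  exact ⟨asIso (Functor.whiskerLeft (Dual3.bddι X) τ)⟩

end Groth.Agent.Dual349
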