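import Groth.Agent.KFlatLib.Scheme.Pullback
import Groth.Agent.KFlatLib.Scheme.ClosedPush
import Groth.Agent.FibFlat.Stalk
import Groth.Agent.QCoh.Submod

/-!
# The unit of `i^* ⊣ i_*` along a closed immersion, on stalks
-/

set_option autoImplicit false
set_option linter.style.haveILetI false
set_option backward.isDefEq.respectTransparency false
set_option backward.isDefEq.respectTransparency.types false

universe u

open CategoryTheory CategoryTheory.Limits AlgebraicGeometry TopologicalSpace Opposite

namespace Groth.Agent.Dual349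

open KFlatLib

theorem germ_smul {X : Scheme.{u}} (F : X.Modules) (U : X.Opens) (x : X) (hx : x ∈ U) (r : Γ(X, U)) (m : Γ(F, U)) :
    F.presheaf.germ U x hx (r • m) = X.presheaf.germ U x hx r • F.presheaf.germ U x hx m :=
  PresheafOfModules.germ_smul (R := X.presheaf)
    (show PresheafOfModules (X.presheaf ⋙ forget₂ CommRingCat RingCat) from F.val) x U hx r m

variable {Z X : Scheme.{u}} (i : Z ⟶ X) [IsClosedImmersion i] (M : X.Modules)

/-- The map of stalks `M_{i z} → (i^* M)_z`. -/
noncomputable def unitStalk (z : Z) :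
    M.presheaf.stalk (i.base z) →+ ((Scheme.Modules.pullback i).obj M).presheaf.stalk z :=
  (TopCat.Presheaf.stalkPushforward Ab.{u} i.base ((Scheme.Modules.pullback i).obj M).presheaf z).hom.comp
    (((DerSch.stalkFunctor X (i.base z)).map
      ((Scheme.Modules.pullbackPushforwardAdjunction i).unit.app M)).hom.toAddMonoidHom)

theorem unitStalk_germ (z : Z) (U : X.Opens) (hU : i.base z ∈ U) (s : Γ(M, U)) :
    unitStalk i M z (M.presheaf.germ U (i.base z) hU s) =
      ((Scheme.Modules.pullback i).obj M).presheaf.germ (i ⁻¹ᵁ U) z hU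
        (((Scheme.Modules.pullbackPushforwardAdjunction i).unit.app M).app U s) :=
  (congrArg (TopCat.Presheaf.stalkPushforward Ab.{u} i.base ((Scheme.Modules.pullback i).obj M).presheaf z)
    (DerSch.stalkFunctor_map_germ (i.base z) ((Scheme.Modules.pullbackPushforwardAdjunction i).unit.app M) U hU s)).trans
    (ConcreteCategory.congr_hom (TopCat.Presheaf.stalkPushforward_germ Ab.{u} i.base
      ((Scheme.Modules.pullback i).obj M).presheaf U z hU) _)

theorem unitStalk_smul (z : Z) (a : X.presheaf.stalk (i.base z)) (m : M.presheaf.stalk (i.base z)) :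
    unitStalk i M z (a • m) = (i.stalkMap z).hom a • unitStalk i M z m := by
  obtain ⟨U, hU, s, rfl⟩ := M.presheaf.exists_germ_eq (x := i.base z) m
  obtain ⟨V, hV, r, rfl⟩ := X.presheaf.exists_germ_eq (x := i.base z) a
  rw [← TopCat.Presheaf.germ_res_apply M.presheaf (homOfLE inf_le_left : U ⊓ V ⟶ U) (i.base z) ⟨hU, hV⟩ s,
    ← TopCat.Presheaf.germ_res_apply X.presheaf (homOfLE inf_le_right : U ⊓ V ⟶ V) (i.base z) ⟨hU, hV⟩ r]
  generalize M.presheaf.map (homOfLE inf_le_left : U ⊓ V ⟶ U).op s = s'
  generalize X.presheaf.map (homOfLE inf_le_right : U ⊓ V ⟶ V).op r = r'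
  rw [← germ_smul, unitStalk_germ, unitStalk_germ, Scheme.Modules.Hom.app_smul]
  refine (germ_smul _ _ _ _ (i.app _ r') _).trans ?_
  exact congrArg (· • _) (Scheme.Hom.germ_stalkMap_apply i _ z _ r').symm

theorem unitStalk_surjective (z : Z) : Function.Surjective (unitStalk i M z) := by
  let P := (Scheme.Modules.pullback i).obj M
  let S : Submodule (Z.presheaf.stalk z) (P.presheaf.stalk z) :=
    { carrier := Set.range (unitStalk i M z)
      add_mem' := by
        rintro _ _ ⟨a, rfl⟩ ⟨b, rfl⟩
        exact ⟨a + b, map_add _ _ _⟩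
      zero_mem' := ⟨0, map_zero _⟩
      smul_mem' := by
        rintro c _ ⟨m, rfl⟩
        obtain ⟨a, rfl⟩ := i.stalkMap_surjective z c
        exact ⟨a • m, unitStalk_smul i M z a m⟩ }
  let N : ModuleCat.{u} (Z.presheaf.stalk z) := ModuleCat.of _ ((P.presheaf.stalk z : Type u) ⧸ S)
  let φ : (DerSch.stalkFunctor Z z).obj P ⟶ N := ModuleCat.ofHom S.mkQ
  have hφ : φ = 0 := by
    apply ((skyAdj z).homEquiv P N).injective
    apply ((Scheme.Modules.pullbackPushforwardAdjunction i).homEquiv M ((sky z).obj N)).injective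
    rw [Adjunction.homEquiv_unit, Adjunction.homEquiv_unit]
    refine Scheme.Modules.hom_ext _ _ fun U => ?_
    refine ConcreteCategory.hom_ext _ _ fun s => funext fun h => ?_
    have h1 : φ (P.presheaf.germ (i ⁻¹ᵁ U) z h.down
        (((Scheme.Modules.pullbackPushforwardAdjunction i).unit.app M).app U s)) = 0 := by
      rw [← unitStalk_germ]
      exact (Submodule.Quotient.mk_eq_zero S).2 ⟨_, rfl⟩
    exact h1
  intro p
  have h2 : φ p = 0 := by rw [hφ]; rfl
  exact (Submodule.Quotient.mk_eq_zero S).1 h2

theorem mem_of_unitStalk_eq_zero (z : Z) (m : M.presheaf.stalk (i.base z)) (hm : unitStalk i M z m = 0) :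
    m ∈ RingHom.ker (i.stalkMap z).hom •
      (⊤ : Submodule (X.presheaf.stalk (i.base z)) (M.presheaf.stalk (i.base z))) := by
  set K := RingHom.ker (i.stalkMap z).hom
  let Q := (M.presheaf.stalk (i.base z) : Type u) ⧸
    (K • (⊤ : Submodule (X.presheaf.stalk (i.base z)) (M.presheaf.stalk (i.base z))))
  let e : (X.presheaf.stalk (i.base z) ⧸ K) ≃+* Z.presheaf.stalk z :=
    RingHom.quotientKerEquivOfSurjective (i.stalkMap_surjective z)
  letI : Module (Z.presheaf.stalk z) Q := Module.compHom Q e.symm.toRingHom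
  let N : ModuleCat.{u} (Z.presheaf.stalk z) := ModuleCat.of _ Q
  let q : (DerSch.stalkFunctor X (i.base z)).obj M ⟶ (ModuleCat.restrictScalars (i.stalkMap z).hom).obj N :=
    ModuleCat.ofHom (Y := (ModuleCat.restrictScalars (i.stalkMap z).hom).obj N)
      { toFun := fun x => (Submodule.Quotient.mk x : Q)
        map_add' := fun _ _ => rfl
        map_smul' := fun a x => by
          change (Submodule.Quotient.mk (a • x) : Q) = e.symm ((i.stalkMap z).hom a) • (Submodule.Quotient.mk x : Q)
          rw [show e.symm ((i.stalkMap z).hom a) = Ideal.Quotient.mk K a from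
            e.symm_apply_eq.2 rfl]
          rfl }
  let ψ : (Scheme.Modules.pullback i).obj M ⟶ (sky z).obj N :=
    ((Scheme.Modules.pullbackPushforwardAdjunction i).homEquiv M ((sky z).obj N)).symm
      ((skyAdj (i.base z)).homEquiv M _ q ≫ (skyPushforwardIso i z).inv.app N)
  let φ := ((skyAdj z).homEquiv _ N).symm ψ
  have key : ∀ x : M.presheaf.stalk (i.base z), φ (unitStalk i M z x) = (Submodule.Quotient.mk x : Q) := by
    intro x
    obtain ⟨U, hU, s, rfl⟩ := M.presheaf.exists_germ_eq (x := i.base z) x
    have h1 : (Scheme.Modules.pullbackPushforwardAdjunction i).homEquiv M ((sky z).obj N)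
        ((skyAdj z).homEquiv _ N φ) =
        (skyAdj (i.base z)).homEquiv M _ q ≫ (skyPushforwardIso i z).inv.app N := by
      rw [Equiv.apply_symm_apply, Equiv.apply_symm_apply]
    rw [Adjunction.homEquiv_unit] at h1
    have h2 := congrFun (ConcreteCategory.congr_hom (congrArg (fun g => Scheme.Modules.Hom.app g U) h1) s) ⟨hU⟩
    rw [unitStalk_germ]
    exact h2
  have h := key m
  rw [hm, map_zero] at h
  exact (Submodule.Quotient.mk_eq_zero _).1 h.symm

/-- The unit is an epimorphism. -/
instance epi_unit : Epi ((Scheme.Modules.pullbackPushforwardAdjunction i).unit.app M) := by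
  refine ⟨fun {N} g h e => ?_⟩
  refine Scheme.Modules.hom_ext _ _ fun U => ?_
  refine ConcreteCategory.hom_ext _ _ fun t => ?_
  refine TopCat.Presheaf.section_ext (⟨N.presheaf, N.isSheaf⟩ : TopCat.Sheaf Ab.{u} X) U _ _ fun y hy => ?_
  refine (DerSch.stalkFunctor_map_germ y g U hy t).symm.trans
    (Eq.trans ?_ (DerSch.stalkFunctor_map_germ y h U hy t))
  by_cases hr : y ∈ Set.range i.base
  · obtain ⟨z, rfl⟩ := hr
    obtain ⟨m, hm⟩ := unitStalk_surjective i M z (TopCat.Presheaf.stalkPushforward Ab.{u} i.base
      ((Scheme.Modules.pullback i).obj M).presheaf z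
      (((Scheme.Modules.pushforward i).obj ((Scheme.Modules.pullback i).obj M)).presheaf.germ U (i.base z) hy t))
    have hm' := (ConcreteCategory.bijective_of_isIso
      (TopCat.Presheaf.stalkPushforward Ab.{u} i.base ((Scheme.Modules.pullback i).obj M).presheaf z)).1 hm
    refine (congrArg _ hm'.symm).trans (Eq.trans ?_ (congrArg _ hm'))
    exact congrArg (fun k => ((DerSch.stalkFunctor X (i.base z)).map k).hom m) e |> fun h' => by
      simp only [Functor.map_comp] at h'
      exact h'
  · have hz := isZero_stalk_push i y hr ((Scheme.Modules.pullback i).obj M)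
    rw [AddCommGrpCat.isZero_iff_subsingleton] at hz
    haveI : Subsingleton (((Scheme.Modules.pushforward i).obj ((Scheme.Modules.pullback i).obj M)).presheaf.stalk y) := hz
    have h0 : ((Scheme.Modules.pushforward i).obj
      ((Scheme.Modules.pullback i).obj M)).presheaf.germ U y hy t = 0 := Subsingleton.elim _ _
    exact ((congrArg _ h0).trans (map_zero _)).trans ((congrArg _ h0).trans (map_zero _)).symm

/-- The ideal of germs vanishing on the closed subscheme. -/
noncomputable def stalkIdeal (y : X) : Ideal (X.presheaf.stalk y) :=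
  ⨅ (z : Z) (h : i.base z = y), RingHom.ker (FibFlat.sm i z y h)

theorem ker_stalkMap_le_stalkIdeal (z : Z) : RingHom.ker (i.stalkMap z).hom ≤ stalkIdeal i (i.base z) := by
  refine le_iInf₂ fun z' h => ?_
  obtain rfl : z' = z := i.isClosedEmbedding.injective h
  rw [show FibFlat.sm i z' (i.base z') h = (i.stalkMap z').hom from FibFlat.sm_self i z']

theorem stalkIdeal_eq_top (y : X) (hy : y ∉ Set.range i.base) : stalkIdeal i y = ⊤ :=
  top_le_iff.1 (le_iInf₂ fun z h => absurd ⟨z, h⟩ hy)

/-- The sections killed by the ideal of the closed subscheme. -/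
noncomputable def annSub : QCoh.SubMod M where
  mem V :=
    { carrier := {s | ∀ (y : X) (hy : y ∈ V), ∀ a ∈ stalkIdeal i y, a • M.presheaf.germ V y hy s = 0}
      add_mem' := fun {s t} hs ht y hy a ha => by rw [map_add, smul_add, hs y hy a ha, ht y hy a ha, add_zero]
      zero_mem' := fun y hy a _ => by rw [map_zero, smul_zero]
      smul_mem' := fun r s hs y hy a ha => by
        rw [germ_smul, smul_comm, hs y hy a ha, smul_zero] }
  map_mem {U V} l {s} hs y hy a ha := by
    rw [TopCat.Presheaf.germ_res_apply]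
    exact hs y (l hy) a ha
  of_locally U s h y hy a ha := by
    obtain ⟨V, l, hyV, hV⟩ := h y hy
    have := hV y hyV a ha
    rwa [TopCat.Presheaf.germ_res_apply] at this

/-- The submodule of sections killed by the ideal comes from the closed subscheme. -/
instance isIso_unit_annSub :
    IsIso ((Scheme.Modules.pullbackPushforwardAdjunction i).unit.app (annSub i M).toModules) := by
  set G := (annSub i M).toModules
  have key : ∀ (y : X) (g : G.presheaf.stalk y), ∀ a ∈ stalkIdeal i y, a • g = 0 := by
    intro y g a ha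
    obtain ⟨V, hV, t, rfl⟩ := G.presheaf.exists_germ_eq (x := y) g
    have h0 := (annSub i M).ι_app_mem V t y hV a ha
    rw [← DerSch.stalkFunctor_map_germ] at h0
    replace h0 := (map_smul ((DerSch.stalkFunctor X y).map (annSub i M).ι).hom a _).trans h0
    obtain ⟨W, hW, w, hw⟩ := G.presheaf.exists_germ_eq (x := y) (a • G.presheaf.germ V y hV t)
    rw [← hw] at h0 ⊢
    rw [DerSch.stalkFunctor_map_germ] at h0
    obtain ⟨W', hW', i₁, i₂, he⟩ := M.presheaf.germ_eq y hW hW ((annSub i M).ι.app W w) 0
      (h0.trans (map_zero _).symm)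
    rw [map_zero, ← QCoh.map_app_comm] at he
    rw [← TopCat.Presheaf.germ_res_apply G.presheaf i₁ y hW',
      (annSub i M).ι_app_injective W' (he.trans (map_zero _).symm), map_zero]
  haveI : Mono ((Scheme.Modules.pullbackPushforwardAdjunction i).unit.app G) := by
    refine QCoh.mono_of_app_injective _ fun U => (injective_iff_map_eq_zero _).2 fun t ht => ?_
    refine TopCat.Presheaf.section_ext (⟨G.presheaf, G.isSheaf⟩ : TopCat.Sheaf Ab.{u} X) U _ _ fun y hy => ?_
    refine Eq.trans ?_ (map_zero (G.presheaf.germ U y hy).hom).symm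
    by_cases hr : y ∈ Set.range i.base
    · obtain ⟨z, rfl⟩ := hr
      have h := mem_of_unitStalk_eq_zero i G z (G.presheaf.germ U (i.base z) hy t)
        (by rw [unitStalk_germ, ht, map_zero])
      have hbot : RingHom.ker (i.stalkMap z).hom •
          (⊤ : Submodule (X.presheaf.stalk (i.base z)) (G.presheaf.stalk (i.base z))) = ⊥ :=
        le_bot_iff.1 (Submodule.smul_le.2 fun a ha g _ =>
          (Submodule.mem_bot _).2 (key _ g a (ker_stalkMap_le_stalkIdeal i z ha)))
      rw [hbot] at h
      exact (Submodule.mem_bot _).1 h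
    · have h := key y (G.presheaf.germ U y hy t) 1 (by rw [stalkIdeal_eq_top i y hr]; trivial)
      rwa [one_smul] at h
  exact isIso_of_mono_of_epi _

end Groth.Agent.Dual349
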