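import Mathlib.Algebra.Homology.DerivedCategory.ShortExact
import Mathlib.Algebra.Homology.HomotopyCategory.ShortExact

/-!
# The connecting roof of a complex of three complexes, and descent to the homotopy category
-/

set_option autoImplicit false
set_option linter.style.haveILetI false
set_option backward.isDefEq.respectTransparency false

universe w v u

open CategoryTheory CategoryTheory.Limits CategoryTheory.Pretriangulated CochainComplex CochainComplex.HomComplex

namespace Groth.Agent.Dual349.ConeRoof

section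

variable {A : Type u} [Category.{v} A] [Abelian A] [HasDerivedCategory.{w} A]

/-- `cone(ι) ⟶ X₁⟦1⟧` is invertible when `X₂` is acyclic. -/
theorem isIso_mor₃ (S : ShortComplex (CochainComplex A ℤ)) (h : IsZero (DerivedCategory.Q.obj S.X₂)) :
    IsIso (DerivedCategory.Q.map (mappingCone.triangle S.f).mor₃) := by
  have hT := DerivedCategory.mappingCone_triangle_distinguished S.f
  haveI : IsIso (DerivedCategory.Q.map (mappingCone.triangle S.f).mor₃ ≫
      (DerivedCategory.Q.commShiftIso (1 : ℤ)).hom.app S.X₁) := (Triangle.isZero₂_iff_isIso₃ _ hT).1 h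
  exact IsIso.of_isIso_comp_right (DerivedCategory.Q.map (mappingCone.triangle S.f).mor₃)
    ((DerivedCategory.Q.commShiftIso (1 : ℤ)).hom.app S.X₁)

/-- The connecting roof `X₁⟦1⟧ ⟶ X₃`. -/
noncomputable def roof (S : ShortComplex (CochainComplex A ℤ)) (h : IsZero (DerivedCategory.Q.obj S.X₂)) :
    DerivedCategory.Q.obj (S.X₁⟦(1 : ℤ)⟧) ⟶ DerivedCategory.Q.obj S.X₃ :=
  haveI := isIso_mor₃ S h
  inv (DerivedCategory.Q.map (mappingCone.triangle S.f).mor₃) ≫
    DerivedCategory.Q.map (mappingCone.descShortComplex S)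

theorem roof_naturality {S T : ShortComplex (CochainComplex A ℤ)} (φ : S ⟶ T)
    (hS : IsZero (DerivedCategory.Q.obj S.X₂)) (hT : IsZero (DerivedCategory.Q.obj T.X₂)) :
    DerivedCategory.Q.map (φ.τ₁⟦(1 : ℤ)⟧') ≫ roof T hT = roof S hS ≫ DerivedCategory.Q.map φ.τ₃ := by
  haveI := isIso_mor₃ S hS
  haveI := isIso_mor₃ T hT
  have h1 : mappingCone.map S.f T.f φ.τ₁ φ.τ₂ φ.comm₁₂.symm ≫ (mappingCone.triangle T.f).mor₃ =
      (mappingCone.triangle S.f).mor₃ ≫ φ.τ₁⟦(1 : ℤ)⟧' :=
    (mappingCone.triangleMap S.f T.f φ.τ₁ φ.τ₂ φ.comm₁₂.symm).comm₃.symm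
  have h2 := mappingCone.descShortComplex_naturality φ
  dsimp only [roof]
  rw [← cancel_epi (DerivedCategory.Q.map (mappingCone.triangle S.f).mor₃), Category.assoc,
    IsIso.hom_inv_id_assoc, ← Functor.map_comp, ← h2, Functor.map_comp]
  rw [← Functor.map_comp_assoc, ← h1, Functor.map_comp_assoc, IsIso.hom_inv_id_assoc]

theorem isIso_roof {S : ShortComplex (CochainComplex A ℤ)} (hS : S.ShortExact)
    (h : IsZero (DerivedCategory.Q.obj S.X₂)) : IsIso (roof S h) := by
  haveI := isIso_mor₃ S h
  haveI := mappingCone.quasiIso_descShortComplex hS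
  exact IsIso.comp_isIso

end

section Descend

variable {A : Type u} [Category.{v} A] [Preadditive A] {D : Type*} [Category D]
  {F G : HomotopyCategory A (ComplexShape.up ℤ) ⥤ D}

/-- A natural transformation on complexes descends to the homotopy category. -/
noncomputable def descend
    (β : HomotopyCategory.quotient A (ComplexShape.up ℤ) ⋙ F ⟶ HomotopyCategory.quotient A (ComplexShape.up ℤ) ⋙ G) :
    F ⟶ G where
  app K := β.app K.as
  naturality {K L} g := by
    obtain ⟨g, rfl⟩ := (HomotopyCategory.quotient A (ComplexShape.up ℤ)).map_surjective g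
    exact β.naturality g

theorem descend_app
    (β : HomotopyCategory.quotient A (ComplexShape.up ℤ) ⋙ F ⟶ HomotopyCategory.quotient A (ComplexShape.up ℤ) ⋙ G)
    (K : HomotopyCategory A (ComplexShape.up ℤ)) : (descend β).app K = β.app K.as := rfl

end Descend

end Groth.Agent.Dual349.ConeRoof
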