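import Groth.Agent.DualityLC.RightAdjCoprod
import Groth.Agent.KFlatLib.Scheme.Adjoint
import Mathlib.CategoryTheory.Triangulated.Adjunction

/-!
# `Rf_*` on `D_QCoh` and its right adjoint are triangulated
-/

set_option autoImplicit false
set_option linter.style.haveILetI false
set_option backward.isDefEq.respectTransparency false

universe u

open CategoryTheory CategoryTheory.Limits AlgebraicGeometry Pretriangulated

attribute [local instance] HasDerivedCategory.standard
attribute [local instance] Groth.Agent.DualityLC.isTriangulated_isQCohD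
  Groth.Agent.DualityLC.isClosedUnderIso_isQCohD

namespace Groth.Agent.Dual349

open KFlatLib

variable {X Y : Scheme.{u}} (f : X ⟶ Y) [DCoh.HasRpush f]

/-- `Rf_*` is triangulated. -/
theorem exists_commShift_rpush :
    ∃ _ : (DCoh.Rpush f).CommShift ℤ, (DCoh.Rpush f).IsTriangulated := by
  haveI := TriCat.qh_isLeftAdjoint_of_exists_resolution (A := X.Modules) exists_kInjective_res
  let adjQ := Adjunction.ofIsLeftAdjoint (DerivedCategory.Qh (C := X.Modules))
  let ρ := (DerivedCategory.Qh (C := X.Modules)).rightAdjoint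
  let W := HomotopyCategory.quasiIso X.Modules (ComplexShape.up ℤ)
  haveI : (ρ ⋙ DCoh.pushKh f).IsRightDerivedFunctor
      (Functor.whiskerRight adjQ.unit (DCoh.pushKh f)) W :=
    TriCat.isRightDerivedFunctor_of_adjunction adjQ W (DCoh.pushKh f)
  let e : ρ ⋙ DCoh.pushKh f ≅ DCoh.Rpush f :=
    Functor.rightDerivedUnique _ _ (Functor.whiskerRight adjQ.unit (DCoh.pushKh f))
      ((DCoh.pushKh f).totalRightDerivedUnit DerivedCategory.Qh W) W
  letI := adjQ.rightAdjointCommShift ℤ
  haveI := adjQ.commShift_of_leftAdjoint ℤ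
  haveI : ρ.IsTriangulated := adjQ.isTriangulated_rightAdjoint
  letI := Functor.CommShift.ofIso e ℤ
  haveI : NatTrans.CommShift e.hom ℤ := Functor.CommShift.ofIso_compatibility e ℤ
  exact ⟨inferInstance, Functor.isTriangulated_of_iso e⟩

/-- A right adjoint of `Rf_*` on `D_QCoh` is triangulated. -/
theorem exists_commShift_rightAdjoint (hf : DCoh.RpushPreservesQCoh f) (a : DCoh.DQCoh Y ⥤ DCoh.DQCoh X)
    (adj : DCoh.RpushQ f hf ⊣ a) : ∃ _ : a.CommShift ℤ, a.IsTriangulated := by
  obtain ⟨c, hc⟩ := exists_commShift_rpush f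
  letI := c
  haveI := hc
  letI := adj.rightAdjointCommShift ℤ
  haveI := adj.commShift_of_leftAdjoint ℤ
  exact ⟨inferInstance, adj.isTriangulated_rightAdjoint⟩

end Groth.Agent.Dual349
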