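import Groth.Agent.Dual349.HomO
import Groth.Agent.KFlatLib.Scheme.ProjFormula
import Groth.Agent.KFlatLib.Scheme.LpullComp
import Groth.Agent.KFlatLib.Scheme.ProjClosed
import Groth.Agent.KFlatLib.SingleIso
import Groth.Agent.KFlatLib.Scheme.Adjoint
import Groth.Agent.H9Misc.PlusRB

/-!
# `R Hom(O_Z, -)` along a closed immersion, and `i_* R Hom(O_Z, -) = R Hom(i_* O_Z, -)`
-/

set_option autoImplicit false
set_option linter.style.haveILetI false
set_option backward.isDefEq.respectTransparency false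
set_option backward.isDefEq.respectTransparency.types false

universe u

open CategoryTheory CategoryTheory.Limits AlgebraicGeometry

attribute [local instance] HasDerivedCategory.standard

namespace Groth.Agent.Dual349

open KFlatLib

variable {Z X : Scheme.{u}} (i : Z ⟶ X)

section PushD

variable [PreservesFiniteLimits (Scheme.Modules.pushforward i)]
  [PreservesFiniteColimits (Scheme.Modules.pushforward i)]

/-- `Ri_*` of an exact direct image is the induced functor. -/
theorem nonempty_rpush_iso_pushD [DCoh.HasRpush i] : Nonempty (DCoh.Rpush i ≅ Dual3.pushD i) := by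
  let W := HomotopyCategory.quasiIso Z.Modules (ComplexShape.up ℤ)
  let F := Scheme.Modules.pushforward i
  have h : W.IsInvertedBy (DCoh.pushKh i) := fun K L φ hφ => by
    haveI := Localization.inverts (DerivedCategory.Qh (C := Z.Modules)) W φ hφ
    exact (NatIso.isIso_map_iff F.mapDerivedCategoryFactorsh φ).1
      (inferInstanceAs (IsIso (F.mapDerivedCategory.map (DerivedCategory.Qh.map φ))))
  haveI : IsIso ((DCoh.pushKh i).totalRightDerivedUnit DerivedCategory.Qh W) :=
    Functor.isIso_of_isRightDerivedFunctor_of_inverts (W := W) _ _ h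
  exact ⟨Localization.liftNatIso DerivedCategory.Qh W _ _ (DCoh.Rpush i) (Dual3.pushD i)
    ((asIso ((DCoh.pushKh i).totalRightDerivedUnit DerivedCategory.Qh W)).symm ≪≫
      F.mapDerivedCategoryFactorsh.symm)⟩

/-- `Li^* ⊣ i_*`. -/
theorem nonempty_lpull_pushD_adj [DCoh.HasLpull i] : Nonempty (DCoh.Lpull i ⊣ Dual3.pushD i) := by
  haveI := TriCat.qh_isLeftAdjoint_of_exists_resolution (A := Z.Modules) exists_kInjective_res
  haveI : DCoh.HasRpush i :=
    haveI : ((DerivedCategory.Qh (C := Z.Modules)).rightAdjoint ⋙ DCoh.pushKh i).IsRightDerivedFunctor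
        (L := DerivedCategory.Qh (C := Z.Modules))
        (Functor.whiskerRight (Adjunction.ofIsLeftAdjoint (DerivedCategory.Qh (C := Z.Modules))).unit (DCoh.pushKh i))
        (HomotopyCategory.quasiIso Z.Modules (ComplexShape.up ℤ)) :=
      TriCat.isRightDerivedFunctor_of_adjunction _ _ _
    Functor.HasRightDerivedFunctor.mk' ((DerivedCategory.Qh (C := Z.Modules)).rightAdjoint ⋙ DCoh.pushKh i)
      (L := DerivedCategory.Qh (C := Z.Modules))
      (Functor.whiskerRight (Adjunction.ofIsLeftAdjoint (DerivedCategory.Qh (C := Z.Modules))).unit (DCoh.pushKh i))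
  obtain ⟨adj⟩ := nonempty_lpull_rpush_adj i
  obtain ⟨e⟩ := nonempty_rpush_iso_pushD i
  exact ⟨adj.ofNatIsoRight e⟩

variable [Dual3.HasHomO i]

/-- `i_*` on derived categories is a left adjoint. -/
theorem isLeftAdjoint_pushD : (Dual3.pushD i).IsLeftAdjoint := by
  haveI := TriCat.qh_isLeftAdjoint_of_exists_resolution (A := X.Modules) exists_kInjective_res
  let adjH := H9Misc.SerreDerived.adjHtpy (ComplexShape.up ℤ) (Dual3.homOAdj i)
  let adjQ := Adjunction.ofIsLeftAdjoint (DerivedCategory.Qh (C := X.Modules))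
  exact (H9Misc.AdjDescend.descend DerivedCategory.Qh (HomotopyCategory.quasiIso Z.Modules (ComplexShape.up ℤ))
    (L' := Dual3.pushD i) ((adjH.comp adjQ).ofNatIsoLeft
      (Scheme.Modules.pushforward i).mapDerivedCategoryFactorsh.symm)).isLeftAdjoint

/-- `R Hom(O_Z, -)` on unbounded derived categories. -/
noncomputable def RHomO : DCoh.D X ⥤ DCoh.D Z :=
  haveI := isLeftAdjoint_pushD i
  (Dual3.pushD i).rightAdjoint

/-- `i_* ⊣ R Hom(O_Z, -)`. -/
noncomputable def RHomOAdj : Dual3.pushD i ⊣ RHomO i :=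
  haveI := isLeftAdjoint_pushD i
  Adjunction.ofIsLeftAdjoint _

theorem isLE_pushD {K : DCoh.D Z} {n : ℤ} (h : K.IsLE n) : ((Dual3.pushD i).obj K).IsLE n :=
  (DerivedCategory.isLE_iff _ _).2 fun j hj =>
    ((Scheme.Modules.pushforward i).map_isZero ((DerivedCategory.isLE_iff _ _).1 h j hj)).of_iso
      ((mapDCHomologyIso (Scheme.Modules.pushforward i) j).app K)

theorem isGE_pushD {K : DCoh.D Z} {n : ℤ} (h : K.IsGE n) : ((Dual3.pushD i).obj K).IsGE n :=
  (DerivedCategory.isGE_iff _ _).2 fun j hj =>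
    ((Scheme.Modules.pushforward i).map_isZero ((DerivedCategory.isGE_iff _ _).1 h j hj)).of_iso
      ((mapDCHomologyIso (Scheme.Modules.pushforward i) j).app K)

theorem isGE_RHomO {K : DCoh.D X} {n : ℤ} (h : K.IsGE n) : ((RHomO i).obj K).IsGE n := by
  refine (DerivedCategory.TStructure.t.isGE_iff_orthogonal (n - 1) n (by omega) _).2 fun A φ hA => ?_
  apply ((RHomOAdj i).homEquiv A K).symm.injective
  exact (DerivedCategory.TStructure.t.zero_of_isLE_of_isGE _ (n - 1) n (by omega)
    (isLE_pushD i hA) h).trans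
      (DerivedCategory.TStructure.t.zero_of_isLE_of_isGE _ (n - 1) n (by omega) (isLE_pushD i hA) h).symm

/-- `R Hom(O_Z, -)` on bounded below objects is the right derived functor on `D⁺`. -/
theorem nonempty_RHomOPlus_iso [EnoughInjectives X.Modules] [EnoughInjectives Z.Modules] :
    Nonempty (Dual3.RHomOPlus i ⋙ (DerivedCategory.Plus.ι : DerivedCategory.Plus Z.Modules ⥤ DCoh.D Z) ≅
      (DerivedCategory.Plus.ι : DerivedCategory.Plus X.Modules ⥤ DCoh.D X) ⋙ RHomO i) := by
  let F := Scheme.Modules.pushforward i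
  obtain ⟨adjP⟩ := H9Misc.PlusRB.nonempty_adj (Dual3.homOAdj i)
  haveI : IsIso F.rightDerivedFunctorPlusUnit :=
    Functor.isIso_of_isRightDerivedFunctor_of_inverts (W := HomotopyCategory.Plus.quasiIso Z.Modules) _ _
      H9Misc.PlusRB.inverts_of_exact
  let pPlus : DerivedCategory.Plus Z.Modules ⥤ DerivedCategory.Plus X.Modules :=
    ObjectProperty.lift _ (DerivedCategory.Plus.ι ⋙ Dual3.pushD i) fun K => by
      obtain ⟨n, hn⟩ := K.property
      exact ⟨n, isGE_pushD i hn⟩
  let rPlus : DerivedCategory.Plus X.Modules ⥤ DerivedCategory.Plus Z.Modules :=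
    ObjectProperty.lift _ (DerivedCategory.Plus.ι ⋙ RHomO i) fun K => by
      obtain ⟨n, hn⟩ := K.property
      exact ⟨n, isGE_RHomO i hn⟩
  let adj' : pPlus ⊣ rPlus := (RHomOAdj i).restrictFullyFaithful
    (ObjectProperty.fullyFaithfulι _) (ObjectProperty.fullyFaithfulι _) (Iso.refl _) (Iso.refl _)
  let e₀ : F.rightDerivedFunctorPlus ⋙ DerivedCategory.Plus.ι ≅ pPlus ⋙ DerivedCategory.Plus.ι :=
    Localization.liftNatIso DerivedCategory.Plus.Qh (HomotopyCategory.Plus.quasiIso Z.Modules)
      (DerivedCategory.Plus.Qh ⋙ F.rightDerivedFunctorPlus ⋙ DerivedCategory.Plus.ι)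
      (DerivedCategory.Plus.Qh ⋙ DerivedCategory.Plus.ι ⋙ Dual3.pushD i)
      (F.rightDerivedFunctorPlus ⋙ DerivedCategory.Plus.ι) (DerivedCategory.Plus.ι ⋙ Dual3.pushD i)
      ((Functor.associator _ _ _).symm ≪≫
        Functor.isoWhiskerRight (asIso F.rightDerivedFunctorPlusUnit).symm _ ≪≫
        Functor.associator _ _ _ ≪≫
        Functor.isoWhiskerLeft F.mapHomotopyCategoryPlus (DerivedCategory.Plus.QhCompιIsoιCompQh _) ≪≫
        (Functor.associator _ _ _).symm ≪≫
        Functor.isoWhiskerRight (Iso.refl (F.mapHomotopyCategoryPlus ⋙ HomotopyCategory.Plus.ι _)) _ ≪≫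
        Functor.isoWhiskerLeft (HomotopyCategory.Plus.ι _) F.mapDerivedCategoryFactorsh.symm ≪≫
        (Functor.associator _ _ _).symm ≪≫
        Functor.isoWhiskerRight (DerivedCategory.Plus.QhCompιIsoιCompQh _).symm _ ≪≫
        Functor.associator _ _ _)
  let e₁ : F.rightDerivedFunctorPlus ≅ pPlus :=
    ((ObjectProperty.fullyFaithfulι _).whiskeringRight _).preimageIso e₀
  exact ⟨Functor.isoWhiskerRight (adjP.rightAdjointUniq (adj'.ofNatIsoLeft e₁.symm)) _⟩

end PushD

variable [IsClosedImmersion i]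

/-- `N ⊗ i_* O_Z = i_* i^* N`. -/
noncomputable def tensorPushStructureIso :
    DCoh.tensorBi.flip.obj ((Scheme.Modules.pushforward i).obj (Coh.structureModule Z)) ≅
      Scheme.Modules.pullback i ⋙ Scheme.Modules.pushforward i :=
  (tensorBiFlipIso X).app _ ≪≫
    NatIso.ofComponents
      (fun N => @asIso _ _ _ _ (projMod i (Coh.structureModule Z) N) (isIso_projMod_of_isClosedImmersion i _ N))
      (G := Scheme.Modules.pullback i ⋙ DCoh.tensorBi.obj (Coh.structureModule Z) ⋙ Scheme.Modules.pushforward i)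
      (fun g => projMod_naturality_right i (Coh.structureModule Z) g) ≪≫
    Functor.isoWhiskerLeft (Scheme.Modules.pullback i) (Functor.isoWhiskerRight
      (((tensorBiFlipIso Z).app (Coh.structureModule Z)).symm ≪≫ tensorStructureIso Z) (Scheme.Modules.pushforward i) ≪≫
      Functor.leftUnitor _)

/-- `i_* Li^* = - ⊗^L i_* O_Z`. -/
theorem nonempty_lpull_pushD_iso [DCoh.HasLpull i] [PreservesFiniteLimits (Scheme.Modules.pushforward i)]
    [PreservesFiniteColimits (Scheme.Modules.pushforward i)] (E : CochainComplex X.Modules ℤ)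
    (hE : Nonempty (DCoh.toD X E ≅ DCoh.inD X ((Scheme.Modules.pushforward i).obj (Coh.structureModule Z))))
    [DCoh.HasLTensorCx E] :
    Nonempty (DCoh.Lpull i ⋙ Dual3.pushD i ≅ DCoh.LTensorCx E) := by
  obtain ⟨eE⟩ := hE
  let A := (Scheme.Modules.pushforward i).obj (Coh.structureModule Z)
  let E₀ : CochainComplex X.Modules ℤ := (HomologicalComplex.single X.Modules (ComplexShape.up ℤ) 0).obj A
  haveI := hasLTensorCx E₀
  let e : DerivedCategory.Q.obj E ≅ DerivedCategory.Q.obj E₀ :=
    eE ≪≫ ((DerivedCategory.singleFunctorIsoCompQ X.Modules 0).app A)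
  obtain ⟨c⟩ := nonempty_LTensorCx_congr_D e
  let cE := (DCoh.tensorCxQ E₀).totalLeftDerivedCounit DerivedCategory.Q (qisX X)
  let P := Scheme.Modules.pushforward i
  let β : DerivedCategory.Q ⋙ DCoh.Lpull i ⋙ Dual3.pushD i ⟶ DCoh.tensorCxQ E₀ :=
    (Functor.associator _ _ _).inv ≫ Functor.whiskerRight (lpullComparison i) _ ≫
      (Functor.associator _ _ _).hom ≫ Functor.whiskerLeft _ P.mapDerivedCategoryFactors.hom ≫
      (Functor.associator _ _ _).inv ≫
      Functor.whiskerRight ((Functor.mapHomologicalComplexCompIso (Iso.refl (Scheme.Modules.pullback i ⋙ P)) _).hom ≫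
        (NatIso.mapHomologicalComplex (tensorPushStructureIso i) (ComplexShape.up ℤ)).inv ≫
        (singleIso DCoh.tensorBi A).inv) DerivedCategory.Q
  have hβ : ∀ N, DCoh.IsKFlat N → IsIso (β.app N) := fun N hN => by
    haveI := isIso_lpullComparison i hN
    simp only [β, NatTrans.comp_app, Functor.whiskerRight_app, Functor.whiskerLeft_app]
    infer_instance
  let γ := Functor.leftDerivedLift (DCoh.LTensorCx E₀) cE (qisX X) (DCoh.Lpull i ⋙ Dual3.pushD i) β
  haveI : ∀ C, IsIso (γ.app C) := fun C => by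
    obtain ⟨N, hN, ⟨eC⟩⟩ := exists_kFlat_rep C
    haveI := hβ N hN
    haveI : IsIso (cE.app N) := isIso_LTensorCx_counit E₀ hN
    haveI : IsIso (γ.app (DerivedCategory.Q.obj N) ≫ cE.app N) := by
      rw [Functor.leftDerived_fac_app]
      infer_instance
    haveI : IsIso (γ.app (DerivedCategory.Q.obj N)) := IsIso.of_isIso_comp_right _ (cE.app N)
    exact (NatTrans.isIso_app_iff_of_iso γ eC).1 inferInstance
  haveI := NatIso.isIso_of_isIso_app γ
  exact ⟨asIso γ ≪≫ c.symm⟩

/-- `i_* R Hom(O_Z, -) = R Hom(i_* O_Z, -)`. -/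
theorem nonempty_RHomO_pushD_iso [PreservesFiniteLimits (Scheme.Modules.pushforward i)]
    [PreservesFiniteColimits (Scheme.Modules.pushforward i)] [Dual3.HasHomO i] (E : CochainComplex X.Modules ℤ)
    (hE : Nonempty (DCoh.toD X E ≅ DCoh.inD X ((Scheme.Modules.pushforward i).obj (Coh.structureModule Z))))
    [DCoh.HasLTensorCx E] [DCoh.HasRSheafHom E] :
    Nonempty (RHomO i ⋙ Dual3.pushD i ≅ DCoh.RSheafHom E) := by
  haveI := hasLpull i
  obtain ⟨adjL⟩ := nonempty_lpull_pushD_adj i
  obtain ⟨φ⟩ := nonempty_lpull_pushD_iso i E hE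
  exact ⟨((adjL.comp (RHomOAdj i)).ofNatIsoLeft φ).rightAdjointUniq (DCoh.RSheafHomAdj E)⟩

end Groth.Agent.Dual349
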