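import Groth.Agent.Dual349.DivisorMod
import Groth.Agent.Dual349.ConeRoof
import Groth.Agent.KFlatLib.Scheme.ProjCx
import Groth.Agent.KFlatLib.Scheme.LpullComp

/-!
# `Hom(O_D, M)[1] ⟶ i^* (resolution of M ⊗ L)` for an effective Cartier divisor
-/

set_option autoImplicit false
set_option linter.style.haveILetI false
set_option backward.isDefEq.respectTransparency false
set_option maxHeartbeats 1000000

universe u

open CategoryTheory CategoryTheory.Limits AlgebraicGeometry

attribute [local instance] HasDerivedCategory.standard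

namespace Groth.Agent.Dual349.Divisor

open KFlatLib

variable {X : Scheme.{u}} (I : X.IdealSheafData) (L : X.Modules)

/-- `M ↦ M ⊗ I` on complexes. -/
noncomputable abbrev Tc : CochainComplex X.Modules ℤ ⥤ CochainComplex X.Modules ℤ :=
  (T I).mapHomologicalComplex (ComplexShape.up ℤ)

/-- `M ↦ M ⊗ L` on complexes. -/
noncomputable abbrev Uc : CochainComplex X.Modules ℤ ⥤ CochainComplex X.Modules ℤ :=
  (U L).mapHomologicalComplex (ComplexShape.up ℤ)

/-- Multiplication on complexes. -/
noncomputable def jc : Tc I ⟶ 𝟭 (CochainComplex X.Modules ℤ) :=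
  NatTrans.mapHomologicalComplex (jT I) (ComplexShape.up ℤ) ≫
    (Functor.mapHomologicalComplexIdIso X.Modules (ComplexShape.up ℤ)).hom

theorem jc_f (M : CochainComplex X.Modules ℤ) (n : ℤ) : ((jc I).app M).f n = (jT I).app (M.X n) := by
  exact Category.comp_id _

/-- The resolution as a short complex. -/
noncomputable def resSC : CochainComplex X.Modules ℤ ⥤ ShortComplex (CochainComplex X.Modules ℤ) where
  obj M := ShortComplex.mk (kernel.ι ((flatCover X).ψ.app M)) ((flatCover X).ψ.app M) (kernel.condition _)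
  map {M N} g :=
    { τ₁ := kernel.map _ _ ((kRes X).map g) g ((flatCover X).ψ.naturality g).symm
      τ₂ := (kRes X).map g
      τ₃ := g
      comm₁₂ := kernel.lift_ι _ _ _
      comm₂₃ := (flatCover X).ψ.naturality g }
  map_id M := by
    ext1
    · apply equalizer.hom_ext; simp
    · simp
    · rfl
  map_comp g h := by
    ext1
    · apply equalizer.hom_ext; simp
    · simp
    · rfl

instance epi_ψ (M : CochainComplex X.Modules ℤ) : Epi ((flatCover X).ψ.app M) :=
  HomologicalComplex.epi_of_epi_f ((flatCover X).ψ.app M) fun n => (flatCover X).epi_ψ_f M n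

theorem shortExact_resSC (M : CochainComplex X.Modules ℤ) : ((resSC (X := X)).obj M).ShortExact where
  exact := ShortComplex.exact_of_f_is_kernel _ (kernelIsKernel _)
  mono_f := inferInstanceAs (Mono (kernel.ι _))
  epi_g := epi_ψ M

theorem isZero_kerRes (M : CochainComplex X.Modules ℤ) :
    IsZero (DerivedCategory.Q.obj ((resSC (X := X)).obj M).X₁) := by
  have hS := shortExact_resSC M
  have hT := DerivedCategory.triangleOfSES_distinguished hS
  haveI : IsIso (DerivedCategory.triangleOfSES hS).mor₂ :=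
    isIso_Q_map _ ((flatCover X).quasiIso_ψ M)
  exact (Pretriangulated.Triangle.isZero₁_iff_isIso₂ _ hT).2 inferInstance

/-- The second row. -/
noncomputable def row₂ (M : CochainComplex X.Modules ℤ) : ShortComplex (CochainComplex X.Modules ℤ) :=
  ((resSC (X := X)).obj M).map (Uc L)

/-- The first row. -/
noncomputable def row₁ (M : CochainComplex X.Modules ℤ) : ShortComplex (CochainComplex X.Modules ℤ) :=
  (row₂ L M).map (Tc I)

/-- The vertical map. -/
noncomputable def vert (M : CochainComplex X.Modules ℤ) : row₁ I L M ⟶ row₂ L M :=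
  (row₂ L M).mapNatTrans (jc I)

variable {L}

theorem shortExact_map_mapCx (F : X.Modules ⥤ X.Modules) [F.Additive] [F.IsEquivalence]
    {S : ShortComplex (CochainComplex X.Modules ℤ)} (hS : S.ShortExact) :
    (S.map (F.mapHomologicalComplex (ComplexShape.up ℤ))).ShortExact :=
  HomologicalComplex.shortExact_of_degreewise_shortExact _ fun n => by
    haveI := hS.mono_f
    haveI := hS.epi_g
    exact (hS.map_of_exact (HomologicalComplex.eval X.Modules (ComplexShape.up ℤ) n)).map_of_exact F

theorem shortExact_row₂ (hL : ClSub.IsInverseOf L (ClSub.idealMod I)) (M : CochainComplex X.Modules ℤ) :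
    (row₂ L M).ShortExact :=
  haveI := isEquivalence_U hL
  shortExact_map_mapCx (U L) (shortExact_resSC M)

theorem shortExact_row₁ (hL : ClSub.IsInverseOf L (ClSub.idealMod I)) (M : CochainComplex X.Modules ℤ) :
    (row₁ I L M).ShortExact :=
  haveI := isEquivalence_T hL
  shortExact_map_mapCx (T I) (shortExact_row₂ I hL M)

variable (L) in
/-- The maps of rows. -/
noncomputable def rowMap {M N : CochainComplex X.Modules ℤ} (g : M ⟶ N) : row₂ L M ⟶ row₂ L N :=
  (Uc L).mapShortComplex.map ((resSC (X := X)).map g)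

variable (hL : ClSub.IsInverseOf L (ClSub.idealMod I))

/-- The snake of multiplication on the twisted resolution. -/
noncomputable def snake (M : CochainComplex X.Modules ℤ) :
    ShortComplex.SnakeInput (CochainComplex X.Modules ℤ) where
  L₀ := kernel (vert I L M)
  L₁ := row₁ I L M
  L₂ := row₂ L M
  L₃ := cokernel (vert I L M)
  v₀₁ := kernel.ι _
  v₁₂ := vert I L M
  v₂₃ := cokernel.π _
  w₀₂ := kernel.condition _
  w₁₃ := cokernel.condition _
  h₀ := kernelIsKernel _
  h₃ := cokernelIsCokernel _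
  L₁_exact := (shortExact_row₁ I hL M).exact
  epi_L₁_g := (shortExact_row₁ I hL M).epi_g
  L₂_exact := (shortExact_row₂ I hL M).exact
  mono_L₂_f := (shortExact_row₂ I hL M).mono_f

theorem vert_naturality {M N : CochainComplex X.Modules ℤ} (g : M ⟶ N) :
    (Tc I).mapShortComplex.map (rowMap L g) ≫ vert I L N = vert I L M ≫ rowMap L g := by
  ext1
  · exact (jc I).naturality _
  · exact (jc I).naturality _
  · exact (jc I).naturality _

/-- The maps of snakes. -/
noncomputable def snakeMap {M N : CochainComplex X.Modules ℤ} (g : M ⟶ N) :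
    snake I hL M ⟶ snake I hL N where
  f₀ := kernel.map _ _ ((Tc I).mapShortComplex.map (rowMap L g)) (rowMap L g) (vert_naturality I g).symm
  f₁ := (Tc I).mapShortComplex.map (rowMap L g)
  f₂ := rowMap L g
  f₃ := cokernel.map _ _ ((Tc I).mapShortComplex.map (rowMap L g)) (rowMap L g) (vert_naturality I g).symm
  comm₀₁ := kernel.lift_ι _ _ _
  comm₁₂ := vert_naturality I g
  comm₂₃ := (cokernel.π_desc _ _ _).symm

/-- `(M ⊗ L) ⊗ I = M` on complexes. -/
noncomputable def eC : Uc L ⋙ Tc I ≅ 𝟭 (CochainComplex X.Modules ℤ) :=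
  FMAux.mapCxCompIso (U L) (T I) ≪≫ NatIso.mapHomologicalComplex (eUT hL) _ ≪≫
    Functor.mapHomologicalComplexIdIso _ _

theorem jT_U_push (N : I.subscheme.Modules) :
    (jT I).app ((U L).obj ((Scheme.Modules.pushforward I.subschemeι).obj N)) = 0 :=
  jT_eq_zero I (killed_tensor I (killed_push I N) L)

variable [Dual3.HasHomO I.subschemeι]

/-- `Hom(O_D, -)` on complexes. -/
noncomputable abbrev homC : CochainComplex X.Modules ℤ ⥤ CochainComplex I.subscheme.Modules ℤ :=
  (Dual3.homO I.subschemeι).mapHomologicalComplex (ComplexShape.up ℤ)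

/-- `i_* Hom(O_D, M) ⟶ (M ⊗ L) ⊗ I`. -/
noncomputable def incl : homC I ⋙ pushCxF I.subschemeι ⟶ Uc L ⋙ Tc I :=
  (adjCx (Dual3.homOAdj I.subschemeι) (ComplexShape.up ℤ)).counit ≫ (eC I hL).inv

theorem incl_jc (M : CochainComplex X.Modules ℤ) :
    (incl I hL).app M ≫ (jc I).app ((Uc L).obj M) = 0 := by
  let C := (homC I ⋙ pushCxF I.subschemeι).obj M
  let κ : C ⟶ M := (adjCx (Dual3.homOAdj I.subschemeι) (ComplexShape.up ℤ)).counit.app M
  have h0 : (jc I).app ((Uc L).obj C) = 0 := by
    ext n : 1
    rw [jc_f]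
    exact jT_U_push I _
  have h1 : κ ≫ (eC I hL).inv.app M = (eC I hL).inv.app C ≫ (Tc I).map ((Uc L).map κ) := (eC I hL).inv.naturality κ
  change (κ ≫ (eC I hL).inv.app M) ≫ _ = 0
  rw [h1, Category.assoc]
  refine (congrArg (_ ≫ ·) ((jc I).naturality ((Uc L).map κ))).trans ?_
  rw [h0, zero_comp, comp_zero]

/-- `i_* Hom(O_D, M) ⟶` the kernel of multiplication on `M ⊗ L`. -/
noncomputable def toKer (M : CochainComplex X.Modules ℤ) :
    (pushCxF I.subschemeι).obj ((homC I).obj M) ⟶ (snake I hL M).L₀.X₃ :=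
  (KernelFork.IsLimit.lift' (snake I hL M).h₀τ₃ ((incl I hL).app M) (incl_jc I hL M)).1

theorem toKer_v (M : CochainComplex X.Modules ℤ) :
    toKer I hL M ≫ (snake I hL M).v₀₁.τ₃ = (incl I hL).app M :=
  (KernelFork.IsLimit.lift' (snake I hL M).h₀τ₃ ((incl I hL).app M) (incl_jc I hL M)).2

theorem toKer_naturality {M N : CochainComplex X.Modules ℤ} (g : M ⟶ N) :
    (pushCxF I.subschemeι).map ((homC I).map g) ≫ toKer I hL N =
      toKer I hL M ≫ (snakeMap I hL g).f₀.τ₃ := by
  rw [← cancel_mono (snake I hL N).v₀₁.τ₃, Category.assoc, toKer_v, Category.assoc,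
    ← ShortComplex.comp_τ₃, (snakeMap I hL g).comm₀₁, ShortComplex.comp_τ₃, ← Category.assoc, toKer_v]
  exact (incl I hL).naturality g

variable {I}

theorem pull_jc (C : CochainComplex X.Modules ℤ) : (pullCx I.subschemeι).map ((jc I).app C) = 0 := by
  ext n : 1
  rw [Functor.mapHomologicalComplex_map_f, jc_f]
  let η := (iAdj I).unit.app (C.X n)
  apply ((iAdj I).homEquiv _ _).injective
  rw [Adjunction.homEquiv_unit, Adjunction.homEquiv_unit]
  refine ((iAdj I).unit.naturality ((jT I).app (C.X n))).symm.trans ?_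
  have e : (T I).map η ≫ (jT I).app ((Scheme.Modules.pushforward I.subschemeι).obj
      ((Scheme.Modules.pullback I.subschemeι).obj (C.X n))) = (jT I).app (C.X n) ≫ η := (jT I).naturality η
  rw [jT_push, comp_zero] at e
  exact e.symm.trans (by rw [HomologicalComplex.zero_f, Functor.map_zero, comp_zero])

variable (I)

instance isIso_pull_π₁ (M : CochainComplex X.Modules ℤ) :
    IsIso ((pullCx I.subschemeι).map (snake I hL M).v₂₃.τ₁) := by
  haveI : (pullCx I.subschemeι).IsLeftAdjoint := (pullPushCxAdj I.subschemeι).isLeftAdjoint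
  exact CokernelCofork.IsColimit.isIso_π _
    (CokernelCofork.mapIsColimit _ (snake I hL M).h₃τ₁ (pullCx I.subschemeι)) (pull_jc _)

instance isIso_pull_π₂ (M : CochainComplex X.Modules ℤ) :
    IsIso ((pullCx I.subschemeι).map (snake I hL M).v₂₃.τ₂) := by
  haveI : (pullCx I.subschemeι).IsLeftAdjoint := (pullPushCxAdj I.subschemeι).isLeftAdjoint
  exact CokernelCofork.IsColimit.isIso_π _
    (CokernelCofork.mapIsColimit _ (snake I hL M).h₃τ₂ (pullCx I.subschemeι)) (pull_jc _)

instance isIso_counitCx : IsIso (pullPushCxAdj I.subschemeι).counit := by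
  haveI : ∀ N, IsIso ((pullPushCxAdj I.subschemeι).counit.app N) := fun N => by
    haveI : ∀ n, IsIso (((pullPushCxAdj I.subschemeι).counit.app N).f n) := fun n =>
      inferInstanceAs (IsIso ((iAdj I).counit.app (N.X n)))
    exact HomologicalComplex.Hom.isIso_of_components _
  exact NatIso.isIso_of_isIso_app _

/-- `Hom(O_D, M) ⟶ i^*` of the kernel of the resolution, twisted. -/
noncomputable def rho (M : CochainComplex X.Modules ℤ) :
    (homC I).obj M ⟶ (pullCx I.subschemeι).obj (row₂ L M).X₁ :=
  inv ((pullPushCxAdj I.subschemeι).counit.app ((homC I).obj M)) ≫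
    (pullCx I.subschemeι).map (toKer I hL M ≫ (snake I hL M).δ) ≫
      inv ((pullCx I.subschemeι).map (snake I hL M).v₂₃.τ₁)

theorem rho_naturality {M N : CochainComplex X.Modules ℤ} (g : M ⟶ N) :
    (homC I).map g ≫ rho I hL N = rho I hL M ≫ (pullCx I.subschemeι).map (rowMap L g).τ₁ := by
  have h1 : (pushCxF I.subschemeι).map ((homC I).map g) ≫ toKer I hL N ≫ (snake I hL N).δ =
      (toKer I hL M ≫ (snake I hL M).δ) ≫ (snakeMap I hL g).f₃.τ₁ := by
    rw [← Category.assoc, toKer_naturality, Category.assoc, Category.assoc,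
      ShortComplex.SnakeInput.naturality_δ]
  have h2 : (snake I hL M).v₂₃.τ₁ ≫ (snakeMap I hL g).f₃.τ₁ = (rowMap L g).τ₁ ≫ (snake I hL N).v₂₃.τ₁ := by
    rw [← ShortComplex.comp_τ₁, ← (snakeMap I hL g).comm₂₃, ShortComplex.comp_τ₁]
    rfl
  have h3 := (pullPushCxAdj I.subschemeι).counit.naturality ((homC I).map g)
  simp only [rho, Category.assoc]
  rw [← cancel_epi ((pullPushCxAdj I.subschemeι).counit.app ((homC I).obj M)), IsIso.hom_inv_id_assoc]
  refine ((Category.assoc _ _ _).symm.trans (congrArg (· ≫ _) h3.symm)).trans ?_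
  dsimp only [Functor.comp_map]
  rw [Category.assoc, IsIso.hom_inv_id_assoc, ← Functor.map_comp_assoc, h1,
    ← cancel_mono ((pullCx I.subschemeι).map (snake I hL N).v₂₃.τ₁)]
  simp only [Category.assoc, IsIso.inv_hom_id, Category.comp_id]
  rw [← Functor.map_comp, ← h2]
  simp only [Functor.map_comp, Category.assoc]
  erw [IsIso.inv_hom_id_assoc]

theorem rho_comp (M : CochainComplex X.Modules ℤ) :
    rho I hL M ≫ (pullCx I.subschemeι).map (row₂ L M).f = 0 := by
  rw [← cancel_mono ((pullCx I.subschemeι).map (snake I hL M).v₂₃.τ₂), zero_comp]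
  simp only [rho, Category.assoc]
  have h : (row₂ L M).f ≫ (snake I hL M).v₂₃.τ₂ = (snake I hL M).v₂₃.τ₁ ≫ (snake I hL M).L₃.f :=
    (snake I hL M).v₂₃.comm₁₂.symm
  rw [← Functor.map_comp, h]
  simp only [Functor.map_comp, Category.assoc]
  erw [IsIso.inv_hom_id_assoc]
  erw [← Functor.map_comp, ← Functor.map_comp, ShortComplex.SnakeInput.δ_L₃_f, comp_zero,
    Functor.map_zero, comp_zero]

end Groth.Agent.Dual349.Divisor
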