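import Groth.Agent.Dual349.DivisorCx

/-!
# `0 → Hom(O_D, J) → i^* S → i^* P → 0` for injective terms
-/

set_option autoImplicit false
set_option linter.style.haveILetI false
set_option backward.isDefEq.respectTransparency false
set_option maxHeartbeats 1000000

universe u

open CategoryTheory CategoryTheory.Limits AlgebraicGeometry

attribute [local instance] HasDerivedCategory.standard

namespace Groth.Agent.Dual349.Divisor

open KFlatLib

section Zero

variable {A : Type*} [Category A] [Abelian A] [HasDerivedCategory A]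

theorem isZero_Q_iff (C : CochainComplex A ℤ) :
    IsZero (DerivedCategory.Q.obj C) ↔ QuasiIso (0 : C ⟶ C) := by
  rw [← DerivedCategory.isIso_Q_map_iff_quasiIso, Functor.map_zero]
  exact ⟨fun h => ⟨0, h.eq_of_src _ _, h.eq_of_src _ _⟩, fun h => by
    haveI := h
    exact (IsZero.iff_id_eq_zero _).2 (by
      rw [← cancel_mono (0 : DerivedCategory.Q.obj C ⟶ DerivedCategory.Q.obj C)]; simp)⟩

end Zero

variable {X : Scheme.{u}} (I : X.IdealSheafData) {L : X.Modules}
variable (hL : ClSub.IsInverseOf L (ClSub.idealMod I))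

theorem isZero_Q_mapCx (F : X.Modules ⥤ X.Modules) [F.Additive] [F.IsEquivalence]
    {C : CochainComplex X.Modules ℤ} (h : IsZero (DerivedCategory.Q.obj C)) :
    IsZero (DerivedCategory.Q.obj ((F.mapHomologicalComplex (ComplexShape.up ℤ)).obj C)) := by
  rw [isZero_Q_iff] at h ⊢
  haveI := h
  rw [← (F.mapHomologicalComplex (ComplexShape.up ℤ)).map_zero C C]
  infer_instance

/-- Killed in every degree. -/
def KilledCx (C : CochainComplex X.Modules ℤ) : Prop := ∀ n, Killed I (C.X n)

theorem isIso_unit_of_killed {C : CochainComplex X.Modules ℤ} (h : KilledCx I C) :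
    IsIso ((pullPushCxAdj I.subschemeι).unit.app C) := by
  haveI : ∀ n, IsIso (((pullPushCxAdj I.subschemeι).unit.app C).f n) := fun n => h n
  exact HomologicalComplex.Hom.isIso_of_components _

theorem killed_of_epi {A C : CochainComplex X.Modules ℤ} (π : A ⟶ C) [Epi π]
    (h : (jc I).app A ≫ π = 0) (hL : ClSub.IsInverseOf L (ClSub.idealMod I)) : KilledCx I C := fun n => by
  haveI := isEquivalence_T hL
  haveI : Epi ((Tc I).map π) := by
    haveI : ∀ k, Epi (((Tc I).map π).f k) := fun k => inferInstanceAs (Epi ((T I).map (π.f k)))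
    exact HomologicalComplex.epi_of_epi_f _ inferInstance
  refine killed_of_jT I ?_
  rw [← jc_f]
  have e : (jc I).app C = 0 := by
    rw [← cancel_epi ((Tc I).map π), comp_zero]
    exact ((jc I).naturality π).trans h
  rw [e, HomologicalComplex.zero_f]

theorem killed_L₃₁ (M : CochainComplex X.Modules ℤ) : KilledCx I (snake I hL M).L₃.X₁ :=
  killed_of_epi I (snake I hL M).v₂₃.τ₁ (snake I hL M).w₁₃_τ₁ hL

theorem killed_L₃₂ (M : CochainComplex X.Modules ℤ) : KilledCx I (snake I hL M).L₃.X₂ :=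
  killed_of_epi I (snake I hL M).v₂₃.τ₂ (snake I hL M).w₁₃_τ₂ hL

include hL in
theorem killed_kernel {K M : X.Modules} (κ : K ⟶ (T I).obj ((U L).obj M)) [Mono κ]
    (h : κ ≫ (jT I).app ((U L).obj M) = 0) : Killed I K := by
  haveI := isEquivalence_T hL
  let e : (T I).obj ((U L).obj K) ≅ K := (eUT hL).app K
  obtain ⟨κ', hκ'⟩ := (T I).map_surjective (e.hom ≫ κ)
  haveI : Mono ((T I).map κ') := hκ' ▸ mono_comp e.hom κ
  haveI : Mono κ' := (T I).mono_of_mono_map inferInstance
  have h0 : (jT I).app ((U L).obj K) = 0 := by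
    rw [← cancel_mono κ', zero_comp]
    refine ((jT I).naturality κ').symm.trans ?_
    rw [hκ', Category.assoc, h, comp_zero]
  exact killed_of_iso I e (killed_tensor I (killed_of_jT I h0) (ClSub.idealMod I))

theorem killed_L₀₃ (M : CochainComplex X.Modules ℤ) : KilledCx I (snake I hL M).L₀.X₃ := fun n => by
  haveI : Mono ((snake I hL M).v₀₁.τ₃.f n) :=
    inferInstanceAs (Mono ((HomologicalComplex.eval X.Modules (ComplexShape.up ℤ) n).map (snake I hL M).v₀₁.τ₃))
  refine killed_kernel I hL ((snake I hL M).v₀₁.τ₃.f n) ?_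
  have h := congrArg (fun t => HomologicalComplex.Hom.f t n) (snake I hL M).w₀₂_τ₃
  refine Eq.trans ?_ h
  exact (congrArg ((snake I hL M).v₀₁.τ₃.f n ≫ ·) (jc_f I _ n)).symm

variable [Dual3.HasHomO I.subschemeι]

theorem isIso_toKer (M : CochainComplex X.Modules ℤ) : IsIso (toKer I hL M) := by
  let S := snake I hL M
  let H := (homC I).obj M
  let a := pullPushCxAdj I.subschemeι
  let b := adjCx (Dual3.homOAdj I.subschemeι) (ComplexShape.up ℤ)
  haveI : IsIso (a.unit.app S.L₀.X₃) := isIso_unit_of_killed I (killed_L₀₃ I hL M)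
  let κ : S.L₀.X₃ ⟶ M := S.v₀₁.τ₃ ≫ (eC I hL).hom.app M
  let φ := b.homEquiv _ M (inv (a.unit.app S.L₀.X₃) ≫ κ)
  let s : S.L₀.X₃ ⟶ (pushCxF I.subschemeι).obj H :=
    a.unit.app S.L₀.X₃ ≫ (pushCxF I.subschemeι).map φ
  have hs : s ≫ b.counit.app M = κ := by
    change (a.unit.app S.L₀.X₃ ≫ (pushCxF I.subschemeι).map φ) ≫ b.counit.app M = κ
    rw [Category.assoc]
    refine (congrArg (a.unit.app S.L₀.X₃ ≫ ·) ((b.homEquiv_counit _ _ _).symm.trans
      (Equiv.symm_apply_apply _ _))).trans ?_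
    exact IsIso.hom_inv_id_assoc _ _
  have ht : toKer I hL M ≫ κ = b.counit.app M := by
    change toKer I hL M ≫ _ ≫ _ = _
    rw [← Category.assoc, toKer_v]
    change (b.counit.app M ≫ (eC I hL).inv.app M) ≫ (eC I hL).hom.app M = _
    rw [Category.assoc, Iso.inv_hom_id_app]
    exact Category.comp_id _
  refine ⟨s, ?_, ?_⟩
  · let ff := a.fullyFaithfulROfIsIsoCounit
    obtain ⟨g, hg⟩ := ff.map_surjective (toKer I hL M ≫ s)
    rw [← hg, show g = 𝟙 H from (b.homEquiv H M).symm.injective (by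
      rw [b.homEquiv_counit, b.homEquiv_counit, hg, Category.assoc, hs, ht]
      erw [CategoryTheory.Functor.map_id, Category.id_comp]), CategoryTheory.Functor.map_id]
  · rw [← cancel_mono S.v₀₁.τ₃, Category.id_comp, Category.assoc, toKer_v]
    change s ≫ b.counit.app M ≫ (eC I hL).inv.app M = _
    rw [← Category.assoc, hs, Category.assoc, Iso.hom_inv_id_app]
    exact Category.comp_id _


include hL in
theorem mono_vert₂ (M : CochainComplex X.Modules ℤ) : Mono (vert I L M).τ₂ := by
  haveI : ∀ n, Mono ((vert I L M).τ₂.f n) := fun n => by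
    have : Mono ((jT I).app ((U L).obj (((kRes X).obj M).X n))) := mono_jT I (isFlat_U hL (isFlat_kRes M n))
    exact (jc_f I ((Uc L).obj ((kRes X).obj M)) n).symm ▸ this
  exact HomologicalComplex.mono_of_mono_f _ inferInstance

include hL in
theorem mono_vert₁ (M : CochainComplex X.Modules ℤ) : Mono (vert I L M).τ₁ := by
  haveI := mono_vert₂ I hL M
  haveI := (shortExact_row₁ I hL M).mono_f
  haveI : Mono ((vert I L M).τ₁ ≫ (row₂ L M).f) := by
    rw [(vert I L M).comm₁₂]
    exact mono_comp _ _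
  exact mono_of_mono _ (row₂ L M).f

theorem mono_δ (M : CochainComplex X.Modules ℤ) : Mono (snake I hL M).δ := by
  haveI : Mono (snake I hL M).v₁₂.τ₂ := mono_vert₂ I hL M
  refine (snake I hL M).mono_δ ?_
  haveI : Mono (snake I hL M).v₀₁.τ₂ := (snake I hL M).mono_v₀₁_τ₂
  rw [IsZero.iff_id_eq_zero, ← cancel_mono ((snake I hL M).v₀₁.τ₂ ≫ (snake I hL M).v₁₂.τ₂)]
  simp

include hL in
theorem epi_vert₃ {M : CochainComplex X.Modules ℤ} (hM : ∀ n, Injective (M.X n)) : Epi (vert I L M).τ₃ := by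
  haveI : ∀ n, Epi ((vert I L M).τ₃.f n) := fun n => by
    have : Epi ((jT I).app ((U L).obj (M.X n))) := epi_jT_injective hL (hM n)
    exact (jc_f I ((Uc L).obj M) n).symm ▸ this
  exact HomologicalComplex.epi_of_epi_f _ inferInstance

/-- `(ρ, i^*)`. -/
noncomputable def rhoSC (M : CochainComplex X.Modules ℤ) :
    ShortComplex (CochainComplex I.subscheme.Modules ℤ) :=
  ShortComplex.mk (rho I hL M) ((pullCx I.subschemeι).map (row₂ L M).f) (rho_comp I hL M)

theorem shortExact_rhoSC {M : CochainComplex X.Modules ℤ} (hM : ∀ n, Injective (M.X n)) :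
    (rhoSC I hL M).ShortExact := by
  let S := snake I hL M
  let i := I.subschemeι
  haveI : IsIso (toKer I hL M) := isIso_toKer I hL M
  haveI : Mono S.δ := mono_δ I hL M
  haveI : Epi S.v₁₂.τ₃ := epi_vert₃ I hL hM
  have h33 : IsZero S.L₃.X₃ := by
    rw [IsZero.iff_id_eq_zero, ← cancel_epi S.v₂₃.τ₃, ← cancel_epi S.v₁₂.τ₃]
    simp
  have he : Epi S.L₃.f := (S.L₃.exact_iff_epi (h33.eq_of_tgt _ _)).1 S.L₃_exact
  let SX : ShortComplex (CochainComplex X.Modules ℤ) :=
    ShortComplex.mk (toKer I hL M ≫ S.δ) S.L₃.f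
      (by rw [Category.assoc, ShortComplex.SnakeInput.δ_L₃_f, comp_zero])
  let c : SX ≅ ShortComplex.mk S.δ S.L₃.f S.δ_L₃_f :=
    ShortComplex.isoMk (asIso (toKer I hL M)) (Iso.refl _) (Iso.refl _) (Category.comp_id _).symm
      ((Category.id_comp _).trans (Category.comp_id _).symm)
  have hSX : SX.ShortExact :=
    { exact := ShortComplex.exact_of_iso c.symm S.L₂'_exact
      mono_f := mono_comp _ _
      epi_g := he }
  let a := pullPushCxAdj i
  haveI : IsIso (a.unit.app SX.X₁) := isIso_unit_of_killed I fun n => killed_push I _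
  haveI : IsIso (a.unit.app SX.X₂) := isIso_unit_of_killed I (killed_L₃₁ I hL M)
  haveI : IsIso (a.unit.app SX.X₃) := isIso_unit_of_killed I (killed_L₃₂ I hL M)
  let d : SX ≅ (SX.map (pullCx i)).map (pushCxF i) :=
    ShortComplex.isoMk (asIso (a.unit.app SX.X₁)) (asIso (a.unit.app SX.X₂)) (asIso (a.unit.app SX.X₃))
      (a.unit.naturality SX.f).symm (a.unit.naturality SX.g).symm
  have hd := ShortComplex.shortExact_of_iso d hSX
  let r : rhoSC I hL M ≅ SX.map (pullCx i) :=
    ShortComplex.isoMk (asIso (a.counit.app ((homC I).obj M))).symm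
      (asIso ((pullCx i).map S.v₂₃.τ₁)) (asIso ((pullCx i).map S.v₂₃.τ₂))
      (by
        change inv (a.counit.app ((homC I).obj M)) ≫ (pullCx i).map (toKer I hL M ≫ S.δ) =
          rho I hL M ≫ (pullCx i).map S.v₂₃.τ₁
        simp only [rho, Category.assoc]
        erw [IsIso.inv_hom_id, Category.comp_id])
      (by
        change (pullCx i).map S.v₂₃.τ₁ ≫ (pullCx i).map S.L₃.f =
          (pullCx i).map (row₂ L M).f ≫ (pullCx i).map S.v₂₃.τ₂
        rw [← Functor.map_comp, ← Functor.map_comp]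
        exact congrArg _ S.v₂₃.comm₁₂)
  haveI := preservesFiniteColimits_push i
  haveI := preservesFiniteLimits_push i
  haveI := AmpleVan.faithful_push i
  refine ShortComplex.shortExact_of_iso r.symm (HomologicalComplex.shortExact_of_degreewise_shortExact _ fun n => ?_)
  haveI := hd.mono_f
  haveI := hd.epi_g
  have hn : (((SX.map (pullCx i)).map (HomologicalComplex.eval _ (ComplexShape.up ℤ) n)).map
      (Scheme.Modules.pushforward i)).ShortExact :=
    hd.map_of_exact (HomologicalComplex.eval X.Modules (ComplexShape.up ℤ) n)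
  exact
    { exact := (ShortComplex.exact_map_iff_of_faithful _ (Scheme.Modules.pushforward i)).1 hn.exact
      mono_f := (Scheme.Modules.pushforward i).mono_of_mono_map hn.mono_f
      epi_g := (Scheme.Modules.pushforward i).epi_of_epi_map hn.epi_g }


include hL in
theorem isZero_pull_row₁ (M : CochainComplex X.Modules ℤ) :
    IsZero (DerivedCategory.Q.obj ((pullCx I.subschemeι).obj (row₂ L M).X₁)) := by
  let S := snake I hL M
  let i := I.subschemeι
  haveI := isEquivalence_U hL
  haveI := isEquivalence_T hL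
  have h₂ : IsZero (DerivedCategory.Q.obj S.L₂.X₁) := isZero_Q_mapCx (U L) (isZero_kerRes M)
  have h₁ : IsZero (DerivedCategory.Q.obj S.L₁.X₁) := isZero_Q_mapCx (T I) h₂
  haveI : Mono S.v₁₂.τ₁ := mono_vert₁ I hL M
  have hc : (ShortComplex.mk S.v₁₂.τ₁ S.v₂₃.τ₁ S.w₁₃_τ₁).ShortExact := { exact := S.exact_C₁_down }
  have h₃ : IsZero (DerivedCategory.Q.obj S.L₃.X₁) :=
    (Pretriangulated.Triangle.isZero₃_iff_isIso₁ _ (DerivedCategory.triangleOfSES_distinguished hc)).2
      ⟨0, h₁.eq_of_src _ _, h₂.eq_of_src _ _⟩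
  let a := pullPushCxAdj i
  haveI : IsIso (a.unit.app S.L₃.X₁) := isIso_unit_of_killed I (killed_L₃₁ I hL M)
  haveI : IsIso ((pullCx i).map S.v₂₃.τ₁) := isIso_pull_π₁ I hL M
  let e : (pushCxF i).obj ((pullCx i).obj (row₂ L M).X₁) ≅ S.L₃.X₁ :=
    (pushCxF i).mapIso (asIso ((pullCx i).map S.v₂₃.τ₁)) ≪≫ (asIso (a.unit.app S.L₃.X₁)).symm
  haveI := preservesFiniteColimits_push i
  haveI := preservesFiniteLimits_push i
  haveI : (Scheme.Modules.pushforward i).ReflectsIsomorphisms :=
    ⟨fun f _ => AmpleVan.isIso_of_push i f⟩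
  have h4 := (isZero_Q_iff _).1 (h₃.of_iso (DerivedCategory.Q.mapIso e))
  rw [← (pushCxF i).map_zero ((pullCx i).obj (row₂ L M).X₁) ((pullCx i).obj (row₂ L M).X₁)] at h4
  exact (isZero_Q_iff _).2 ((HomologicalComplex.quasiIso_map_iff_of_preservesHomology _ _).1 h4)

end Groth.Agent.Dual349.Divisor
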