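import Groth.Agent.Dual349.HomO
import Groth.Agent.Dual349.DerivedHomO
import Groth.Agent.Dual349.ClosedUnit
import Groth.Agent.AmpleVan.ThickPush
import Groth.Agent.Lib.CurvePoint
import Groth.Agent.FMAux.Functors
import Groth.Agent.ArSurfX.IdealFrame
import Groth.Prelude.Def_Dual3

/-!
# Tensoring with the ideal of an effective Cartier divisor
-/

set_option autoImplicit false
set_option linter.style.haveILetI false
set_option backward.isDefEq.respectTransparency false
set_option maxHeartbeats 1000000

universe u

open CategoryTheory CategoryTheory.Limits AlgebraicGeometry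

attribute [local instance] HasDerivedCategory.standard

namespace Groth.Agent.Dual349.Divisor

open KFlatLib

variable {X : Scheme.{u}} (I : X.IdealSheafData) (L : X.Modules)

/-- The adjunction of the closed subscheme. -/
noncomputable abbrev iAdj := Scheme.Modules.pullbackPushforwardAdjunction I.subschemeι

instance isIso_unit_push (N : I.subscheme.Modules) :
    IsIso ((iAdj I).unit.app ((Scheme.Modules.pushforward I.subschemeι).obj N)) := by
  haveI : IsSplitMono ((iAdj I).unit.app ((Scheme.Modules.pushforward I.subschemeι).obj N)) :=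
    IsSplitMono.mk' ⟨_, (iAdj I).right_triangle_components N⟩
  haveI : Epi ((iAdj I).unit.app ((Scheme.Modules.pushforward I.subschemeι).obj N)) := epi_unit _ _
  exact isIso_of_mono_of_epi _

instance isIso_counit : IsIso (iAdj I).counit := by
  haveI : ∀ N, IsIso ((iAdj I).counit.app N) := fun N => by
    haveI : IsIso ((Scheme.Modules.pushforward I.subschemeι).map ((iAdj I).counit.app N)) := by
      haveI : IsIso ((iAdj I).unit.app ((Scheme.Modules.pushforward I.subschemeι).obj N) ≫
          (Scheme.Modules.pushforward I.subschemeι).map ((iAdj I).counit.app N)) := by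
        rw [(iAdj I).right_triangle_components]; infer_instance
      exact IsIso.of_isIso_comp_left ((iAdj I).unit.app ((Scheme.Modules.pushforward I.subschemeι).obj N)) _
    exact AmpleVan.isIso_of_push I.subschemeι _
  exact NatIso.isIso_of_isIso_app _

/-- `M ↦ M ⊗ I`. -/
noncomputable abbrev T : X.Modules ⥤ X.Modules := DCoh.tensorRightMod (ClSub.idealMod I)

/-- `M ↦ M ⊗ L`. -/
noncomputable abbrev U : X.Modules ⥤ X.Modules := DCoh.tensorRightMod L

/-- Multiplication `M ⊗ I ⟶ M`. -/
noncomputable def jT : T I ⟶ 𝟭 X.Modules :=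
  DCoh.tensorBi.flip.map (ClSub.idealModι I) ≫ (tensorStructureIso X).hom

theorem pullback_idealModι :
    (Scheme.Modules.pullback I.subschemeι).map (ClSub.idealModι I) = 0 := by
  apply ((iAdj I).homEquiv _ _).injective
  rw [Adjunction.homEquiv_unit, Adjunction.homEquiv_unit]
  refine ((iAdj I).unit.naturality (ClSub.idealModι I)).symm.trans ?_
  refine Eq.trans (Scheme.Modules.hom_ext _ _ fun V => ConcreteCategory.hom_ext _ _ fun k => ?_)
    (by rw [Functor.map_zero, comp_zero] : (0 : ClSub.idealMod I ⟶ _) = _)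
  let η := (iAdj I).unit.app (Coh.structureModule X)
  let r : Γ(X, V) := OmegaSh.idealSect I V k
  have h1 : η.app V ((ClSub.idealModι I).app V k) =
      η.app V (r • (show Γ(Coh.structureModule X, V) from (1 : Γ(X, V)))) :=
    congrArg (η.app V) (show (r : Γ(X, V)) = r * 1 from (mul_one r).symm)
  have h2 := Scheme.Modules.Hom.app_smul η r (show Γ(Coh.structureModule X, V) from (1 : Γ(X, V)))
  have h3 : I.subschemeι.app V r = 0 := OmegaLib.subschemeι_app_idealSect I V k
  refine (h1.trans h2).trans ?_
  show (I.subschemeι.app V r) •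
    (show Γ((Scheme.Modules.pullback I.subschemeι).obj (Coh.structureModule X), I.subschemeι ⁻¹ᵁ V) from
      η.app V (show Γ(Coh.structureModule X, V) from (1 : Γ(X, V)))) = 0
  rw [h3, zero_smul]

/-- Multiplication by the ideal kills direct images. -/
theorem jT_push (N : I.subscheme.Modules) :
    (jT I).app ((Scheme.Modules.pushforward I.subschemeι).obj N) = 0 := by
  let i := I.subschemeι
  haveI := isIso_projMod_of_isClosedImmersion i N (Coh.structureModule X)
  have h : (DCoh.tensorBi.obj ((Scheme.Modules.pushforward i).obj N)).map (ClSub.idealModι I) = 0 := by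
    rw [← cancel_mono (projMod i N (Coh.structureModule X)), zero_comp, projMod_naturality_right]
    rw [pullback_idealModι, Functor.map_zero, Functor.map_zero, comp_zero]
  show (DCoh.tensorBi.obj ((Scheme.Modules.pushforward i).obj N)).map (ClSub.idealModι I) ≫ _ = 0
  rw [h, zero_comp]

/-- Killed by the ideal, and coming from the subscheme. -/
def Killed (M : X.Modules) : Prop := IsIso ((iAdj I).unit.app M)

theorem killed_push (N : I.subscheme.Modules) : Killed I ((Scheme.Modules.pushforward I.subschemeι).obj N) :=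
  isIso_unit_push I N

theorem killed_of_iso {M M' : X.Modules} (e : M ≅ M') (h : Killed I M) : Killed I M' :=
  (NatTrans.isIso_app_iff_of_iso _ e).1 h

theorem jT_eq_zero {M : X.Modules} (h : Killed I M) : (jT I).app M = 0 := by
  haveI : IsIso ((iAdj I).unit.app M) := h
  have e : (T I).map ((iAdj I).unit.app M) ≫ (jT I).app ((Scheme.Modules.pushforward I.subschemeι).obj
      ((Scheme.Modules.pullback I.subschemeι).obj M)) = (jT I).app M ≫ (iAdj I).unit.app M :=
    (jT I).naturality ((iAdj I).unit.app M)
  rw [jT_push, comp_zero] at e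
  exact (cancel_mono ((iAdj I).unit.app M)).1 (e.symm.trans zero_comp.symm)

theorem map_idealModι_eq_zero {M : X.Modules} (h : (jT I).app M = 0) :
    (DCoh.tensorBi.flip.map (ClSub.idealModι I)).app M = 0 :=
  (cancel_mono ((tensorStructureIso X).hom.app M)).1 (h.trans zero_comp.symm)

theorem isIso_map_toSubscheme {M : X.Modules} (h : (jT I).app M = 0) :
    IsIso ((DCoh.tensorBi.obj M).map (ClSub.toSubscheme I)) := by
  let q := ClSub.toSubscheme I
  haveI : Epi q := CurvePoint.epi_toSubscheme I
  let S : ShortComplex X.Modules := ShortComplex.mk (ClSub.idealModι I) q (kernel.condition q)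
  have hS : S.Exact := ShortComplex.exact_of_f_is_kernel S (kernelIsKernel q)
  haveI : PreservesColimitsOfSize.{u, u} (DCoh.tensorBi.obj M) := ⟨fun {K} _ => inferInstance⟩
  haveI : Epi ((DCoh.tensorBi.obj M).map q) := (DCoh.tensorBi.obj M).map_epi q
  have hp : PreservesFiniteColimits (DCoh.tensorBi.obj M) := inferInstance
  have h31 := (Functor.preservesFiniteColimits_tfae (DCoh.tensorBi.obj M)).out 3 1
  have hex := ((h31.1 hp) S ⟨hS, inferInstanceAs (Epi q)⟩).1
  haveI : Mono ((DCoh.tensorBi.obj M).map q) :=
    (ShortComplex.exact_iff_mono (S.map (DCoh.tensorBi.obj M)) (map_idealModι_eq_zero I h)).1 hex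
  exact isIso_of_mono_of_epi _

theorem killed_of_jT {M : X.Modules} (h : (jT I).app M = 0) : Killed I M := by
  haveI := isIso_map_toSubscheme I h
  have e1 : (DCoh.tensorBi.obj M).obj (Coh.structureModule X) ≅
      (DCoh.tensorBi.obj M).obj (ClSub.quotMod I) := asIso ((DCoh.tensorBi.obj M).map (ClSub.toSubscheme I))
  have e0 : (DCoh.tensorBi.obj M).obj (Coh.structureModule X) ≅ M := (tensorStructureIso X).app M
  have e2 : (DCoh.tensorBi.obj M).obj (ClSub.quotMod I) ≅ (Scheme.Modules.pushforward I.subschemeι).obj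
      ((Scheme.Modules.pullback I.subschemeι).obj M) := (tensorPushStructureIso I.subschemeι).app M
  exact killed_of_iso I (e2.symm ≪≫ e1.symm ≪≫ e0) (killed_push I _)

theorem killed_tensor {M : X.Modules} (h : Killed I M) (A : X.Modules) :
    Killed I ((DCoh.tensorRightMod A).obj M) := by
  haveI : IsIso ((iAdj I).unit.app M) := h
  haveI := isIso_projMod_of_isClosedImmersion I.subschemeι ((Scheme.Modules.pullback I.subschemeι).obj M) A
  exact killed_of_iso I ((DCoh.tensorRightMod A).mapIso (asIso ((iAdj I).unit.app M)) ≪≫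
    asIso (projMod I.subschemeι ((Scheme.Modules.pullback I.subschemeι).obj M) A)).symm (killed_push I _)

theorem mono_jT {M : X.Modules} (hM : FlatMod.IsFlat M) : Mono ((jT I).app M) := by
  let S : ShortComplex X.Modules := ShortComplex.mk (ClSub.idealModι I) (cokernel.π _) (cokernel.condition _)
  haveI : Mono S.f := inferInstanceAs (Mono (kernel.ι (ClSub.toSubscheme I)))
  have hS : S.ShortExact :=
    { exact := ShortComplex.exact_of_g_is_cokernel S (cokernelIsCokernel _) }
  haveI := (ShortComplex.shortExact_of_iso (S.mapNatIso ((tensorBiFlipIso X).app M))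
    (flatObj_of_isFlat hM S hS)).mono_f
  haveI : Mono ((DCoh.tensorBi.obj M).map (ClSub.idealModι I)) := this
  exact mono_comp ((DCoh.tensorBi.obj M).map (ClSub.idealModι I)) ((tensorStructureIso X).hom.app M)

variable {I L}

theorem isInvertible_inverse (hI : BlowUp.IsEffCartierIdeal I) (hL : ClSub.IsInverseOf L (ClSub.idealMod I)) :
    PicF.IsInvertible L := by
  obtain ⟨D, hD, ⟨e⟩⟩ := H23.PicInv.exists_inverse (ArSurfX.isInvertible_idealMod hI)
  exact H23.PicMul.isInvertible_of_iso (((tensorStructureIso X).app D).symm ≪≫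
    ((((tensorBiFlipIso X).app D).app (Coh.structureModule X))).symm ≪≫
    (DCoh.tensorRightMod D).mapIso hL.some.symm ≪≫
    (FMAux.tensorRightAssocIso (ClSub.idealMod I) D).app L ≪≫
    (DCoh.tensorBi.obj L).mapIso e ≪≫ (tensorStructureIso X).app L) hD

/-- `(M ⊗ L) ⊗ I = M`. -/
noncomputable def eUT (hL : ClSub.IsInverseOf L (ClSub.idealMod I)) : U L ⋙ T I ≅ 𝟭 X.Modules :=
  FMAux.tensorRightAssocIso L (ClSub.idealMod I) ≪≫ DCoh.tensorBi.flip.mapIso hL.some ≪≫ tensorStructureIso X

/-- `(M ⊗ I) ⊗ L = M`. -/
noncomputable def eTU (hL : ClSub.IsInverseOf L (ClSub.idealMod I)) : T I ⋙ U L ≅ 𝟭 X.Modules :=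
  FMAux.tensorRightAssocIso (ClSub.idealMod I) L ≪≫
    DCoh.tensorBi.flip.mapIso ((((tensorBiFlipIso X).app (ClSub.idealMod I)).app L).symm ≪≫ hL.some) ≪≫
      tensorStructureIso X

theorem isEquivalence_U (hL : ClSub.IsInverseOf L (ClSub.idealMod I)) : (U L).IsEquivalence :=
  (CategoryTheory.Equivalence.mk (U L) (T I) (eUT hL).symm (eTU hL)).isEquivalence_functor

theorem isEquivalence_T (hL : ClSub.IsInverseOf L (ClSub.idealMod I)) : (T I).IsEquivalence :=
  (CategoryTheory.Equivalence.mk (U L) (T I) (eUT hL).symm (eTU hL)).isEquivalence_inverse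

theorem isFlat_U (hL : ClSub.IsInverseOf L (ClSub.idealMod I)) {P : X.Modules} (hP : FlatMod.IsFlat P) :
    FlatMod.IsFlat ((U L).obj P) := by
  haveI := isEquivalence_U hL
  refine isFlat_of_mono_tensor fun S hS => ?_
  haveI : Mono ((DCoh.tensorBi.flip.obj P).map S.f) := (flatObj_of_isFlat hP S hS).mono_f
  haveI : Mono ((U L).map ((DCoh.tensorBi.flip.obj P).map S.f)) := inferInstance
  let e : DCoh.tensorBi.flip.obj P ⋙ U L ≅ DCoh.tensorBi.flip.obj ((U L).obj P) :=
    FMAux.tensorRightAssocIso P L
  rw [← NatIso.naturality_1 e S.f]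
  haveI : Mono ((DCoh.tensorBi.flip.obj P ⋙ U L).map S.f) := ‹Mono ((U L).map _)›
  exact mono_comp _ _

/-- Modules `M ⊗ L` with `M` injective are divisible by the ideal. -/
theorem epi_jT_injective (hL : ClSub.IsInverseOf L (ClSub.idealMod I)) {J : X.Modules} (hJ : Injective J) :
    Epi ((jT I).app ((U L).obj J)) := by
  haveI := isEquivalence_U hL
  haveI : Injective ((U L).obj J) := ((U L).asEquivalence.map_injective_iff J).2 hJ
  let M := (U L).obj J
  let P := (flatCover X).G.obj M
  let p : P ⟶ M := (flatCover X).π.app M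
  haveI : Epi p := (flatCover X).epi M
  have hP : FlatMod.IsFlat P := (flatCover X).flat M
  let e := (eUT hL).app P
  haveI := mono_jT I (isFlat_U hL hP)
  let a : P ⟶ (U L).obj P := e.inv ≫ (jT I).app ((U L).obj P)
  haveI : Mono a := mono_comp _ _
  let g := Injective.factorThru p a
  have hg : a ≫ g = p := Injective.comp_factorThru p a
  haveI : Epi ((e.inv ≫ (T I).map g) ≫ (jT I).app M) := by
    have n := (jT I).naturality g
    rw [Category.assoc, n]
    rw [← Category.assoc]
    change Epi (a ≫ g)
    rw [hg]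
    infer_instance
  exact epi_of_epi (e.inv ≫ (T I).map g) _

end Groth.Agent.Dual349.Divisor
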