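import Groth.Agent.Dual349.DivisorExact
import Groth.Agent.H9Misc.PlusRB

/-!
# `R Hom(O_D, -) = Li^* ⊗ N[-1]` for an effective Cartier divisor
-/

set_option autoImplicit false
set_option linter.style.haveILetI false
set_option backward.isDefEq.respectTransparency false
set_option maxHeartbeats 1000000

universe u

open CategoryTheory CategoryTheory.Limits AlgebraicGeometry

attribute [local instance] HasDerivedCategory.standard

namespace Groth.Agent.Dual349.Divisor

open KFlatLib

variable {X : Scheme.{u}} (I : X.IdealSheafData) {L : X.Modules}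
variable (hL : ClSub.IsInverseOf L (ClSub.idealMod I)) [Dual3.HasHomO I.subschemeι]

/-- The twisted resolution restricted to the divisor. -/
noncomputable abbrev resPull (L : X.Modules) : CochainComplex X.Modules ℤ ⥤ DCoh.D I.subscheme :=
  kRes X ⋙ Uc L ⋙ pullCx I.subschemeι ⋙ DerivedCategory.Q

/-- The comparison on complexes. -/
noncomputable def beta : homC I ⋙ shiftFunctor _ (1 : ℤ) ⋙ DerivedCategory.Q ⟶ resPull I L where
  app M := ConeRoof.roof (rhoSC I hL M) (isZero_pull_row₁ I hL M)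
  naturality M N g := ConeRoof.roof_naturality
    ({ τ₁ := (homC I).map g
       τ₂ := (pullCx I.subschemeι).map (rowMap L g).τ₁
       τ₃ := (pullCx I.subschemeι).map (rowMap L g).τ₂
       comm₁₂ := rho_naturality I hL g
       comm₂₃ := ((pullCx I.subschemeι).map_comp _ _).symm.trans ((congrArg _ (rowMap L g).comm₁₂).trans
        ((pullCx I.subschemeι).map_comp _ _)) } : rhoSC I hL M ⟶ rhoSC I hL N) _ _

theorem isIso_beta {M : CochainComplex X.Modules ℤ} (hM : ∀ n, Injective (M.X n)) :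
    IsIso ((beta I hL).app M) :=
  ConeRoof.isIso_roof (shortExact_rhoSC I hL hM) (isZero_pull_row₁ I hL M)

/-- `Hom(O_D, -)[1]` on the homotopy category. -/
noncomputable abbrev homShift : HomotopyCategory X.Modules (ComplexShape.up ℤ) ⥤ DCoh.D I.subscheme :=
  (Dual3.homO I.subschemeι).mapHomotopyCategory (ComplexShape.up ℤ) ⋙ DerivedCategory.Qh ⋙ shiftFunctor _ (1 : ℤ)

/-- Its restriction to complexes. -/
noncomputable def homShiftIso :
    HomotopyCategory.quotient X.Modules (ComplexShape.up ℤ) ⋙ homShift I ≅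
      homC I ⋙ shiftFunctor _ (1 : ℤ) ⋙ DerivedCategory.Q :=
  (Functor.associator _ _ _).symm ≪≫
    Functor.isoWhiskerRight ((Dual3.homO I.subschemeι).mapHomotopyCategoryFactors (ComplexShape.up ℤ)) _ ≪≫
    Functor.associator _ _ _ ≪≫ Functor.isoWhiskerLeft (homC I)
      ((Functor.associator _ _ _).symm ≪≫
        Functor.isoWhiskerRight (DerivedCategory.quotientCompQhIso I.subscheme.Modules) _ ≪≫
        (DerivedCategory.Q.commShiftIso (1 : ℤ)).symm)

variable (L) in
/-- `Li^* ⊗ N` on complexes. -/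
theorem nonempty_resPull_iso [DCoh.HasLpull I.subschemeι]
    [DCoh.HasLTensorMod ((Scheme.Modules.pullback I.subschemeι).obj L)] (hI : PicF.IsInvertible L) :
    Nonempty (HomotopyCategory.quotient X.Modules (ComplexShape.up ℤ) ⋙ DerivedCategory.Qh ⋙
      DCoh.Lpull I.subschemeι ⋙ DCoh.LTensorMod ((Scheme.Modules.pullback I.subschemeι).obj L) ≅ resPull I L) := by
  let i := I.subschemeι
  let N := (Scheme.Modules.pullback i).obj L
  have hN := FMAux.isFlat_of_isInvertible (PicClLib.isInvertible_pullback i hI)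
  exact ⟨(Functor.associator _ _ _).symm ≪≫
    Functor.isoWhiskerRight (DerivedCategory.quotientCompQhIso X.Modules) _ ≪≫
    (Functor.associator _ _ _).symm ≪≫ Functor.isoWhiskerRight (lpullResIso i) _ ≪≫
    Functor.associator _ _ _ ≪≫ Functor.isoWhiskerLeft (kRes X) (Functor.associator _ _ _ ≪≫
      Functor.isoWhiskerLeft (pullCx i) (FMAux.ltensorFlatIso N hN) ≪≫ (Functor.associator _ _ _).symm ≪≫
      Functor.isoWhiskerRight (FMAux.mapCxCompIso (Scheme.Modules.pullback i) (DCoh.tensorRightMod N) ≪≫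
        NatIso.mapHomologicalComplex (pullTensorRightIso i L).symm (ComplexShape.up ℤ) ≪≫
        (FMAux.mapCxCompIso (U L) (Scheme.Modules.pullback i)).symm) DerivedCategory.Q ≪≫
      Functor.associator _ _ _)⟩

variable [EnoughInjectives X.Modules]

/-- Injective bounded below complexes, up to homotopy, are in the image of the right adjoint. -/
theorem exists_inj_rb (Y : DerivedCategory.Plus X.Modules) :
    haveI := H9Misc.PlusRB.qhPlus_isLeftAdjoint X.Modules
    ∃ J : HomotopyCategory.Plus X.Modules, (∀ n, Injective (J.obj.as.X n)) ∧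
      Nonempty (J ≅ (DerivedCategory.Plus.Qh (C := X.Modules)).rightAdjoint.obj Y) ∧
      IsIso ((Adjunction.ofIsLeftAdjoint (DerivedCategory.Plus.Qh (C := X.Modules))).counit.app Y) := by
  haveI := H9Misc.PlusRB.qhPlus_isLeftAdjoint X.Modules
  let Q := DerivedCategory.Plus.Qh (C := X.Modules)
  let a := Adjunction.ofIsLeftAdjoint Q
  obtain ⟨J, hK, hJ, ⟨e⟩⟩ := H9Misc.PlusRB.exists_rep Y
  have hb : ∀ Z : HomotopyCategory.Plus X.Modules, Function.Bijective fun φ : Z ⟶ J => φ ≫ a.unit.app J := by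
    intro Z
    have e1 : (fun φ : Z ⟶ J => φ ≫ a.unit.app J) = fun φ => a.homEquiv Z (Q.obj J) (Q.map φ) := by
      funext φ
      rw [a.homEquiv_unit]
      exact a.unit.naturality φ
    rw [e1]
    exact (a.homEquiv Z (Q.obj J)).bijective.comp
      (DerivedCategory.Plus.Qh_map_bijective_of_isKInjective Z J hK)
  haveI : IsIso (a.unit.app J) := isIso_of_yoneda_map_bijective _ hb
  haveI : IsIso (a.counit.app (Q.obj J)) := by
    haveI : IsIso (Q.map (a.unit.app J) ≫ a.counit.app (Q.obj J)) := by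
      have h := a.left_triangle_components J
      exact (IsIso.id _ : IsIso (𝟙 (Q.obj J))) |> fun i => h ▸ i
    exact IsIso.of_isIso_comp_left (Q.map (a.unit.app J)) _
  exact ⟨J, hJ, ⟨asIso (a.unit.app J) ≪≫ Q.rightAdjoint.mapIso e⟩,
    (NatTrans.isIso_app_iff_of_iso a.counit e).1 inferInstance⟩

include hL in
/-- `R Hom(O_D, -) = (Li^* ⊗ N)[-1]`. -/
theorem nonempty_RHomOPlus_divisor (hI : PicF.IsInvertible L) [DCoh.HasLpull I.subschemeι]
    [DCoh.HasLTensorMod ((Scheme.Modules.pullback I.subschemeι).obj L)] :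
    Nonempty (Dual3.RHomOPlus I.subschemeι ⋙
        (DerivedCategory.Plus.ι : DerivedCategory.Plus I.subscheme.Modules ⥤ DCoh.D I.subscheme) ≅
      (DerivedCategory.Plus.ι : DerivedCategory.Plus X.Modules ⥤ DCoh.D X) ⋙ DCoh.Lpull I.subschemeι ⋙
        DCoh.LTensorMod ((Scheme.Modules.pullback I.subschemeι).obj L) ⋙
          shiftFunctor (DCoh.D I.subscheme) (-1 : ℤ)) := by
  haveI := H9Misc.PlusRB.qhPlus_isLeftAdjoint X.Modules
  let H := Dual3.homO I.subschemeι
  let Q := DerivedCategory.Plus.Qh (C := X.Modules)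
  let RB := Q.rightAdjoint
  let aQ := Adjunction.ofIsLeftAdjoint Q
  let G := DCoh.Lpull I.subschemeι ⋙ DCoh.LTensorMod ((Scheme.Modules.pullback I.subschemeι).obj L)
  haveI := TriCat.isRightDerivedFunctor_of_adjunction aQ (HomotopyCategory.Plus.quasiIso X.Modules)
    (H.mapHomotopyCategoryPlus ⋙ DerivedCategory.Plus.Qh)
  let eR : RB ⋙ H.mapHomotopyCategoryPlus ⋙ DerivedCategory.Plus.Qh ≅ Dual3.RHomOPlus I.subschemeι :=
    Functor.rightDerivedUnique _ _ (Functor.whiskerRight aQ.unit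
      (H.mapHomotopyCategoryPlus ⋙ DerivedCategory.Plus.Qh) :
      H.mapHomotopyCategoryPlus ⋙ DerivedCategory.Plus.Qh ⟶
        DerivedCategory.Plus.Qh ⋙ RB ⋙ H.mapHomotopyCategoryPlus ⋙ DerivedCategory.Plus.Qh)
      H.rightDerivedFunctorPlusUnit (HomotopyCategory.Plus.quasiIso X.Modules)
  obtain ⟨eG⟩ := nonempty_resPull_iso I L hI
  let γ : homShift I ⟶ DerivedCategory.Qh ⋙ G :=
    ConeRoof.descend ((homShiftIso I).hom ≫ beta I hL ≫ eG.inv)
  let r := RB ⋙ HomotopyCategory.Plus.ι X.Modules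
  haveI : IsIso aQ.counit := by
    haveI : ∀ Y, IsIso (aQ.counit.app Y) := fun Y => (exists_inj_rb Y).choose_spec.2.2
    exact NatIso.isIso_of_isIso_app _
  haveI : ∀ Y, IsIso ((Functor.whiskerLeft r γ).app Y) := fun Y => by
    obtain ⟨J, hJ, ⟨eJ⟩, -⟩ := exists_inj_rb Y
    change IsIso (γ.app (r.obj Y))
    refine (NatTrans.isIso_app_iff_of_iso γ ((HomotopyCategory.Plus.ι X.Modules).mapIso eJ)).1 ?_
    haveI := isIso_beta I hL (M := J.obj.as) hJ
    change IsIso (((homShiftIso I).hom ≫ beta I hL ≫ eG.inv).app J.obj.as)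
    simp only [NatTrans.comp_app]
    infer_instance
  haveI := NatIso.isIso_of_isIso_app (Functor.whiskerLeft r γ)
  let e1 : (Dual3.RHomOPlus I.subschemeι ⋙ DerivedCategory.Plus.ι) ⋙ shiftFunctor _ (1 : ℤ) ≅ r ⋙ homShift I :=
    Functor.isoWhiskerRight (Functor.isoWhiskerRight eR.symm _ ≪≫ Functor.associator _ _ _ ≪≫
      Functor.isoWhiskerLeft RB (Functor.associator _ _ _ ≪≫
        Functor.isoWhiskerLeft H.mapHomotopyCategoryPlus (DerivedCategory.Plus.QhCompιIsoιCompQh _) ≪≫
        (Functor.associator _ _ _).symm ≪≫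
        Functor.isoWhiskerRight (Iso.refl (H.mapHomotopyCategoryPlus ⋙ HomotopyCategory.Plus.ι _)) _)) _ ≪≫
      Iso.refl _
  let e2 : r ⋙ DerivedCategory.Qh ⋙ G ≅ DerivedCategory.Plus.ι ⋙ G :=
    (Functor.associator _ _ _).symm ≪≫
      Functor.isoWhiskerRight (Functor.associator _ _ _ ≪≫
        Functor.isoWhiskerLeft RB (DerivedCategory.Plus.QhCompιIsoιCompQh _).symm ≪≫
        (Functor.associator _ _ _).symm ≪≫ Functor.isoWhiskerRight (asIso aQ.counit) _ ≪≫
        Functor.leftUnitor _) G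
  exact ⟨(Functor.rightUnitor _).symm ≪≫
    Functor.isoWhiskerLeft _ (shiftFunctorCompIsoId (DCoh.D I.subscheme) (1 : ℤ) (-1) (by omega)).symm ≪≫
    (Functor.associator _ _ _).symm ≪≫
    Functor.isoWhiskerRight (e1 ≪≫ asIso (Functor.whiskerLeft r γ) ≪≫ e2) _ ≪≫
    Functor.associator _ _ _ ≪≫ Functor.isoWhiskerLeft _ (Functor.associator _ _ _)⟩

end Groth.Agent.Dual349.Divisor
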