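import Groth.Agent.DualityLC.DualUnique
import Groth.Agent.Dual349.DualizingStalk

/-!
# Dualizing complexes agree up to shift near every point
-/

set_option autoImplicit false
set_option linter.style.haveILetI false
set_option backward.isDefEq.respectTransparency false

universe u

open CategoryTheory CategoryTheory.Limits TensorProduct

attribute [local instance] HasDerivedCategory.standard

namespace Groth.Agent.Dual349

variable {A : Type u} [CommRing A] {ω ω' : Dual.D A}

/-- When the homs between two dualizing complexes are those of a shift, so are the complexes. -/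
theorem nonempty_iso_shift_of_homs [IsNoetherianRing A] (hω : Dual.IsDualizing A ω) (hω' : Dual.IsDualizing A ω')
    (m : ℤ) (hvan : ∀ i, i ≠ m → Subsingleton (ω' ⟶ ω⟦i⟧)) (e : (ω' ⟶ ω⟦m⟧) ≃ₗ[A] A) :
    ∃ n : ℤ, Nonempty (ω' ≅ ω⟦n⟧) := by
  haveI := KFlatLib.hasLTen A
  haveI := KFlatLib.hasRHom (A := A)
  haveI := KFlatLib.hasLTen₃ A
  haveI := KFlatLib.isSymMonoidal A
  have conc : ∀ (X : Dual.D A) (k : ℤ), (∀ i, i ≠ k → Subsingleton (X ⟶ ω⟦i⟧)) → ((X ⟶ ω⟦k⟧) ≃ₗ[A] A) →
      Nonempty (((DTen.RHomR A X).obj ω)⟦k⟧ ≅ Dual.inD A A) := fun X k hv ek => by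
    obtain ⟨ek'⟩ := KFlatLib.exists_hdRHomShiftLEquiv X ω k
    refine DualityLC.exists_iso_inD_of_concentrated _ k A (fun j hj => ?_) (ek'.trans ek)
    obtain ⟨ej⟩ := KFlatLib.exists_hdRHomShiftLEquiv X ω j
    haveI := hv j hj
    exact ej.toEquiv.subsingleton
  let c0 : A →ₗ[A] (ω ⟶ ω) :=
    { toFun := fun a => a • 𝟙 ω
      map_add' := fun a b => add_smul a b _
      map_smul' := fun a b => mul_smul a b _ }
  obtain ⟨cω⟩ := conc ω 0 hω.ext_self_subsingleton
    ((Linear.homCongr A (Iso.refl ω) ((shiftFunctorZero (Dual.D A) ℤ).app ω)).trans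
      (LinearEquiv.ofBijective c0 hω.toEnd_bijective).symm)
  have hω'' := KFlatLib.isDualizing_shift hω' (-m)
  obtain ⟨c⟩ := conc (ω'⟦-m⟧) 0 (fun i hi => by
      haveI := hvan (i + m) (by omega)
      exact ((DualityLC.shiftHomSubEquiv ω' ω (-m) i).trans
        (Linear.homCongr A (Iso.refl ω') (eqToIso (by rw [sub_neg_eq_add])))).toEquiv.subsingleton)
    (((DualityLC.shiftHomSubEquiv ω' ω (-m) 0).trans
      (Linear.homCongr A (Iso.refl ω') (eqToIso (by rw [sub_neg_eq_add, zero_add])))).trans e)
  let r : (DTen.RHomR A (ω'⟦-m⟧)).obj ω ≅ (DTen.RHomR A ω).obj ω :=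
    ((shiftFunctorZero (Dual.D A) ℤ).app _).symm ≪≫ c ≪≫ cω.symm ≪≫ (shiftFunctorZero (Dual.D A) ℤ).app _
  obtain ⟨bd⟩ := KFlatLib.nonempty_biduality hω (K := ω'⟦-m⟧) hω''.finite_cohomology
  obtain ⟨bd₀⟩ := KFlatLib.nonempty_biduality hω (K := ω) hω.finite_cohomology
  exact ⟨m, ⟨((shiftEquiv' (Dual.D A) (-m) m (by omega)).unitIso.app ω') ≪≫
    (shiftFunctor (Dual.D A) m).mapIso (bd.symm ≪≫ ((DTen.RHom A).mapIso r.op).symm.app ω ≪≫ bd₀)⟩⟩

theorem subsingleton_away [IsNoetherianRing A] {M : Type u} [AddCommGroup M] [Module A M] (f : A)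
    (h : ∀ q : PrimeSpectrum A, f ∉ q.asIdeal → q ∉ Module.support A M) [Module.Finite A M] :
    Subsingleton (Localization.Away f ⊗[A] M) := by
  have hf : f ∈ (Module.annihilator A M).radical := by
    rw [Ideal.radical_eq_sInf, Submodule.mem_sInf]
    rintro q ⟨hle, hq⟩
    by_contra hfq
    refine h ⟨q, hq⟩ hfq ?_
    rw [Module.support_eq_zeroLocus]
    exact hle
  obtain ⟨k, hk⟩ := hf
  refine subsingleton_of_forall_eq 0 fun z => ?_
  have hu : IsUnit (algebraMap A (Localization.Away f) (f ^ k)) := by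
    rw [map_pow]
    exact (IsLocalization.Away.algebraMap_isUnit f).pow k
  refine hu.smul_eq_zero.1 ?_
  rw [algebraMap_smul]
  induction z with
  | zero => simp
  | tmul a x => rw [← TensorProduct.tmul_smul, Module.mem_annihilator.1 hk x, TensorProduct.tmul_zero]
  | add a b ha hb => rw [smul_add, ha, hb, add_zero]

/-- Near every prime two dualizing complexes agree up to a shift. -/
theorem exists_shift_iso_near [IsNoetherianRing A] (hω : Dual.IsDualizing A ω) (hω' : Dual.IsDualizing A ω')
    (p : PrimeSpectrum A) :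
    ∃ f : A, f ∉ p.asIdeal ∧ ∀ [DTen.HasLBase (algebraMap A (Localization.Away f))],
      ∃ n : ℤ, Nonempty ((DTen.LBase (algebraMap A (Localization.Away f))).obj ω' ≅
        ((DTen.LBase (algebraMap A (Localization.Away f))).obj ω)⟦n⟧) := by
  haveI := KFlatLib.hasLTen A
  haveI := KFlatLib.hasRHom (A := A)
  let H : ℤ → Type u := fun i => Dual.HD A ((DTen.RHomR A ω').obj ω) i
  have hfin : ∀ i, Module.Finite A (Dual.HD A ((DTen.RHomR A ω').obj ω) i) := fun i =>
    KFlatLib.finite_hd_RHom_of_finite_hd hω'.finite_cohomology hω.finite_cohomology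
      (KFlatLib.finiteInjDim_of_isDualizing hω) i
  obtain ⟨m, -, hfree, hrk⟩ := DualityLC.exists_point_degree hω hω' p
  haveI := hfin m
  haveI : Module.FinitePresentation A (Dual.HD A ((DTen.RHomR A ω').obj ω) m) :=
    Module.finitePresentation_of_finite A _
  obtain ⟨φ, hker, hcok⟩ := exists_generator p (Dual.HD A ((DTen.RHomR A ω').obj ω) m) hfree hrk
  let V : Set (PrimeSpectrum A) := Subtype.val '' ((fun x : Module.freeLocus A (Dual.HD A ((DTen.RHomR A ω').obj ω) m) =>
      Module.rankAtStalk (Dual.HD A ((DTen.RHomR A ω').obj ω) m) x.1) ⁻¹' {1})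
  have hV : IsOpen V :=
    Module.isOpen_freeLocus.isOpenMap_subtype_val _ (Module.isLocallyConstant_rankAtStalk_freeLocus {1})
  obtain ⟨_, ⟨f, rfl⟩, hpf, hfW⟩ := PrimeSpectrum.isTopologicalBasis_basic_opens.exists_subset_of_mem_open
    (a := p) (u := (V ∩ (Module.support A (LinearMap.ker φ))ᶜ) ∩
      (Module.support A (Dual.HD A ((DTen.RHomR A ω').obj ω) m ⧸ LinearMap.range φ))ᶜ)
    ⟨⟨⟨⟨p, hfree⟩, hrk, rfl⟩, hker⟩, hcok⟩
    ((hV.inter (DualityLC.isClosed_support_finite (Module.Finite.iff_fg.2 (IsNoetherian.noetherian _))).isOpen_compl).inter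
      (DualityLC.isClosed_support_finite inferInstance).isOpen_compl)
  refine ⟨f, hpf, ?_⟩
  intro _
  haveI : IsNoetherianRing (Localization.Away f) := IsLocalization.isNoetherianRing (Submonoid.powers f) _ inferInstance
  haveI : Module.Flat A (Localization.Away f) := IsLocalization.flat _ (Submonoid.powers f)
  have hmax : ∀ n : Ideal (Localization.Away f), n.IsMaximal →
      ∃ I : Ideal A, I.map (algebraMap A (Localization.Away f)) = n := fun n _ =>
    ⟨_, IsLocalization.map_comap (Submonoid.powers f) (Localization.Away f) n⟩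
  obtain ⟨a, b, -, _, _⟩ := KFlatLib.exists_bounds_of_isDualizing hω
  obtain ⟨a', b', -, _, _⟩ := KFlatLib.exists_bounds_of_isDualizing hω'
  have hpc := KFlatLib.pc'_of_finite_hd ω' b' hω'.finite_cohomology
  have e : ∀ i : ℤ, Nonempty (((DTen.LBase (algebraMap A (Localization.Away f))).obj ω' ⟶
      ((DTen.LBase (algebraMap A (Localization.Away f))).obj ω)⟦i⟧) ≃ₗ[Localization.Away f]
      Localization.Away f ⊗[A] (Dual.HD A ((DTen.RHomR A ω').obj ω) i)) := fun i => by
    obtain ⟨e₁⟩ := KFlatLib.exists_homBaseChangeLEquiv (B := Localization.Away f) (X := ω') (Y := ω) hpc a i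
    obtain ⟨e₂⟩ := KFlatLib.exists_hdRHomShiftLEquiv ω' ω i
    exact ⟨e₁.trans (TensorProduct.AlgebraTensorModule.congr
      (LinearEquiv.refl (Localization.Away f) (Localization.Away f)) e₂.symm)⟩
  obtain ⟨em⟩ := e m
  refine nonempty_iso_shift_of_homs (KFlatLib.isDualizing_LBase hω hmax) (KFlatLib.isDualizing_LBase hω' hmax) m
    (fun i hi => ?_) ?_
  · obtain ⟨ei⟩ := e i
    haveI := hfin i
    haveI : Subsingleton (Localization.Away f ⊗[A] (Dual.HD A ((DTen.RHomR A ω').obj ω) i)) :=
      subsingleton_away f fun q hq hqi => by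
        obtain ⟨k, hk, -, -⟩ := DualityLC.exists_point_degree hω hω' q
        obtain ⟨x, hx, hxq⟩ := (hfW hq).1.1
        have hik : i = k := by
          by_contra h
          exact hk i h hqi
        have hmk : m = k := by
          by_contra h
          refine hk m h ?_
          subst hxq
          haveI : Module.Free (Localization.AtPrime x.1.asIdeal)
              (LocalizedModule x.1.asIdeal.primeCompl (Dual.HD A ((DTen.RHomR A ω').obj ω) m)) := x.2
          refine Module.mem_support_iff.2 (Module.nontrivial_of_finrank_pos (R := Localization.AtPrime x.1.asIdeal) ?_)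
          rw [show Module.finrank (Localization.AtPrime x.1.asIdeal)
            (LocalizedModule x.1.asIdeal.primeCompl (Dual.HD A ((DTen.RHomR A ω').obj ω) m)) = 1 from hx]
          exact one_pos
        exact hi (hik.trans hmk.symm)
    exact ei.toEquiv.subsingleton
  · let φB := φ.baseChange (Localization.Away f)
    haveI : Module.Finite A (LinearMap.ker φ) := Module.Finite.iff_fg.2 (IsNoetherian.noetherian _)
    haveI := subsingleton_away f (fun q hq => (hfW hq).1.2) (M := LinearMap.ker φ)
    haveI := subsingleton_away f (fun q hq => (hfW hq).2)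
      (M := Dual.HD A ((DTen.RHomR A ω').obj ω) m ⧸ LinearMap.range φ)
    have hinj : Function.Injective φB := by
      rw [injective_iff_map_eq_zero]
      intro z hz
      obtain ⟨w, rfl⟩ := ((Module.Flat.lTensor_exact (Localization.Away f) (LinearMap.exact_subtype_ker_map φ)) z).1 hz
      rw [Subsingleton.elim w 0, map_zero]
    have hsurj : Function.Surjective φB := fun z => by
      have hex := (Module.Flat.lTensor_exact (Localization.Away f)
        (LinearMap.exact_map_mkQ_range φ)) z
      exact hex.1 (Subsingleton.elim _ _)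
    exact em.trans ((LinearEquiv.ofBijective φB ⟨hinj, hsurj⟩).symm.trans
      (TensorProduct.AlgebraTensorModule.rid A (Localization.Away f) (Localization.Away f)))

end Groth.Agent.Dual349
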