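import Groth.Agent.Dual349.DualizingStalk

/-!
# Gorenstein schemes and invertible dualizing complexes
-/

set_option autoImplicit false
set_option linter.style.haveILetI false
set_option backward.isDefEq.respectTransparency false
set_option backward.isDefEq.respectTransparency.types false

universe u

open CategoryTheory CategoryTheory.Limits AlgebraicGeometry

attribute [local instance] HasDerivedCategory.standard

namespace Groth.Agent.Dual349

/-- An object concentrated in one degree with trivial cohomology there. -/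
theorem exists_inD_iso_of_concentrated {Y : Scheme.{u}} (L : DCoh.D Y) (i : ℤ)
    (h : ∀ j : ℤ, j ≠ i → IsZero (DCoh.HD L j)) (e : DCoh.HD L i ≅ Coh.structureModule Y) :
    Nonempty (L ≅ (DCoh.inD Y (Coh.structureModule Y))⟦-i⟧) := by
  haveI : L.IsGE i := (DerivedCategory.isGE_iff _ i).2 fun j hj => h j (by omega)
  haveI : L.IsLE i := (DerivedCategory.isLE_iff _ i).2 fun j hj => h j (by omega)
  obtain ⟨M, ⟨eM⟩⟩ := DerivedCategory.exists_iso_singleFunctor_obj_of_isGE_of_isLE L i
  let c : M ≅ Coh.structureModule Y :=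
    ((DerivedCategory.singleFunctorCompHomologyFunctorIso Y.Modules i).app M).symm ≪≫
      (DerivedCategory.homologyFunctor Y.Modules i).mapIso eM.symm ≪≫ e
  exact ⟨eM ≪≫ (DerivedCategory.singleFunctor Y.Modules i).mapIso c ≪≫
    ((((DerivedCategory.singleFunctors Y.Modules).shiftIso (-i) i 0 (by omega)).app _)).symm⟩

theorem isZero_HD_inD {Y : Scheme.{u}} (M : Y.Modules) {i : ℤ} (hi : i ≠ 0) :
    IsZero (DCoh.HD (DCoh.inD Y M) i) := by
  rcases lt_or_gt_of_ne hi with h | h
  · exact DerivedCategory.isZero_of_isGE (DCoh.inD Y M) 0 i h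
  · exact DerivedCategory.isZero_of_isLE (DCoh.inD Y M) 0 i h

variable {X : Scheme.{u}}
  [∀ (U : Scheme.{u}) (j : U ⟶ X) [IsOpenImmersion j], PreservesFiniteLimits (Scheme.Modules.restrictFunctor j)]
  [∀ (R : CommRingCat.{u}), PreservesFiniteLimits (tilde.functor R)]

/-- A dualizing complex is invertible near a Gorenstein point. -/
theorem exists_restrict_iso_unit [IsLocallyNoetherian X] {K : DCoh.D X} (hK : Dual2.IsDualizingSch X K) (x : X)
    (hx : LocCoh.IsGorensteinLocalRing (X.presheaf.stalk x)) :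
    ∃ (U : X.Opens) (n : ℤ), x ∈ U ∧
      Nonempty ((DCoh.restrictD U.ι).obj K ≅ (DCoh.inD (U : Scheme.{u}) (Coh.structureModule (U : Scheme.{u})))⟦n⟧) := by
  obtain ⟨R, hR, j, hj, y, rfl⟩ := KFlatLib.exists_chart x
  haveI := hR
  haveI := hj
  obtain ⟨w, hw, ⟨e⟩⟩ := hK R j
  obtain ⟨i, hne, hfree, hrk⟩ := (DualityLC.gorenstein_iff_free_rank_one hw y).1 ((gorLocalRing_stalk_iff j y).1 hx)
  haveI := hw.finite_cohomology i
  obtain ⟨φ, hker, hcok⟩ := exists_generator y (Dual.HD R w i) hfree hrk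
  obtain ⟨a, b, hab⟩ := exists_degree_range hw
  let W : (Spec R).Opens :=
    ⟨((⋂ k ∈ (Finset.Icc a b).erase i, (Module.support R (Dual.HD R w k))ᶜ) ∩
        (Module.support R (LinearMap.ker φ))ᶜ) ∩ (Module.support R (Dual.HD R w i ⧸ LinearMap.range φ))ᶜ,
      ((isOpen_biInter_finset fun k _ => (DualityLC.isClosed_support_finite (hw.finite_cohomology k)).isOpen_compl).inter
        (DualityLC.isClosed_support_finite (Module.Finite.iff_fg.2 (IsNoetherian.noetherian _))).isOpen_compl).inter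
        (DualityLC.isClosed_support_finite inferInstance).isOpen_compl⟩
  have hyW : y ∈ W := by
    refine ⟨⟨?_, hker⟩, hcok⟩
    simp only [Set.mem_iInter, Set.mem_compl_iff]
    exact fun k hk => hne k (Finset.mem_erase.1 hk).1
  have hW1 : ∀ k, k ≠ i → ∀ p : PrimeSpectrum R, p ∈ W → p ∉ Module.support R (Dual.HD R w k) := by
    intro k hk p hp
    by_cases hmem : k ∈ Finset.Icc a b
    · have := hp.1.1
      simp only [Set.mem_iInter, Set.mem_compl_iff] at this
      exact this k (Finset.mem_erase.2 ⟨hk, hmem⟩)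
    · haveI := hab k hmem
      simp [Module.support_eq_empty]
  let F := tilde.functor R ⋙ Scheme.Modules.restrictFunctor W.ι
  let N : ModuleCat.{u} R := (DerivedCategory.homologyFunctor (ModuleCat.{u} R) i).obj w
  let ψ : ModuleCat.of R R ⟶ N := ModuleCat.ofHom φ
  haveI : Mono (F.map ψ) := Preadditive.mono_of_isZero_kernel _
    ((isZero_restrict_tilde (ModuleCat.of R (LinearMap.ker φ)) W fun p hp => hp.1.2).of_iso
      ((PreservesKernel.iso F ψ).symm ≪≫ F.mapIso (ModuleCat.kernelIsoKer ψ)))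
  haveI : Epi (F.map ψ) := Preadditive.epi_of_isZero_cokernel _
    ((isZero_restrict_tilde (ModuleCat.of R (Dual.HD R w i ⧸ LinearMap.range φ)) W fun p hp => hp.2).of_iso
      ((PreservesCokernel.iso F ψ).symm ≪≫ F.mapIso (ModuleCat.cokernelIsoRangeQuotient ψ)))
  haveI : IsIso (F.map ψ) := isIso_of_mono_of_epi _
  let k := W.ι ≫ j
  let eH : ∀ m : ℤ, DCoh.HD ((KFlatLib.rho k).obj K) m ≅
      (Scheme.Modules.restrictFunctor W.ι).obj
        ((tilde.functor R).obj ((DerivedCategory.homologyFunctor (ModuleCat.{u} R) m).obj w)) := fun m =>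
    KFlatLib.restrictHDIso k K m ≪≫ (Scheme.Modules.restrictFunctorComp W.ι j).app _ ≪≫
      (Scheme.Modules.restrictFunctor W.ι).mapIso (chartHDIso j e m)
  obtain ⟨c⟩ := exists_inD_iso_of_concentrated ((KFlatLib.rho k).obj K) i
    (fun m hm => (isZero_restrict_tilde _ W (hW1 m hm)).of_iso (eH m))
    (eH i ≪≫ (asIso (F.map ψ)).symm ≪≫ (Scheme.Modules.restrictFunctor W.ι).mapIso tildeSelf ≪≫
      KFlatLib.restrictStructureIso W.ι)
  refine ⟨k.opensRange, -i, ⟨⟨y, hyW⟩, rfl⟩, ⟨?_⟩⟩
  exact (KFlatLib.rhoComp (KFlatLib.rangeHom k) k _ (KFlatLib.rangeHom_fac k) K).symm ≪≫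
    (KFlatLib.rho (KFlatLib.rangeHom k)).mapIso c ≪≫
      ((KFlatLib.rho (KFlatLib.rangeHom k)).commShiftIso (-i)).app _ ≪≫
        (shiftFunctor _ (-i)).mapIso
          (((Scheme.Modules.restrictFunctor (KFlatLib.rangeHom k)).mapDerivedCategorySingleFunctor 0).app _ ≪≫
            (DerivedCategory.singleFunctor _ 0).mapIso (KFlatLib.restrictStructureIso (KFlatLib.rangeHom k)))

/-- A point near which a dualizing complex is invertible is Gorenstein. -/
theorem gorenstein_of_restrict_iso [IsLocallyNoetherian X] {K : DCoh.D X} (hK : Dual2.IsDualizingSch X K) (x : X)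
    (U : X.Opens) (n : ℤ) (hxU : x ∈ U)
    (c : (DCoh.restrictD U.ι).obj K ≅ (DCoh.inD (U : Scheme.{u}) (Coh.structureModule (U : Scheme.{u})))⟦n⟧) :
    LocCoh.IsGorensteinLocalRing (X.presheaf.stalk x) := by
  haveI : IsLocallyNoetherian (U : Scheme.{u}) := isLocallyNoetherian_of_isOpenImmersion U.ι
  obtain ⟨R, hR, k, hk, y, hy⟩ := KFlatLib.exists_chart (X := (U : Scheme.{u})) ⟨x, hxU⟩
  haveI := hR
  haveI := hk
  obtain ⟨w, hw, ⟨e⟩⟩ := hK R (k ≫ U.ι)
  have hjy : (k ≫ U.ι).base y = x := by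
    show U.ι.base (k.base y) = x
    rw [hy]
    rfl
  rw [← hjy, gorLocalRing_stalk_iff (k ≫ U.ι) y, DualityLC.gorenstein_iff_free_rank_one hw y]
  let O := DCoh.inD (U : Scheme.{u}) (Coh.structureModule (U : Scheme.{u}))
  let eT : ∀ m : ℤ, (tilde.functor R).obj ((DerivedCategory.homologyFunctor (ModuleCat.{u} R) m).obj w) ≅
      (Scheme.Modules.restrictFunctor k).obj (DCoh.HD O (n + m)) := fun m =>
    (chartHDIso (k ≫ U.ι) e m).symm ≪≫ (Scheme.Modules.restrictFunctorComp k U.ι).app _ ≪≫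
      (Scheme.Modules.restrictFunctor k).mapIso ((KFlatLib.restrictHDIso U.ι K m).symm ≪≫
        (DerivedCategory.homologyFunctor _ m).mapIso c ≪≫
          (((DerivedCategory.homologyFunctor (U : Scheme.{u}).Modules 0).shiftIso n m (n + m) rfl).app _))
  let e0 : (tilde.functor R).obj ((DerivedCategory.homologyFunctor (ModuleCat.{u} R) (-n)).obj w) ≅
      (tilde.functor R).obj (ModuleCat.of R R) :=
    eT (-n) ≪≫ (Scheme.Modules.restrictFunctor k).mapIso (eqToIso (congrArg (fun m => DCoh.HD O m) (add_neg_cancel n)) ≪≫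
      (DerivedCategory.singleFunctorCompHomologyFunctorIso (U : Scheme.{u}).Modules 0).app
        (Coh.structureModule (U : Scheme.{u}))) ≪≫
      KFlatLib.restrictStructureIso k ≪≫ tildeSelf.symm
  let l : Dual.HD R w (-n) ≃ₗ[R] R := (tilde.fullyFaithfulFunctor.preimageIso e0).toLinearEquiv
  haveI : Nontrivial R := ⟨⟨0, 1, fun h => y.isPrime.ne_top ((Ideal.eq_top_iff_one _).2 (h ▸ zero_mem _))⟩⟩
  refine ⟨-n, fun m hm => ?_, ?_, ?_⟩
  · have hz : IsZero ((tilde.functor R).obj ((DerivedCategory.homologyFunctor (ModuleCat.{u} R) m).obj w)) :=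
      ((Scheme.Modules.restrictFunctor k).map_isZero (isZero_HD_inD _ (by omega))).of_iso (eT m)
    have hz' : IsZero ((DerivedCategory.homologyFunctor (ModuleCat.{u} R) m).obj w) := by
      rw [IsZero.iff_id_eq_zero] at hz ⊢
      apply (tilde.functor R).map_injective
      exact ((tilde.functor R).map_id _).trans (hz.trans ((tilde.functor R).map_zero _ _).symm)
    haveI : Subsingleton (Dual.HD R w m) := ModuleCat.subsingleton_of_isZero hz'
    simp [Module.support_eq_empty]
  · rw [Module.freeLocus_congr l, Module.freeLocus_eq_univ]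
    trivial
  · rw [Module.rankAtStalk_eq_of_equiv l, Module.rankAtStalk_self]
    rfl

end Groth.Agent.Dual349
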