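import Groth.Agent.KFlatLib.Scheme.TildePull
import Groth.Agent.KFlatLib.Scheme.TildeD
import Groth.Agent.KFlatLib.Scheme.RHomLocal
import Groth.Agent.KFlatLib.Perfect.Betti
import Groth.Agent.KFlatLib.Ring.DualizingDescent
import Groth.Agent.KFlatLib.Ring.DualizingFibre
import Groth.Agent.H9Misc.DRingLBase
import Groth.Prelude.Def_DualSch

/-!
# Dualizing complexes on schemes are detected on an affine open cover
-/

set_option autoImplicit false
set_option linter.style.haveILetI false
set_option backward.isDefEq.respectTransparency false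
set_option backward.isDefEq.respectTransparency.types false

universe u

open CategoryTheory CategoryTheory.Limits AlgebraicGeometry

attribute [local instance] HasDerivedCategory.standard

namespace Groth.Agent.Dual349

open KFlatLib

variable [∀ (R : CommRingCat.{u}), PreservesFiniteLimits (tilde.functor R)]

/-- The derived tilde functor reflects isomorphism classes. -/
theorem nonempty_iso_of_tildeD {R : CommRingCat.{u}} {M N : DerivedCategory (ModuleCat.{u} R)}
    (e : (DCoh.tildeD R).obj M ≅ (DCoh.tildeD R).obj N) : Nonempty (M ≅ N) := by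
  obtain ⟨a, ha⟩ := (tildeD_map_bijective M N).2 e.hom
  obtain ⟨b, hb⟩ := (tildeD_map_bijective N M).2 e.inv
  exact ⟨⟨a, b, (tildeD_map_bijective M M).1 (by simp [ha, hb]),
    (tildeD_map_bijective N N).1 (by simp [ha, hb])⟩⟩

/-- Restricting a tilde complex to an affine open is base change. -/
theorem nonempty_rho_tildeD {A B : Type u} [CommRing A] [CommRing B] (φ : A →+* B)
    [IsOpenImmersion (Spec.map (CommRingCat.ofHom φ))] [DRing.HasLBaseChange φ] (w : Dual.D A) :
    Nonempty ((rho (Spec.map (CommRingCat.ofHom φ))).obj ((DCoh.tildeD (CommRingCat.of A)).obj w) ≅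
      (DCoh.tildeD (CommRingCat.of B)).obj ((DRing.LBaseChange φ).obj w)) := by
  haveI := hasLpull (Spec.map (CommRingCat.ofHom φ))
  obtain ⟨e⟩ := nonempty_tildeD_lpull_iso φ
  exact ⟨rhoLpullIso _ _ ≪≫ (e.app w).symm⟩

variable {X : Scheme.{u}}

/-- On the chart `j` the object `K` is the tilde of a dualizing complex. -/
def IsDualizingChart (K : DCoh.D X) {A : Type u} [CommRing A] (j : Spec (CommRingCat.of A) ⟶ X)
    [IsOpenImmersion j] : Prop :=
  ∃ ω : Dual.D A, Dual.IsDualizing A ω ∧
    Nonempty ((rho j).obj K ≅ (DCoh.tildeD (CommRingCat.of A)).obj ω)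

theorem isDualizingChart_comp {K : DCoh.D X} {A B : Type u} [CommRing A] [CommRing B]
    (j : Spec (CommRingCat.of A) ⟶ X) [IsOpenImmersion j] (φ : A →+* B)
    [IsOpenImmersion (Spec.map (CommRingCat.ofHom φ))] (hflat : φ.Flat)
    (hmax : ∀ n : Ideal B, n.IsMaximal → ∃ I : Ideal A, I.map φ = n)
    (k : Spec (CommRingCat.of B) ⟶ X) [IsOpenImmersion k] (hk : Spec.map (CommRingCat.ofHom φ) ≫ j = k)
    (h : IsDualizingChart K j) : IsDualizingChart K k := by
  obtain ⟨w, hw, ⟨e⟩⟩ := h
  letI := φ.toAlgebra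
  haveI : Module.Flat A B := hflat
  haveI := hw.isNoetherianRing
  haveI : IsLocallyNoetherian (Spec (CommRingCat.of A)) := inferInstance
  haveI : IsNoetherianRing B :=
    isLocallyNoetherian_Spec.1 (isLocallyNoetherian_of_isOpenImmersion (Spec.map (CommRingCat.ofHom φ)))
  haveI : DRing.HasLBaseChange (algebraMap A B) := H9Misc.DRingLBase.hasLBaseChange _
  haveI : DRing.HasLBaseChange φ := H9Misc.DRingLBase.hasLBaseChange _
  haveI : DTen.HasLBase (algebraMap A B) := hasLBase _
  obtain ⟨e'⟩ := nonempty_rho_tildeD φ w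
  exact ⟨(DRing.LBaseChange φ).obj w, isDualizing_LBaseChange hw hmax,
    ⟨(rhoComp (Spec.map (CommRingCat.ofHom φ)) j k hk K).symm ≪≫ (rho _).mapIso e ≪≫ e'⟩⟩

theorem map_comap_of_away {A B : Type u} [CommRing A] [CommRing B] [Algebra A B] (f : A)
    [IsLocalization.Away f B] (n : Ideal B) : ∃ I : Ideal A, I.map (algebraMap A B) = n :=
  ⟨n.comap (algebraMap A B), IsLocalization.map_comap (Submonoid.powers f) B n⟩

/-- An affine neighbourhood inside two charts. -/
theorem exists_refinement {A A' : Type u} [CommRing A] [CommRing A'] {K : DCoh.D X}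
    (j : Spec (CommRingCat.of A) ⟶ X) [IsOpenImmersion j]
    (j' : Spec (CommRingCat.of A') ⟶ X) [IsOpenImmersion j'] (hj' : IsDualizingChart K j')
    (y : PrimeSpectrum A) (hy : j.base y ∈ Set.range j'.base) :
    ∃ (B : Type u) (_ : CommRing B) (φ : A →+* B) (_ : IsOpenImmersion (Spec.map (CommRingCat.ofHom φ))),
      φ.Flat ∧ y ∈ Set.range (PrimeSpectrum.comap φ) ∧
        IsDualizingChart K (Spec.map (CommRingCat.ofHom φ) ≫ j) := by
  obtain ⟨_, ⟨f, rfl⟩, hyf, hf⟩ := PrimeSpectrum.isTopologicalBasis_basic_opens.exists_subset_of_mem_open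
    (u := j.base ⁻¹' Set.range j'.base) (a := y) hy (j'.isOpenEmbedding.isOpen_range.preimage j.base.hom.continuous)
  let A₁ := Localization.Away f
  let k₁ : Spec (CommRingCat.of A₁) ⟶ Spec (CommRingCat.of A) :=
    Spec.map (CommRingCat.ofHom (algebraMap A A₁))
  haveI : IsOpenImmersion k₁ := IsOpenImmersion.of_isLocalization f
  have hr : Set.range (k₁ ≫ j).base ⊆ Set.range j'.base := by
    rintro _ ⟨z, rfl⟩
    have hz : k₁.base z ∈ (PrimeSpectrum.basicOpen f : Set (PrimeSpectrum A)) := by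
      rw [← PrimeSpectrum.localization_away_comap_range A₁ f]
      exact ⟨z, rfl⟩
    exact hf hz
  let l := IsOpenImmersion.lift j' (k₁ ≫ j) hr
  have hl : l ≫ j' = k₁ ≫ j := IsOpenImmersion.lift_fac _ _ _
  haveI : IsOpenImmersion l := by
    haveI : IsOpenImmersion (l ≫ j') := hl ▸ inferInstance
    exact IsOpenImmersion.of_comp l j'
  obtain ⟨z, hz⟩ : ∃ z : PrimeSpectrum A₁, PrimeSpectrum.comap (algebraMap A A₁) z = y := by
    have : y ∈ Set.range (PrimeSpectrum.comap (algebraMap A A₁)) := by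
      rw [PrimeSpectrum.localization_away_comap_range A₁ f]
      exact hyf
    exact this
  obtain ⟨_, ⟨g, rfl⟩, hzg, hg⟩ := PrimeSpectrum.isTopologicalBasis_basic_opens.exists_subset_of_mem_open
    (a := (l.base z : PrimeSpectrum A')) (u := Set.range l.base) ⟨z, rfl⟩ l.isOpenEmbedding.isOpen_range
  let ψ : A' →+* A₁ := (Spec.preimage l).hom
  have hψ : Spec.map (CommRingCat.ofHom ψ) = l := by simp [ψ]
  let B := Localization.Away (ψ g)
  let k₂ : Spec (CommRingCat.of B) ⟶ Spec (CommRingCat.of A₁) :=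
    Spec.map (CommRingCat.ofHom (algebraMap A₁ B))
  haveI : IsOpenImmersion k₂ := IsOpenImmersion.of_isLocalization (ψ g)
  let B' := Localization.Away g
  let k' : Spec (CommRingCat.of B') ⟶ Spec (CommRingCat.of A') :=
    Spec.map (CommRingCat.ofHom (algebraMap A' B'))
  haveI : IsOpenImmersion k' := IsOpenImmersion.of_isLocalization g
  have hk2 : Set.range k₂.base = l.base ⁻¹' (PrimeSpectrum.basicOpen g : Set (PrimeSpectrum A')) := by
    refine (PrimeSpectrum.localization_away_comap_range B (ψ g)).trans ?_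
    rw [← hψ]
    rfl
  have hrange : Set.range k'.base = Set.range (k₂ ≫ l).base := by
    rw [show Set.range (k₂ ≫ l).base = l.base '' Set.range k₂.base by rw [← Set.range_comp]; rfl, hk2,
      Set.image_preimage_eq_of_subset hg]
    exact PrimeSpectrum.localization_away_comap_range B' g
  haveI : IsOpenImmersion (k₂ ≫ l) := inferInstance
  let e : Spec (CommRingCat.of B) ⟶ Spec (CommRingCat.of B') :=
    (IsOpenImmersion.isoOfRangeEq (k₂ ≫ l) k' hrange.symm).hom
  have he : e ≫ k' = k₂ ≫ l := IsOpenImmersion.isoOfRangeEq_hom_fac _ _ _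
  let θ : B' →+* B := (Spec.preimage e).hom
  have hθ : Spec.map (CommRingCat.ofHom θ) = e := by simp [θ]
  haveI : IsIso (Spec.map (CommRingCat.ofHom θ)) := by rw [hθ]; infer_instance
  have hθb : Function.Bijective θ := by
    haveI : IsIso (Scheme.Spec.map (CommRingCat.ofHom θ).op) := ‹IsIso (Spec.map (CommRingCat.ofHom θ))›
    haveI : IsIso (CommRingCat.ofHom θ).op := isIso_of_fully_faithful Scheme.Spec _
    haveI : IsIso (CommRingCat.ofHom θ) := isIso_of_op _
    exact ConcreteCategory.bijective_of_isIso (CommRingCat.ofHom θ)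
  have h1 : IsDualizingChart K (k' ≫ j') :=
    isDualizingChart_comp j' (algebraMap A' B')
      (RingHom.flat_algebraMap_iff.2 (IsLocalization.flat _ (Submonoid.powers g)))
      (fun n _ => map_comap_of_away g n) _ rfl hj'
  haveI : IsOpenImmersion (Spec.map (CommRingCat.ofHom ((algebraMap A₁ B).comp (algebraMap A A₁)))) := by
    rw [CommRingCat.ofHom_comp, Spec.map_comp]
    exact inferInstanceAs (IsOpenImmersion (k₂ ≫ k₁))
  refine ⟨B, inferInstance, (algebraMap A₁ B).comp (algebraMap A A₁), inferInstance, ?_, ?_, ?_⟩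
  · exact RingHom.Flat.comp (RingHom.flat_algebraMap_iff.2 (IsLocalization.flat _ (Submonoid.powers f)))
      (RingHom.flat_algebraMap_iff.2 (IsLocalization.flat _ (Submonoid.powers (ψ g))))
  · have : z ∈ Set.range (PrimeSpectrum.comap (algebraMap A₁ B)) := by
      rw [PrimeSpectrum.localization_away_comap_range B (ψ g)]
      show (PrimeSpectrum.comap ψ z) ∈ PrimeSpectrum.basicOpen g
      have : (Spec.map (CommRingCat.ofHom ψ)).base z = l.base z := by rw [hψ]
      exact (congrArg (fun p : PrimeSpectrum A' => p ∈ PrimeSpectrum.basicOpen g) this).mpr hzg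
    obtain ⟨w, hw⟩ := this
    exact ⟨w, by rw [PrimeSpectrum.comap_comp, Function.comp_apply, hw, hz]⟩
  · refine isDualizingChart_comp (k' ≫ j') θ (RingHom.Flat.of_bijective hθb) (fun n _ => ⟨n.comap θ,
      Ideal.map_comap_of_surjective θ hθb.2 n⟩) _ ?_ h1
    rw [hθ, ← Category.assoc, he, Category.assoc, hl, ← Category.assoc]
    congr 1
    rw [CommRingCat.ofHom_comp, Spec.map_comp]

variable [∀ (U : Scheme.{u}) (j : U ⟶ X) [IsOpenImmersion j], PreservesFiniteLimits (Scheme.Modules.restrictFunctor j)]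

omit [∀ (U : Scheme.{u}) (j : U ⟶ X) [IsOpenImmersion j], PreservesFiniteLimits (Scheme.Modules.restrictFunctor j)] in
theorem isQCohD_of_charts {K : DCoh.D X}
    (h : ∀ x : X, ∃ (A : Type u) (_ : CommRing A) (j : Spec (CommRingCat.of A) ⟶ X) (_ : IsOpenImmersion j),
      x ∈ Set.range j.base ∧ IsDualizingChart K j) : DCoh.IsQCohD K := fun i =>
  isQCoh_HD_of_local K i fun x => by
    obtain ⟨A, hA, j, hj, hx, w, -, ⟨e⟩⟩ := h x
    exact ⟨_, j, hj, hx, isQCohD_of_iso e.symm (isQCohD_tildeD (CommRingCat.of A) w) i⟩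

/-- Dualizing complexes are detected on an affine cover. -/
theorem isDualizingSch_of_charts [IsLocallyNoetherian X] {K : DCoh.D X}
    (h : ∀ x : X, ∃ (A : Type u) (_ : CommRing A) (j : Spec (CommRingCat.of A) ⟶ X) (_ : IsOpenImmersion j),
      x ∈ Set.range j.base ∧ IsDualizingChart K j) : Dual2.IsDualizingSch X K := by
  intro A _ j _
  obtain ⟨w, ⟨e⟩⟩ := exists_tildeD_iso (isQCohD_rho j (isQCohD_of_charts h))
  refine ⟨w, ?_, ⟨e.symm⟩⟩
  haveI : IsNoetherianRing A :=
    isLocallyNoetherian_Spec.1 (isLocallyNoetherian_of_isOpenImmersion j)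
  have key : ∀ y : PrimeSpectrum A, ∃ (B : Type u) (_ : CommRing B) (φ : A →+* B)
      (_ : IsOpenImmersion (Spec.map (CommRingCat.ofHom φ))),
      φ.Flat ∧ y ∈ Set.range (PrimeSpectrum.comap φ) ∧
        IsDualizingChart K (Spec.map (CommRingCat.ofHom φ) ≫ j) := fun y => by
    obtain ⟨A', _, j', _, hx, hj'⟩ := h (j.base y)
    exact exists_refinement j j' hj' y hx
  choose B hB φ hφ hflat hy hchart using key
  obtain ⟨t, ht⟩ := CompactSpace.elim_nhds_subcover (fun y => Set.range (PrimeSpectrum.comap (φ y)))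
    fun y => by
      haveI := hφ y
      exact (Spec.map (CommRingCat.ofHom (φ y))).isOpenEmbedding.isOpen_range.mem_nhds (hy y)
  letI : ∀ i : t, CommRing (B i.1) := fun i => hB i.1
  letI : ∀ i : t, Algebra A (B i.1) := fun i => (φ i.1).toAlgebra
  haveI : ∀ i : t, Module.Flat A (B i.1) := fun i => hflat i.1
  haveI : ∀ i : t, DTen.HasLBase (algebraMap A (B i.1)) := fun i => hasLBase _
  refine isDualizing_of_finite_family (B := fun i : t => B i.1) (fun m hm => ?_) fun i => ?_
  · have hmem : (⟨m, hm.isPrime⟩ : PrimeSpectrum A) ∈ (⊤ : Set (PrimeSpectrum A)) := trivial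
    rw [← ht] at hmem
    obtain ⟨y, hyt, q, hq⟩ := Set.mem_iUnion₂.1 hmem
    refine ⟨⟨y, hyt⟩, fun htop => q.isPrime.ne_top (top_le_iff.1 (htop ▸ Ideal.map_le_iff_le_comap.2 ?_))⟩
    exact le_of_eq (congrArg PrimeSpectrum.asIdeal hq).symm
  · haveI := hφ i.1
    haveI : DRing.HasLBaseChange (φ i.1) := H9Misc.DRingLBase.hasLBaseChange _
    haveI : DTen.HasLBase (φ i.1) := hasLBase _
    obtain ⟨v, hv, ⟨ev⟩⟩ := hchart i.1
    obtain ⟨e'⟩ := nonempty_rho_tildeD (φ i.1) w
    obtain ⟨c⟩ := nonempty_iso_of_tildeD (R := CommRingCat.of (B i.1))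
      (ev.symm ≪≫ (rhoComp (Spec.map (CommRingCat.ofHom (φ i.1))) j _ rfl K).symm ≪≫
        (rho _).mapIso e.symm ≪≫ e')
    obtain ⟨d⟩ := nonempty_LBaseChange_iso (φ i.1)
    exact isDualizing_of_iso (c ≪≫ d.app w) hv

end Groth.Agent.Dual349
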