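import Groth.Agent.Dual349.DualShift
import Groth.Agent.Dual349.DualizingLocal
import Groth.Agent.KFlatLib.Scheme.RHomBounded
import Groth.Agent.KFlatLib.Scheme.DualPerfect
import Groth.Agent.KFlatLib.Scheme.CohD
import Groth.Agent.DEqT.RHomExists
import Groth.Agent.SheafHomX.Smul
import Groth.Prelude.Def_KLin
import Mathlib.Algebra.Homology.DerivedCategory.Linear

/-!
# The homs between shifted dualizing complexes on an affine scheme
-/

set_option autoImplicit false
set_option linter.style.haveILetI false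
set_option backward.isDefEq.respectTransparency false

universe u

open CategoryTheory CategoryTheory.Limits AlgebraicGeometry

attribute [local instance] HasDerivedCategory.standard

namespace Groth.Agent.Dual349.SpecKey

open KFlatLib

section Scalars

variable {A : Type u} [CommRing A] {X : Scheme.{u}} [X.Over (Spec (CommRingCat.of A))]

theorem tensorBi_smul_id (M T : X.Modules) (a : A) :
    ((DCoh.tensorBi (X := X)).map (a • 𝟙 M)).app T = a • 𝟙 (((DCoh.tensorBi (X := X)).obj M).obj T) := by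
  rw [KLin.smul_id, KLin.smul_id]
  exact SheafHomX.ten_map_smulMod T M a

theorem tensorCx_smul_id (L K : CochainComplex X.Modules ℤ) (a : A) :
    ((DCoh.tensorCx (X := X)).map (a • 𝟙 L)).app K = a • 𝟙 (((DCoh.tensorCx (X := X)).obj L).obj K) := by
  ext n : 1
  refine HomologicalComplex.mapBifunctor.hom_ext (fun p q h => ?_)
  refine (HomologicalComplex.ι_mapBifunctorMap (a • 𝟙 L) (𝟙 K) (DCoh.tensorBi (X := X))
    (ComplexShape.up ℤ) p q n h).trans ?_
  rw [HomologicalComplex.id_f, CategoryTheory.Functor.map_id, Category.id_comp,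
    HomologicalComplex.smul_f_apply, HomologicalComplex.smul_f_apply, HomologicalComplex.id_f,
    HomologicalComplex.id_f, tensorBi_smul_id, Linear.smul_comp, Category.id_comp,
    Linear.comp_smul]
  exact congrArg (a • ·) (Category.comp_id _).symm

/-- `- ⊗^L P` is linear for K-flat `P`. -/
theorem linear_tensorL (P : CochainComplex X.Modules ℤ) (hP : DCoh.IsKFlat P) [DCoh.HasLTensorCx P] :
    Functor.Linear A (DCoh.LTensorCx P) := by
  let c := (DCoh.tensorCxQ P).totalLeftDerivedCounit DerivedCategory.Q (qisX X)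
  haveI := fun N => isIso_LTensorCx_counit_of_isKFlat_right P hP N
  rw [Functor.linear_iff]
  intro Z a
  let N := DerivedCategory.Q.objPreimage Z
  let e : DerivedCategory.Q.obj N ≅ Z := DerivedCategory.Q.objObjPreimageIso Z
  have h0 : (DCoh.LTensorCx P).map (a • 𝟙 (DerivedCategory.Q.obj N)) =
      a • 𝟙 ((DCoh.LTensorCx P).obj (DerivedCategory.Q.obj N)) := by
    rw [← cancel_mono (c.app N)]
    refine Eq.trans ?_ ((Linear.smul_comp _ _ _ _ _ _).trans (congrArg (a • ·) (Category.id_comp _))).symm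
    have hn : (DCoh.LTensorCx P).map (DerivedCategory.Q.map (a • 𝟙 N)) ≫ c.app N =
        c.app N ≫ DerivedCategory.Q.map (((DCoh.tensorCx (X := X)).map (a • 𝟙 N)).app P) :=
      c.naturality (a • 𝟙 N)
    rw [DerivedCategory.Q.map_smul, DerivedCategory.Q.map_id, tensorCx_smul_id,
      DerivedCategory.Q.map_smul, Linear.comp_smul] at hn
    exact hn.trans (congrArg (a • ·) ((congrArg (c.app N ≫ ·)
      (DerivedCategory.Q.map_id _)).trans (Category.comp_id _)))
  have hconj : a • 𝟙 Z = e.inv ≫ (a • 𝟙 _) ≫ e.hom := by simp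
  rw [hconj, Functor.map_comp, Functor.map_comp, h0]
  simp [← Functor.map_comp]

end Scalars

section Eval

variable {X : Scheme.{u}}

/-- The evaluation in the derived category. -/
noncomputable def evD (P : CochainComplex X.Modules ℤ) [DCoh.HasLTensorCx P] (I : CochainComplex X.Modules ℤ) :
    (DCoh.LTensorCx P).obj (DerivedCategory.Q.obj ((iHom P).obj I)) ⟶ DerivedCategory.Q.obj I :=
  ((DCoh.tensorCxQ P).totalLeftDerivedCounit DerivedCategory.Q (qisX X)).app _ ≫
    DerivedCategory.Q.map ((iHomAdj P).counit.app I)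

theorem bijective_evD (P : CochainComplex X.Modules ℤ) (hP : DCoh.IsKFlat P) [DCoh.HasLTensorCx P]
    (I : CochainComplex X.Modules ℤ) [I.IsKInjective] [∀ n, Injective (I.X n)] (Z : DCoh.D X) :
    Function.Bijective (fun a : Z ⟶ DerivedCategory.Q.obj ((iHom P).obj I) =>
      (DCoh.LTensorCx P).map a ≫ evD P I) := by
  let c := (DCoh.tensorCxQ P).totalLeftDerivedCounit DerivedCategory.Q (qisX X)
  haveI hc := fun N => isIso_LTensorCx_counit_of_isKFlat_right P hP N
  haveI := isKInjective_iHom hP I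
  have key : ∀ (N : CochainComplex X.Modules ℤ) (g : N ⟶ (iHom P).obj I),
      (DCoh.LTensorCx P).map (DerivedCategory.Q.map g) ≫ evD P I =
        c.app N ≫ DerivedCategory.Q.map (((iHomAdj P).homEquiv N I).symm g) := fun N g => by
    rw [show ((iHomAdj P).homEquiv N I).symm g = _ from (iHomAdj P).homEquiv_counit N I g,
      DerivedCategory.Q.map_comp, evD]
    exact ((Category.assoc _ _ _).symm.trans (congrArg (· ≫ _) (c.naturality g))).trans (Category.assoc _ _ _)
  obtain ⟨N, hN, ⟨e⟩⟩ := exists_kFlat_rep Z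
  suffices h : Function.Bijective (fun a : DerivedCategory.Q.obj N ⟶ DerivedCategory.Q.obj ((iHom P).obj I) =>
      (DCoh.LTensorCx P).map a ≫ evD P I) by
    refine ⟨fun z z' hz => (cancel_epi e.hom).1 (h.1 ?_), fun y => ?_⟩
    · simp only [Functor.map_comp, Category.assoc] at hz ⊢
      rw [hz]
    · obtain ⟨z, hz⟩ := h.2 ((DCoh.LTensorCx P).map e.hom ≫ y)
      refine ⟨e.inv ≫ z, ?_⟩
      simp only [Functor.map_comp, Category.assoc] at hz ⊢
      rw [hz, ← Functor.map_comp_assoc, e.inv_hom_id, CategoryTheory.Functor.map_id, Category.id_comp]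
  refine ⟨fun a a' h => ?_, fun y => ?_⟩
  · obtain ⟨g, rfl⟩ := exists_Q_map a
    obtain ⟨g', rfl⟩ := exists_Q_map a'
    simp only [key] at h
    obtain ⟨H⟩ := (Inner.nonempty_homotopy_iff (DCoh.tensorBi (X := X)) g g').2
      (homotopy_of_Q_map_eq _ _ ((cancel_epi (c.app N)).1 h))
    exact DerivedCategory.Q_map_eq_of_homotopy _ H
  · obtain ⟨b, hb⟩ := exists_Q_map (inv (c.app N) ≫ y)
    refine ⟨DerivedCategory.Q.map ((iHomAdj P).homEquiv N I b), ?_⟩
    simp only [key, Equiv.symm_apply_apply, hb, IsIso.hom_inv_id_assoc]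

end Eval

/-- The scalar action on the affine scheme. -/
theorem linear_tilde (A : Type u) [CommRing A] :
    letI : (Spec (CommRingCat.of A)).Over (Spec (CommRingCat.of A)) := ⟨𝟙 _⟩
    Functor.Linear A (tilde.functor (CommRingCat.of A)) := by
  letI : (Spec (CommRingCat.of A)).Over (Spec (CommRingCat.of A)) := ⟨𝟙 _⟩
  rw [Functor.linear_iff]
  intro M r
  refine ((tilde.adjunction (R := CommRingCat.of A)).homEquiv M _).injective ?_
  rw [Adjunction.homEquiv_unit, Adjunction.homEquiv_unit]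
  refine ModuleCat.hom_ext (LinearMap.ext fun m => ?_)
  refine (ConcreteCategory.congr_hom (tilde.toOpen_map_app (r • 𝟙 M) ⊤) m).trans ?_
  show tilde.toOpen M ⊤ (r • m) = (r • 𝟙 ((tilde.functor (CommRingCat.of A)).obj M)).app ⊤ (tilde.toOpen M ⊤ m)
  rw [map_smul]
  refine Eq.trans ?_ (KLin.smul_app_apply r (𝟙 ((tilde.functor (CommRingCat.of A)).obj M)) ⊤ (tilde.toOpen M ⊤ m)).symm
  exact Scheme.Modules.smul_Spec_def (M := (tilde.functor (CommRingCat.of A)).obj M) (U := ⊤) r (tilde.toOpen M ⊤ m)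

section Abstract

variable {A : Type u} [CommRing A] {D E : Type*} [Category D] [Category E] [Preadditive D] [Preadditive E]
  [Linear A D] [Linear A E] (T : D ⥤ E) [T.Additive] [T.Linear A]
  (L : E ⥤ E) [L.Additive] [L.Linear A] {Hd J : E} (ev : L.obj Hd ⟶ J) {h : D} (eh : T.obj h ≅ Hd)

include eh

theorem bijective_transfer (hT : ∀ X Y : D, Function.Bijective (T.map : (X ⟶ Y) → _))
    (hev : ∀ Z : E, Function.Bijective fun a : Z ⟶ Hd => L.map a ≫ ev) {P P' Q : D}
    (e₁ : L.obj (T.obj P) ≅ T.obj P') (e₂ : J ≅ T.obj Q) :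
    Nonempty ((P ⟶ h) ≃ₗ[A] (P' ⟶ Q)) := by
  let m : (P ⟶ h) →ₗ[A] (L.obj (T.obj P) ⟶ J) :=
    (Linear.rightComp A _ (L.map eh.hom ≫ ev)) ∘ₗ (L.mapLinearMap A) ∘ₗ (T.mapLinearMap A)
  have hm : Function.Bijective m := by
    have h2 := (hev (T.obj P)).comp (eh.homToEquiv.bijective.comp (hT P h))
    refine (iff_of_eq (congrArg Function.Bijective (funext fun x => ?_))).1 h2
    show L.map (T.map x ≫ eh.hom) ≫ ev = L.map (T.map x) ≫ L.map eh.hom ≫ ev
    rw [Functor.map_comp, Category.assoc]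
  exact ⟨((LinearEquiv.ofBijective m hm).trans (Linear.homCongr A e₁ e₂)).trans
    (LinearEquiv.ofBijective (T.mapLinearMap A) (hT P' Q)).symm⟩

theorem isIso_ev (hT : ∀ X Y : D, Function.Bijective (T.map : (X ⟶ Y) → _))
    (hev : ∀ Z : E, Function.Bijective fun a : Z ⟶ Hd => L.map a ≫ ev) {P Q : D}
    (e₁ : L.obj (T.obj P) ≅ T.obj Q) (e₂ : J ≅ T.obj Q) (s : P ≅ h)
    (hA : ∀ y : P ⟶ P, ∃ a : A, y = a • 𝟙 P) : IsIso ev := by
  obtain ⟨z, hz⟩ := (hev (T.obj P)).2 (e₁.hom ≫ e₂.inv)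
  obtain ⟨x, hx⟩ := (hT P h).2 (z ≫ eh.inv)
  obtain ⟨a, ha⟩ := hA (x ≫ s.inv)
  have hx' : x = a • s.hom := by
    rw [← cancel_mono s.inv, ha, Linear.smul_comp, Iso.hom_inv_id]
  have hz' : z = a • (T.map s.hom ≫ eh.hom) := by
    rw [← cancel_mono eh.inv, ← hx, hx', Functor.map_smul, Linear.smul_comp, Category.assoc, Iso.hom_inv_id,
      Category.comp_id]
  simp only [hz', Functor.map_smul, Linear.smul_comp, Functor.map_comp, Category.assoc] at hz
  haveI : IsIso (L.map (T.map s.hom) ≫ L.map eh.hom ≫ ev) := by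
    refine ⟨a • (e₂.hom ≫ e₁.inv), ?_, ?_⟩
    · rw [Linear.comp_smul, ← Linear.smul_comp, hz]
      simp
    · rw [Linear.smul_comp, ← Linear.comp_smul, hz]
      simp
  haveI := IsIso.of_isIso_comp_left (L.map (T.map s.hom)) (L.map eh.hom ≫ ev)
  exact IsIso.of_isIso_comp_left (L.map eh.hom) _

end Abstract

variable {A : Type u} [CommRing A] [IsNoetherianRing A] [∀ (R : CommRingCat.{u}), PreservesFiniteLimits (tilde.functor R)]

theorem additive_tensorL {X : Scheme.{u}} (P : CochainComplex X.Modules ℤ) [DCoh.HasLTensorCx P]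
    [DCoh.HasRSheafHom P] : (DCoh.LTensorCx P).Additive := by
  haveI : HasBinaryBiproducts (DCoh.D X) := HasBinaryBiproducts.of_hasBinaryProducts
  haveI := (DCoh.RSheafHomAdj P).leftAdjoint_preservesColimits.{0, 0}
  haveI := preservesBinaryBiproducts_of_preservesBinaryCoproducts (DCoh.LTensorCx P)
  exact Functor.additive_of_preservesBinaryBiproducts _

theorem nonempty_tensor_unit_shift {ω : Dual.D A} (P : CochainComplex (Spec (CommRingCat.of A)).Modules ℤ)
    (hP : DCoh.IsKFlat P) [DCoh.HasLTensorCx P]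
    (eP : (DCoh.tildeD (CommRingCat.of A)).obj ω ≅ DerivedCategory.Q.obj P) (k : ℤ) :
    Nonempty ((DCoh.LTensorCx P).obj ((DCoh.tildeD (CommRingCat.of A)).obj ((Dual.inD A A)⟦k⟧)) ≅
      (DCoh.tildeD (CommRingCat.of A)).obj (ω⟦k⟧)) := by
  haveI : (tilde.functor (CommRingCat.of A)).Additive := tilde_additive _
  haveI : PreservesFiniteColimits (tilde.functor (CommRingCat.of A)) := QCoh.tilde_preservesFiniteColimits
  let T := DCoh.tildeD (CommRingCat.of A)
  let S := Spec (CommRingCat.of A)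
  let c := (DCoh.tensorCxQ P).totalLeftDerivedCounit DerivedCategory.Q (qisX S)
  haveI hc := fun N => isIso_LTensorCx_counit_of_isKFlat_right P hP N
  let S₀ := (HomologicalComplex.single S.Modules (ComplexShape.up ℤ) 0).obj (Coh.structureModule S)
  obtain ⟨er⟩ := nonempty_tensorUnitIso P
  let eA : T.obj (Dual.inD A A) ≅ DCoh.inD S (Coh.structureModule S) :=
    ((tilde.functor (CommRingCat.of A)).mapDerivedCategorySingleFunctor 0).app _ ≪≫
      (DerivedCategory.singleFunctor S.Modules 0).mapIso tildeSelf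
  let e1 : T.obj ((Dual.inD A A)⟦k⟧) ≅ DerivedCategory.Q.obj (S₀⟦k⟧) :=
    (T.commShiftIso k).app _ ≪≫ (shiftFunctor _ k).mapIso
      (eA ≪≫ (DerivedCategory.singleFunctorIsoCompQ S.Modules 0).app _) ≪≫
        ((DerivedCategory.Q.commShiftIso k).app S₀).symm
  let e2 : (DCoh.LTensorCx P).obj (DerivedCategory.Q.obj (S₀⟦k⟧)) ≅ (DerivedCategory.Q.obj P)⟦k⟧ :=
    asIso (c.app (S₀⟦k⟧)) ≪≫
      DerivedCategory.Q.mapIso (CochainComplex.mapBifunctorShift₁Iso S₀ P (DCoh.tensorBi (X := S)) k ≪≫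
        (shiftFunctor _ k).mapIso ((symmIso (tensorBiFlipIso S) P).app S₀ ≪≫ er)) ≪≫
      (DerivedCategory.Q.commShiftIso k).app P
  exact ⟨(DCoh.LTensorCx P).mapIso e1 ≪≫ e2 ≪≫ (shiftFunctor _ k).mapIso eP.symm ≪≫
    ((T.commShiftIso k).app ω).symm⟩

theorem end_inD (y : Dual.inD A A ⟶ Dual.inD A A) : ∃ a : A, y = a • 𝟙 _ := by
  obtain ⟨g, rfl⟩ := (DerivedCategory.singleFunctor (ModuleCat.{u} A) 0).map_surjective y
  refine ⟨g.hom (1 : A), ?_⟩
  have hg : g = g.hom (1 : A) • 𝟙 (ModuleCat.of A A) :=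
    ModuleCat.hom_ext (LinearMap.ext_ring (by show g.hom (1 : A) = g.hom (1 : A) * (1 : A); rw [mul_one]))
  conv_lhs => rw [hg]
  rw [Functor.map_smul, CategoryTheory.Functor.map_id]

set_option maxHeartbeats 1000000 in
/-- On an affine scheme the homs between a dualizing complex and its shift are a shift of the structure
sheaf, and the evaluation is an isomorphism. -/
theorem quasiIso_counit_and_iso {ω : Dual.D A} (hω : Dual.IsDualizing A ω) (n : ℤ)
    (P : CochainComplex (Spec (CommRingCat.of A)).Modules ℤ) (hP : DCoh.IsKFlat P)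
    (J : CochainComplex (Spec (CommRingCat.of A)).Modules ℤ) [J.IsKInjective] [∀ i, Injective (J.X i)]
    (eP : (DCoh.tildeD (CommRingCat.of A)).obj ω ≅ DerivedCategory.Q.obj P)
    (eJ : DerivedCategory.Q.obj J ≅ (DerivedCategory.Q.obj P)⟦n⟧) :
    QuasiIso ((iHomAdj P).counit.app J) ∧
      Nonempty (DerivedCategory.Q.obj ((iHom P).obj J) ≅
        (DCoh.inD (Spec (CommRingCat.of A)) (Coh.structureModule (Spec (CommRingCat.of A))))⟦n⟧) := by
  letI : (Spec (CommRingCat.of A)).Over (Spec (CommRingCat.of A)) := ⟨𝟙 _⟩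
  haveI : (tilde.functor (CommRingCat.of A)).Additive := tilde_additive _
  haveI : PreservesFiniteColimits (tilde.functor (CommRingCat.of A)) := QCoh.tilde_preservesFiniteColimits
  haveI := linear_tilde A
  haveI : IsLocallyNoetherian (Spec (CommRingCat.of A)) := inferInstance
  let S := Spec (CommRingCat.of A)
  let T := DCoh.tildeD (CommRingCat.of A)
  haveI := hasLTensorCx P
  haveI := DEqT.hasRSheafHom_of_isKFlat P hP
  haveI := linear_tensorL (A := A) P hP
  haveI := additive_tensorL P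
  let L := DCoh.LTensorCx P
  let c := (DCoh.tensorCxQ P).totalLeftDerivedCounit DerivedCategory.Q (qisX S)
  haveI hc := fun N => isIso_LTensorCx_counit_of_isKFlat_right P hP N
  obtain ⟨a, b, -, _, _⟩ := KFlatLib.exists_bounds_of_isDualizing hω
  have hHD : ∀ i, DCoh.HD (T.obj ω) i ≅
      (tilde.functor (CommRingCat.of A)).obj ((DerivedCategory.homologyFunctor (ModuleCat.{u} A) i).obj ω) :=
    fun i => (mapDCHomologyIso (tilde.functor (CommRingCat.of A)) i).app ω
  haveI : (T.obj ω).IsGE a := (DerivedCategory.isGE_iff _ a).2 fun i hi =>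
    (Functor.map_isZero _ (DerivedCategory.isZero_of_isGE ω a i hi)).of_iso (hHD i)
  have hTq : DCoh.IsQCohD (T.obj ω) := isQCohD_tildeD (CommRingCat.of A) ω
  have hTc : ∀ i, Coh.IsCoh (DCoh.HD (T.obj ω) i) := fun i =>
    isCoh_of_iso (hHD i).symm ((isCoh_tilde_iff _).2 (hω.finite_cohomology i))
  have hTb : ∀ i, b < i → IsZero (DCoh.HD (T.obj ω) i) := fun i hi =>
    (Functor.map_isZero _ (DerivedCategory.isZero_of_isLE ω b i hi)).of_iso (hHD i)
  have hpc : ∀ m : ℤ, DCoh.IsPseudoCoherentD m (DCoh.toD S P) := fun m =>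
    (isPseudoCoherentD_iff _ _).2 ((locPC_of_coh hTq (fun i _ => hTc i) b hTb).of_iso eP)
  let eJ' : DerivedCategory.Q.obj J ≅ T.obj (ω⟦n⟧) :=
    eJ ≪≫ (shiftFunctor _ n).mapIso eP.symm ≪≫ ((T.commShiftIso n).app ω).symm
  have hJq : DCoh.IsQCohD (DerivedCategory.Q.obj J) := isQCohD_of_iso eJ'.symm (isQCohD_tildeD (CommRingCat.of A) _)
  haveI : (DerivedCategory.Q.obj J).IsGE (a - n) := by
    haveI : ((T.obj ω)⟦n⟧).IsGE (a - n) := DerivedCategory.TStructure.t.isGE_shift (T.obj ω) a n (a - n) (by omega)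
    exact DerivedCategory.TStructure.t.isGE_of_iso
      (X := (T.obj ω)⟦n⟧) (eJ ≪≫ (shiftFunctor _ n).mapIso eP.symm).symm (a - n)
  obtain ⟨eR⟩ := nonempty_RSheafHom_iso_of_isKFlat P hP J
  obtain ⟨h, ⟨eh⟩⟩ := exists_tildeD_iso
    (isQCohD_of_iso eR (isQCohD_RSheafHom_of_pseudoCoherent P hpc _ hJq (a - n)))
  let A₀ : Dual.D A := Dual.inD A A
  have hT : ∀ X Y, Function.Bijective (T.map : (X ⟶ Y) → _) := fun X Y => tildeD_map_bijective X Y
  have hev : ∀ Z, Function.Bijective fun a : Z ⟶ DerivedCategory.Q.obj ((iHom P).obj J) =>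
      L.map a ≫ evD P J := bijective_evD P hP J
  have LT : ∀ k : ℤ, L.obj (T.obj (A₀⟦k⟧)) ≅ T.obj (ω⟦k⟧) := fun k =>
    (nonempty_tensor_unit_shift P hP eP k).some
  have eψ : ∀ k, (A₀⟦k⟧ ⟶ h) ≃ₗ[A] (ω⟦k⟧ ⟶ ω⟦n⟧) := fun k =>
    (bijective_transfer T L (evD P J) eh hT hev (LT k) eJ').some
  let hom0 : ∀ i : ℤ, (A₀ ⟶ h⟦i⟧) ≃ₗ[A] (A₀⟦-i⟧ ⟶ h) := fun i =>
    (DualityLC.shiftMapEquiv A₀ (h⟦i⟧) (-i)).trans
      (Linear.homCongr A (Iso.refl _) ((shiftFunctorCompIsoId (Dual.D A) i (-i) (by omega)).app h))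
  have hωn := KFlatLib.isDualizing_shift hω n
  let c0 : A →ₗ[A] (ω⟦n⟧ ⟶ ω⟦n⟧) :=
    { toFun := fun a => a • 𝟙 (ω⟦n⟧)
      map_add' := fun a b => add_smul a b _
      map_smul' := fun a b => mul_smul a b _ }
  let cn : A ≃ₗ[A] (ω⟦n⟧ ⟶ ω⟦n⟧) := LinearEquiv.ofBijective c0 hωn.toEnd_bijective
  obtain ⟨eA0⟩ := KFlatLib.exists_homRingLEquiv h (-n)
  let hn : (A₀ ⟶ h⟦-n⟧) ≃ₗ[A] A :=
    ((hom0 (-n)).trans (Linear.homCongr A (eqToIso (by rw [neg_neg])) (Iso.refl h))).trans
      ((eψ n).trans cn.symm)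
  obtain ⟨s⟩ := DualityLC.exists_iso_inD_of_concentrated h (-n) A (fun j hj => by
    obtain ⟨ej⟩ := KFlatLib.exists_homRingLEquiv h j
    haveI := hω.ext_self_subsingleton (n - -j) (by omega)
    haveI : Subsingleton (A₀⟦-j⟧ ⟶ h) :=
      (((eψ (-j)).trans (DualityLC.shiftHomSubEquiv ω ω (-j) n))).toEquiv.subsingleton
    exact (ej.symm.trans (hom0 j)).toEquiv.subsingleton) (eA0.symm.trans hn)
  let s' : A₀⟦n⟧ ≅ h := (shiftFunctor _ n).mapIso s.symm ≪≫ (shiftFunctorCompIsoId (Dual.D A) (-n) n (by omega)).app h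
  haveI : IsIso (evD P J) := isIso_ev T L (evD P J) eh hT hev (LT n) eJ' s' fun y => by
    obtain ⟨y, rfl⟩ := (shiftFunctor (Dual.D A) n).map_surjective y
    obtain ⟨a, rfl⟩ := end_inD y
    exact ⟨a, by rw [Functor.map_smul, CategoryTheory.Functor.map_id]⟩
  refine ⟨?_, ⟨eh.symm ≪≫ T.mapIso s'.symm ≪≫ (T.commShiftIso n).app A₀ ≪≫ (shiftFunctor _ n).mapIso
    (((tilde.functor (CommRingCat.of A)).mapDerivedCategorySingleFunctor 0).app _ ≪≫
      (DerivedCategory.singleFunctor S.Modules 0).mapIso tildeSelf)⟩⟩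
  rw [← DerivedCategory.isIso_Q_map_iff_quasiIso (C := S.Modules)]
  haveI : IsIso (c.app ((iHom P).obj J) ≫ DerivedCategory.Q.map ((iHomAdj P).counit.app J)) :=
    (inferInstance : IsIso (evD P J))
  exact IsIso.of_isIso_comp_left (c.app ((iHom P).obj J)) _

end Groth.Agent.Dual349.SpecKey
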