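import Groth.Agent.Dual349.InnerRestrict
import Groth.Agent.Dual349.SpecKey
import Groth.Agent.Dual349.GorInvertible
import Groth.Prelude.Def_Dual3

/-!
# Dualizing complexes on a scheme agree up to an invertible object
-/

set_option autoImplicit false
set_option linter.style.haveILetI false
set_option backward.isDefEq.respectTransparency false

universe u

open CategoryTheory CategoryTheory.Limits AlgebraicGeometry

attribute [local instance] HasDerivedCategory.standard

namespace Groth.Agent.Dual349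

open KFlatLib

variable {X : Scheme.{u}}

/-- A map of complexes which is a quasi-isomorphism on a cover by opens is one. -/
theorem quasiIso_of_local {M N : CochainComplex X.Modules ℤ} (g : M ⟶ N)
    (h : ∀ x : X, ∃ (U : X.Opens), x ∈ U ∧ QuasiIso ((rCx U.ι).map g)) : QuasiIso g := by
  rw [← DerivedCategory.isIso_Q_map_iff_quasiIso (C := X.Modules), DerivedCategory.isIso_iff]
  intro i
  refine H23.ModLoc.isIso_of_locally _ fun x => ?_
  obtain ⟨U, hx, hq⟩ := h x
  refine ⟨U, hx, ?_⟩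
  haveI : IsIso (DerivedCategory.Q.map ((rCx U.ι).map g)) :=
    (DerivedCategory.isIso_Q_map_iff_quasiIso (C := (U : Scheme.{u}).Modules) _).2 hq
  haveI : IsIso ((rho U.ι).map (DerivedCategory.Q.map g)) :=
    (NatIso.isIso_map_iff (rhoQ U.ι) g).2 (inferInstanceAs (IsIso (DerivedCategory.Q.map ((rCx U.ι).map g))))
  exact (NatIso.isIso_map_iff (mapDCHomologyIso (Scheme.Modules.restrictFunctor U.ι) i) (DerivedCategory.Q.map g)).1
    (inferInstanceAs (IsIso ((DerivedCategory.homologyFunctor (U : Scheme.{u}).Modules i).map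
      ((rho U.ι).map (DerivedCategory.Q.map g)))))

variable [∀ (U : Scheme.{u}) (j : U ⟶ X) [IsOpenImmersion j], PreservesFiniteLimits (Scheme.Modules.restrictFunctor j)]
  [∀ (R : CommRingCat.{u}), PreservesFiniteLimits (tilde.functor R)]

set_option maxHeartbeats 1000000 in
/-- Near a point of a chart the homs between two dualizing complexes are an invertible object. -/
theorem exists_local_hom_invertible {A : Type u} [CommRing A] [IsNoetherianRing A]
    (j : Spec (CommRingCat.of A) ⟶ X) [IsOpenImmersion j] {K K' : DCoh.D X}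
    (hK : IsDualizingChart K j) (hK' : IsDualizingChart K' j)
    (P I : CochainComplex X.Modules ℤ) (hP : DCoh.IsKFlat P) [I.IsKInjective] [∀ n, Injective (I.X n)]
    (eK : DerivedCategory.Q.obj P ≅ K) (eI : K' ≅ DerivedCategory.Q.obj I) (y : PrimeSpectrum A) :
    ∃ (B : Type u) (_ : CommRing B) (k : Spec (CommRingCat.of B) ⟶ X) (_ : IsOpenImmersion k) (n : ℤ),
      j.base y ∈ Set.range k.base ∧ QuasiIso ((rCx k).map ((iHomAdj P).counit.app I)) ∧
        Nonempty ((rho k).obj (DerivedCategory.Q.obj ((iHom P).obj I)) ≅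
          (DCoh.inD (Spec (CommRingCat.of B)) (Coh.structureModule (Spec (CommRingCat.of B))))⟦n⟧) := by
  obtain ⟨ω, hω, ⟨e⟩⟩ := hK
  obtain ⟨ω', hω', ⟨e'⟩⟩ := hK'
  obtain ⟨f, hyf, hf⟩ := exists_shift_iso_near hω hω' y
  let B := Localization.Away f
  let φ := algebraMap A B
  let k₁ : Spec (CommRingCat.of B) ⟶ Spec (CommRingCat.of A) := Spec.map (CommRingCat.ofHom φ)
  haveI : IsOpenImmersion k₁ := IsOpenImmersion.of_isLocalization f
  haveI : IsOpenImmersion (Spec.map (CommRingCat.ofHom φ)) := IsOpenImmersion.of_isLocalization f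
  haveI : Module.Flat A B := IsLocalization.flat _ (Submonoid.powers f)
  haveI : IsNoetherianRing B := IsLocalization.isNoetherianRing (Submonoid.powers f) _ inferInstance
  haveI : DRing.HasLBaseChange φ := H9Misc.DRingLBase.hasLBaseChange _
  haveI : DTen.HasLBase φ := hasLBase _
  obtain ⟨n, ⟨s⟩⟩ := hf
  have hωB : Dual.IsDualizing B ((DTen.LBase φ).obj ω) :=
    KFlatLib.isDualizing_LBase hω fun m _ => map_comap_of_away f m
  obtain ⟨eb⟩ := nonempty_LBaseChange_iso φ
  obtain ⟨et⟩ := nonempty_rho_tildeD φ ω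
  obtain ⟨et'⟩ := nonempty_rho_tildeD φ ω'
  let k := k₁ ≫ j
  let T := DCoh.tildeD (CommRingCat.of B)
  haveI : (tilde.functor (CommRingCat.of B)).Additive := tilde_additive _
  let cK : (rho k).obj K ≅ T.obj ((DTen.LBase φ).obj ω) :=
    (rhoComp k₁ j k rfl K).symm ≪≫ (rho k₁).mapIso e ≪≫ et ≪≫ T.mapIso (eb.app ω)
  let cK' : (rho k).obj K' ≅ T.obj (((DTen.LBase φ).obj ω)⟦n⟧) :=
    (rhoComp k₁ j k rfl K').symm ≪≫ (rho k₁).mapIso e' ≪≫ et' ≪≫ T.mapIso (eb.app ω' ≪≫ s)
  let eP : T.obj ((DTen.LBase φ).obj ω) ≅ DerivedCategory.Q.obj ((rCx k).obj P) :=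
    cK.symm ≪≫ (rho k).mapIso eK.symm ≪≫ (rhoQ k).app P
  let eJ : DerivedCategory.Q.obj ((rCx k).obj I) ≅ (DerivedCategory.Q.obj ((rCx k).obj P))⟦n⟧ :=
    ((rhoQ k).app I).symm ≪≫ (rho k).mapIso eI.symm ≪≫ cK' ≪≫ (T.commShiftIso n).app _ ≪≫
      (shiftFunctor _ n).mapIso eP
  haveI := isKInjective_rCx k I
  haveI := fun i => injective_rCx k I i
  obtain ⟨hq, ⟨c⟩⟩ := SpecKey.quasiIso_counit_and_iso hωB n ((rCx k).obj P) (isKFlat_restrict k hP)
    ((rCx k).obj I) eP eJ
  haveI := isIso_innerRes k P I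
  refine ⟨B, inferInstance, k, inferInstance, n, ?_, (quasiIso_rCx_counit_iff k P I).2 hq,
    ⟨(rhoQ k).app _ ≪≫ DerivedCategory.Q.mapIso (asIso (innerRes k P I)) ≪≫ c⟩⟩
  have hy : y ∈ Set.range (PrimeSpectrum.comap φ) := by
    rw [PrimeSpectrum.localization_away_comap_range B f]
    exact hyf
  obtain ⟨z, hz⟩ := hy
  exact ⟨z, congrArg (fun t => j.base t) hz⟩

set_option maxHeartbeats 1000000 in
/-- Dualizing complexes agree up to tensoring with an invertible object. -/
theorem exists_invertible_twist [IsLocallyNoetherian X] {K K' : DCoh.D X}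
    (hK : Dual2.IsDualizingSch X K) (hK' : Dual2.IsDualizingSch X K') :
    ∃ (E : CochainComplex X.Modules ℤ) (hL : DCoh.HasLTensorCx E),
      Dual3.IsInvertibleD (DCoh.toD X E) ∧ Nonempty (K' ≅ (DCoh.LTensorCx E).obj K) := by
  obtain ⟨P, hP, ⟨eK⟩⟩ := exists_kFlat_rep K
  obtain ⟨I, hI, hinj, ⟨eI⟩⟩ := exists_kInjective_rep K'
  haveI := hI
  haveI := hinj
  let H := (iHom P).obj I
  haveI := hasLTensorCx H
  have loc : ∀ x : X, ∃ (U : X.Opens) (n : ℤ), x ∈ U ∧ QuasiIso ((rCx U.ι).map ((iHomAdj P).counit.app I)) ∧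
      Nonempty ((rho U.ι).obj (DerivedCategory.Q.obj H) ≅
        (DCoh.inD (U : Scheme.{u}) (Coh.structureModule (U : Scheme.{u})))⟦n⟧) := fun x => by
    obtain ⟨R, hR, j, hj, y, rfl⟩ := KFlatLib.exists_chart x
    haveI := hR
    haveI := hj
    obtain ⟨B, _, k, _, n, hk, hq, ⟨c⟩⟩ :=
      exists_local_hom_invertible (A := R) j (hK R j) (hK' R j) P I hP eK eI y
    refine ⟨k.opensRange, n, hk, ?_, ⟨?_⟩⟩
    · let r := rangeHom k
      haveI := hq
      let en : rCx k ⋙ rCx r ≅ rCx k.opensRange.ι :=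
        Functor.mapHomologicalComplexCompIso
          ((Scheme.Modules.restrictFunctorComp r k).symm ≪≫ Scheme.Modules.restrictFunctorCongr (rangeHom_fac k))
          (ComplexShape.up ℤ)
      exact (quasiIso_iff_of_arrow_mk_iso ((rCx r).map ((rCx k).map ((iHomAdj P).counit.app I))) _
        (((Functor.mapArrowFunctor _ _).mapIso en).app (Arrow.mk ((iHomAdj P).counit.app I)))).1 inferInstance
    · exact (rhoComp (rangeHom k) k _ (rangeHom_fac k) _).symm ≪≫
        (rho (rangeHom k)).mapIso c ≪≫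
          ((rho (rangeHom k)).commShiftIso n).app _ ≪≫
            (shiftFunctor _ n).mapIso
              (((Scheme.Modules.restrictFunctor (rangeHom k)).mapDerivedCategorySingleFunctor 0).app _ ≪≫
                (DerivedCategory.singleFunctor _ 0).mapIso (restrictStructureIso (rangeHom k)))
  haveI : IsIso (DerivedCategory.Q.map ((iHomAdj P).counit.app I)) :=
    (DerivedCategory.isIso_Q_map_iff_quasiIso (C := X.Modules) _).2
      (quasiIso_of_local _ fun x => by
        obtain ⟨U, n, hx, hq, -⟩ := loc x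
        exact ⟨U, hx, hq⟩)
  haveI := isIso_LTensorCx_counit H hP
  refine ⟨H, inferInstance, fun x => ?_, ⟨?_⟩⟩
  · obtain ⟨U, n, hx, -, c⟩ := loc x
    exact ⟨U, n, hx, c⟩
  · exact eI ≪≫ (asIso (DerivedCategory.Q.map ((iHomAdj P).counit.app I))).symm ≪≫
      DerivedCategory.Q.mapIso ((symmIso (tensorBiFlipIso X) P).app H) ≪≫
      (asIso (((DCoh.tensorCxQ H).totalLeftDerivedCounit DerivedCategory.Q (qisX X)).app P)).symm ≪≫
      (DCoh.LTensorCx H).mapIso eK

end Groth.Agent.Dual349
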