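import Groth.Agent.Dual349.DualizingStalks
import Groth.Agent.DualityLC.DualModuleSupp
import Groth.Agent.DualityLC.GorShift

/-!
# The dualizing sheaf: `(S₂)` and torsion-freeness
-/

set_option autoImplicit false
set_option linter.style.haveILetI false
set_option backward.isDefEq.respectTransparency false
set_option backward.isDefEq.respectTransparency.types false

universe u

open CategoryTheory CategoryTheory.Limits AlgebraicGeometry IsLocalRing RingTheory.Sequence
open scoped Pointwise

attribute [local instance] HasDerivedCategory.standard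

namespace Groth.Agent.Dual349

open KFlatLib

theorem hasSk_congr {R : Type u} [CommRing R] [IsNoetherianRing R] {M N : Type u} [AddCommGroup M] [Module R M]
    [AddCommGroup N] [Module R N] [Module.Finite R M] (k : ℕ) (e : M ≃ₗ[R] N) (h : LocCoh.HasSk k R M) : LocCoh.HasSk k R N := by
  intro p _
  haveI : IsNoetherianRing (Localization.AtPrime p) := IsLocalization.isNoetherianRing p.primeCompl _ inferInstance
  haveI : Module.Finite (Localization.AtPrime p) (LocalizedModule p.primeCompl M) :=
    Module.Finite.of_isLocalizedModule p.primeCompl (LocalizedModule.mkLinearMap _ M)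
  let e' : LocalizedModule p.primeCompl M ≃ₗ[Localization.AtPrime p] LocalizedModule p.primeCompl N :=
    IsLocalizedModule.mapEquiv p.primeCompl (LocalizedModule.mkLinearMap p.primeCompl M)
      (LocalizedModule.mkLinearMap p.primeCompl N) (Localization.AtPrime p) e
  haveI : Module.Finite (Localization.AtPrime p) (LocalizedModule p.primeCompl N) := Module.Finite.equiv e'
  rw [← Module.supportDim_eq_of_equiv e']
  refine le_trans (h p) (le_of_eq ?_)
  rw [show LocCoh.depth (Localization.AtPrime p) (LocalizedModule p.primeCompl M) =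
    LocCoh.depth (Localization.AtPrime p) (LocalizedModule p.primeCompl N) from LC.idealDepth_congr _ e']

theorem hasSk_of_subsingleton {R : Type u} [CommRing R] (M : Type u) [AddCommGroup M] [Module R M] (k : ℕ)
    [Subsingleton M] : LocCoh.HasSk k R M := by
  intro p _
  haveI : Subsingleton (LocalizedModule p.primeCompl M) :=
    LocalizedModule.subsingleton_iff.2 fun x => ⟨1, one_mem _, Subsingleton.elim _ _⟩
  rw [(Module.supportDim_eq_bot_iff_subsingleton (Localization.AtPrime p) _).2 ‹_›]
  exact (min_le_right _ _).trans bot_le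

section Local

variable {A : Type u} [CommRing A] [IsNoetherianRing A] [IsLocalRing A] {ω : Dual.D A}

/-- The bottom cohomology of a normalized dualizing complex sits in minus the dimension. -/
theorem eq_bottom_degree (hω : Dual.IsDualizing A ω) (hN : Dual.IsNormalized A ω) (d : ℕ) (hd : ringKrullDim A = d)
    (i : ℤ) (hlt : ∀ j < i, Subsingleton (Dual.HD A ω j)) (hi : Nontrivial (Dual.HD A ω i)) : i = -(d : ℤ) := by
  have h1 : ∀ j : ℤ, Nontrivial (Dual.HD A ω j) → -(d : ℤ) ≤ j := fun j hj => by
    obtain ⟨e⟩ := exists_homRingLEquiv ω j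
    exact ((ext_amplitude_and_support hω hN A d
      (by rw [Module.supportDim_self_eq_ringKrullDim]; exact hd) j).1 e.toEquiv.nontrivial).1
  have h2 : Nontrivial (Dual.HD A ω (-(d : ℤ))) := by
    obtain ⟨e⟩ := exists_homRingLEquiv ω (-(d : ℤ))
    haveI := nontrivial_ext_neg_supportDim hω hN A d (by rw [Module.supportDim_self_eq_ringKrullDim]; exact hd)
    exact e.toEquiv.symm.nontrivial
  refine le_antisymm ?_ (h1 i hi)
  by_contra hc
  haveI := hlt (-(d : ℤ)) (by omega)
  exact not_nontrivial _ h2

/-- The bottom cohomology over a domain is torsion free. -/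
theorem isTorsionFree_bottom [IsDomain A] (hω : Dual.IsDualizing A ω) (hN : Dual.IsNormalized A ω) (d : ℕ)
    (hd : ringKrullDim A = d) : Module.IsTorsionFree A (Dual.HD A ω (-(d : ℤ))) := by
  refine Module.isTorsionFree_iff_smul_eq_zero.2 fun x v hv => or_iff_not_imp_left.2 fun hx => ?_
  rcases em (IsUnit x) with hu | hu
  · exact (hu.smul_eq_zero).1 hv
  obtain ⟨e⟩ := exists_homRingLEquiv ω (-(d : ℤ))
  refine e.symm.injective ?_
  rw [map_zero]
  let f : A →ₗ[A] A := x • LinearMap.id
  have hreg : IsSMulRegular A x := fun a b hab => mul_left_cancel₀ hx hab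
  have hf : Function.Injective f := hreg
  let g : A →ₗ[A] QuotSMulTop x A := Submodule.mkQ _
  have hg : Function.Surjective g := Submodule.mkQ_surjective _
  have hfg : Function.Exact f g := by
    intro z
    rw [show g z = 0 ↔ z ∈ x • (⊤ : Submodule A A) from Submodule.Quotient.mk_eq_zero _,
      Submodule.mem_smul_pointwise_iff_exists]
    exact ⟨fun ⟨w, _, hw⟩ => ⟨w, hw⟩, fun ⟨w, hw⟩ => ⟨w, trivial, hw⟩⟩
  have h1 := Module.supportDim_quotSMulTop_succ_eq_supportDim (M := A) hreg hu
  rw [Module.supportDim_self_eq_ringKrullDim, hd] at h1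
  obtain ⟨k, hk, hkd⟩ : ∃ k : ℕ, Module.supportDim A (QuotSMulTop x A) ≤ (k : WithBot ℕ∞) ∧ k < d := by
    generalize Module.supportDim A (QuotSMulTop x A) = z at h1 ⊢
    induction z with
    | bot => exact absurd h1.symm (by simp)
    | coe z => induction z with
      | top =>
        have h3 : (⊤ : ℕ∞) + 1 = (d : ℕ∞) := by exact_mod_cast h1
        simp at h3
      | coe k =>
        have h3 : k + 1 = d := by exact_mod_cast h1
        exact ⟨k, le_rfl, by omega⟩
  haveI := DualityLC.subsingleton_hom_of_supportDim_le hω hN _ k hk (-(d : ℤ)) (by omega)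
  have h0 : DualityLC.dualMap f (ω⟦-(d : ℤ)⟧) (e.symm v) = 0 := by
    rw [DualityLC.dualMap_smul_id, ← map_smul, hv, map_zero]
  obtain ⟨χ, hχ⟩ := (DualityLC.dualMap_exact hf hg hfg _ _).1 h0
  rw [Subsingleton.elim χ 0, map_zero] at hχ
  exact hχ.symm

/-- The lowest cohomology of a dualizing complex of a local ring. -/
theorem lowest_properties (hω : Dual.IsDualizing A ω) (n : ℤ) (hlt : ∀ j < n, Subsingleton (Dual.HD A ω j))
    (hn : Nontrivial (Dual.HD A ω n)) :
    LocCoh.HasSk 2 A (Dual.HD A ω n) ∧ (IsDomain A → Module.IsTorsionFree A (Dual.HD A ω n)) := by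
  obtain ⟨e, he⟩ := DualityLC.exists_normalized_shift hω
  have hω' := isDualizing_shift hω e
  obtain ⟨d, hd⟩ := DualityLC.exists_nat_ringKrullDim (A := A)
  let c : ∀ i : ℤ, Dual.HD A (ω⟦e⟧) i ≃ₗ[A] Dual.HD A ω (e + i) := fun i => DualityLC.hdShiftIso ω e i (e + i) rfl
  have hi := eq_bottom_degree hω' he d hd (n - e)
    (fun j hj => by haveI := hlt (e + j) (by omega); exact (c j).toEquiv.subsingleton)
    (by
      haveI : Nontrivial (Dual.HD A ω (e + (n - e))) := by rw [show e + (n - e) = n by omega]; exact hn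
      exact (c (n - e)).toEquiv.nontrivial)
  let t : Dual.HD A (ω⟦e⟧) (-(d : ℤ)) ≃ₗ[A] Dual.HD A ω n :=
    (c (-(d : ℤ))).trans (LinearEquiv.cast (R := A) (M := fun k : ℤ => (Dual.HD A ω k : Type u)) (by omega))
  haveI := hω'.finite_cohomology (-(d : ℤ))
  refine ⟨hasSk_congr 2 t (DualityLC.hasSk_two_bottom hω' he d hd), fun hA => ?_⟩
  haveI := hA
  haveI := isTorsionFree_bottom hω' he d hd
  exact t.symm.injective.moduleIsTorsionFree _ fun r m => map_smul t.symm r m

end Local

variable {X : Scheme.{u}}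

theorem preservesFiniteLimits_stalk (x : X) : PreservesFiniteLimits (DerSch.stalkFunctor X x) :=
  inferInstance

variable [∀ (U : Scheme.{u}) (j : U ⟶ X) [IsOpenImmersion j], PreservesFiniteLimits (Scheme.Modules.restrictFunctor j)]
  [∀ (R : CommRingCat.{u}), PreservesFiniteLimits (tilde.functor R)]

/-- The stalk of a dualizing complex is a dualizing complex. -/
theorem isDualizing_stalk [IsLocallyNoetherian X] {K : DCoh.D X} (hK : Dual2.IsDualizingSch X K) (x : X) :
    Dual.IsDualizing (X.presheaf.stalk x) ((DerSch.stalkFunctor X x).mapDerivedCategory.obj K) := by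
  obtain ⟨R, hR, j, hj, y, rfl⟩ := exists_chart x
  haveI := hR
  haveI := hj
  obtain ⟨w, hw, ⟨e⟩⟩ := hK R j
  let K₀ := DerivedCategory.Q.objPreimage K
  let W := DerivedCategory.Q.objPreimage w
  let O := X.presheaf.stalk (j.base y)
  let B := (Spec R).presheaf.stalk y
  haveI : DTen.HasLBase (j.stalkMap y).hom := hasLBase _
  haveI : DTen.HasLBase (toStalkHom y) := hasLBase _
  haveI : IsNoetherianRing O := inferInstance
  have hbij := ConcreteCategory.bijective_of_isIso (j.stalkMap y)
  -- the stalk on the chart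
  letI : Algebra R B := (toStalkHom y).toAlgebra
  haveI hloc : IsLocalization y.asIdeal.primeCompl B := StructureSheaf.IsLocalization.to_stalk R y
  haveI : Module.Flat R B := IsLocalization.flat B y.asIdeal.primeCompl
  haveI : DTen.HasLBase (algebraMap R B) := hasLBase _
  haveI := hw.isNoetherianRing
  haveI : IsNoetherianRing B := IsLocalization.isNoetherianRing y.asIdeal.primeCompl B inferInstance
  have hB : Dual.IsDualizing B ((DTen.LBase (toStalkHom y)).obj w) :=
    isDualizing_LBase hw fun n _ => ⟨n.comap (algebraMap R B), IsLocalization.map_under y.asIdeal.primeCompl B n⟩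
  obtain ⟨e₁⟩ := nonempty_LBase_toD (j.stalkMap y).hom (RingHom.Flat.of_bijective hbij) ((stalkCx (j.base y)).obj K₀)
  obtain ⟨e₂⟩ := nonempty_LBase_toD (toStalkHom y) (RingHom.flat_algebraMap_iff.2 ‹Module.Flat R B›) W
  let σ := (DerSch.stalkFunctor X (j.base y)).mapDerivedCategory
  let σ' := (DerSch.stalkFunctor (Spec R) y).mapDerivedCategory
  let eK : σ.obj K ≅ DRing.toD ((stalkCx (j.base y)).obj K₀) :=
    σ.mapIso (repIso K).symm ≪≫ (DerSch.stalkFunctor X (j.base y)).mapDerivedCategoryFactors.app K₀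
  let c : (DTen.LBase (j.stalkMap y).hom).obj (σ.obj K) ≅ (DTen.LBase (toStalkHom y)).obj w :=
    (DTen.LBase _).mapIso eK ≪≫ e₁ ≪≫ DerivedCategory.Q.mapIso (stalkRestrictCxIso j y K₀).symm ≪≫
      ((DerSch.stalkFunctor (Spec R) y).mapDerivedCategoryFactors.app ((rCx j).obj K₀)).symm ≪≫
      σ'.mapIso (((rhoQ j).app K₀).symm ≪≫ (rho j).mapIso (repIso K) ≪≫ e ≪≫
        (DCoh.tildeD R).mapIso (DerivedCategory.Q.objObjPreimageIso w).symm ≪≫
        (tilde.functor R).mapDerivedCategoryFactors.app W) ≪≫
      (DerSch.stalkFunctor (Spec R) y).mapDerivedCategoryFactors.app _ ≪≫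
      DerivedCategory.Q.mapIso ((NatIso.mapHomologicalComplex (stalkTildeIso y) (ComplexShape.up ℤ)).app W) ≪≫
      e₂.symm ≪≫ (DTen.LBase (toStalkHom y)).mapIso (DerivedCategory.Q.objObjPreimageIso w)
  letI : Algebra O B := (j.stalkMap y).hom.toAlgebra
  haveI : Module.Flat O B := RingHom.Flat.of_bijective hbij
  refine isDualizing_of_finite_family (ι := PUnit.{1}) (B := fun _ => B) (fun m hm => ⟨⟨⟩, fun htop => hm.ne_top ?_⟩)
    fun _ => isDualizing_of_iso c.symm hB
  have h1 := Ideal.comap_map_of_bijective (algebraMap O B) hbij (I := m)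
  rw [htop, Ideal.comap_top] at h1
  exact h1.symm

/-- The cohomology of the stalk is the stalk of the cohomology. -/
noncomputable def hdStalkEquiv (K : DCoh.D X) (x : X) (i : ℤ) :
    Dual.HD (X.presheaf.stalk x) ((DerSch.stalkFunctor X x).mapDerivedCategory.obj K) i ≃ₗ[X.presheaf.stalk x]
      (DCoh.HD K i).presheaf.stalk x :=
  ((mapDCHomologyIso (DerSch.stalkFunctor X x) i).app K).toLinearEquiv

theorem finite_stalk_HD [IsLocallyNoetherian X] {K : DCoh.D X} (hK : Dual2.IsDualizingSch X K) (x : X) (i : ℤ) :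
    Module.Finite (X.presheaf.stalk x) ((DCoh.HD K i).presheaf.stalk x) :=
  haveI := (isDualizing_stalk hK x).finite_cohomology i
  Module.Finite.equiv (hdStalkEquiv K x i)

/-- `(S₂)` and torsion-freeness of the lowest cohomology sheaf. -/
theorem dualizingSheaf_properties [IsLocallyNoetherian X] {K : DCoh.D X} (hK : Dual2.IsDualizingSch X K) (n : ℤ)
    (hlt : ∀ i : ℤ, i < n → IsZero (DCoh.HD K i)) (x : X) :
    LocCoh.HasSk 2 (X.presheaf.stalk x) ((DCoh.HD K n).presheaf.stalk x) ∧
      (IsDomain (X.presheaf.stalk x) →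
        Module.IsTorsionFree (X.presheaf.stalk x) ((DCoh.HD K n).presheaf.stalk x)) := by
  rcases subsingleton_or_nontrivial ((DCoh.HD K n).presheaf.stalk x) with h | h
  · exact ⟨hasSk_of_subsingleton _ 2, fun _ => Module.isTorsionFree_iff_smul_eq_zero.2
      fun _ _ _ => Or.inr (Subsingleton.elim _ _)⟩
  obtain ⟨h1, h2⟩ := lowest_properties (isDualizing_stalk hK x) n (fun j hj => by
      haveI : Subsingleton ((DCoh.HD K j).presheaf.stalk x) :=
        ModuleCat.subsingleton_of_isZero ((DerSch.stalkFunctor X x).map_isZero (hlt j hj))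
      exact (hdStalkEquiv K x j).toEquiv.subsingleton)
    (by exact (hdStalkEquiv K x n).toEquiv.nontrivial)
  haveI := (isDualizing_stalk hK x).finite_cohomology n
  refine ⟨hasSk_congr 2 (hdStalkEquiv K x n) h1, fun hD => ?_⟩
  haveI := h2 hD
  exact (hdStalkEquiv K x n).symm.injective.moduleIsTorsionFree _ fun r m => map_smul (hdStalkEquiv K x n).symm r m

end Groth.Agent.Dual349
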