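import Groth.Agent.Dual349.DualizingLocal
import Groth.Agent.KFlatLib.Scheme.CohD
import Groth.Agent.KFlatLib.Scheme.ExtZero
import Groth.Agent.KFlatLib.Scheme.PullCx
import Groth.Agent.KFlatLib.Ring.DualizingDimension
import Groth.Agent.KSix54.Basic

/-!
# Dualizing complexes on schemes are detected on stalks, given finite injective dimension
-/

set_option autoImplicit false
set_option linter.style.haveILetI false
set_option backward.isDefEq.respectTransparency false
set_option backward.isDefEq.respectTransparency.types false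

universe u

open CategoryTheory CategoryTheory.Limits AlgebraicGeometry

attribute [local instance] HasDerivedCategory.standard

namespace Groth.Agent.Dual349

open KFlatLib

section Affine

variable {R : CommRingCat.{u}} [PreservesFiniteLimits (tilde.functor R)]

/-- A K-injective complex with quasi-coherent cohomology comes from its global sections. -/
theorem isIso_counitQ (I : CochainComplex (Spec R).Modules ℤ) [I.IsKInjective]
    (hI' : DCoh.IsQCohD (DerivedCategory.Q.obj I)) : IsIso (counitQ I) := by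
  have hT := isQCohD_tildeD R (DerivedCategory.Q.obj (gammaCx.obj I))
  refine (DerivedCategory.isIso_iff _ (counitQ I)).2 fun n =>
    isIso_of_bijective_comp_qcoh (hT n) (hI' n) _ ?_
  let e := ((tilde.functor R).mapDerivedCategorySingleFunctor n).app (ModuleCat.of R R)
  have hA := adj_bijective ((DerivedCategory.singleFunctor (ModuleCat.{u} R) n).obj
    (ModuleCat.of R R)) I
  have hb := tildeD_map_bijective ((DerivedCategory.singleFunctor (ModuleCat.{u} R) n).obj
    (ModuleCat.of R R)) (DerivedCategory.Q.obj (gammaCx.obj I))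
  have b₁ := bijective_psiC_tildeR hT n
  have b₂ := bijective_psiC_tildeR hI' n
  have h : Function.Bijective (fun φ : (DerivedCategory.singleFunctor (Spec R).Modules n).obj
      ((tilde.functor R).obj (ModuleCat.of R R)) ⟶ _ => φ ≫ counitQ I) := by
    refine ⟨fun a b hab => (cancel_epi e.hom).1 ?_, fun y => ?_⟩
    · obtain ⟨a', ha'⟩ := hb.2 (e.hom ≫ a)
      obtain ⟨b', hb'⟩ := hb.2 (e.hom ≫ b)
      rw [← ha', ← hb', hA.1 (a₁ := a') (a₂ := b') ?_]
      simp only at hab ⊢
      rw [ha', hb', Category.assoc, Category.assoc, hab]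
    · obtain ⟨c, hc⟩ := hA.2 (e.hom ≫ y)
      refine ⟨e.inv ≫ (DCoh.tildeD R).map c, (cancel_epi e.hom).1 ?_⟩
      simp only at hc ⊢
      rw [Category.assoc, hc, Iso.inv_hom_id_assoc]
  refine ⟨fun x y hxy => ?_, fun z => ?_⟩
  · obtain ⟨a, rfl⟩ := b₁.2 x
    obtain ⟨b, rfl⟩ := b₁.2 y
    simp only [← psiC_comp] at hxy
    rw [h.1 (b₂.1 hxy)]
  · obtain ⟨c, rfl⟩ := b₂.2 z
    obtain ⟨a, rfl⟩ := h.2 c
    exact ⟨_, (psiC_comp a _).symm⟩

omit [PreservesFiniteLimits (tilde.functor R)] in
theorem toStalkHom_eq (y : Spec R) : toStalkHom y = (StructureSheaf.toStalk R y).hom := rfl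

end Affine

section Transfer

variable {A B : Type u} [CommRing A] [CommRing B] (φ : A →+* B)

/-- Flat base change of the image of a complex. -/
theorem nonempty_LBase_toD (hφ : φ.Flat) [DTen.HasLBase φ] (C : DRing.Cx A) :
    Nonempty ((DTen.LBase φ).obj (DRing.toD C) ≅
      DRing.toD (((ModuleCat.extendScalars.{u, u, u} φ).mapHomologicalComplex (ComplexShape.up ℤ)).obj C)) := by
  letI := φ.toAlgebra
  haveI : Module.Flat A B := hφ
  haveI : DTen.HasLBase (algebraMap A B) := ‹DTen.HasLBase φ›
  obtain ⟨_, ⟨e⟩⟩ := exists_LBase_map_iso (B := B) (DRing.toD C)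
  exact ⟨e ≪≫ (ModuleCat.extendScalars.{u, u, u} φ).mapDerivedCategoryFactors.app C⟩

/-- Dualizing complexes pass along ring isomorphisms. -/
theorem isDualizing_LBase_bijective (hφ : Function.Bijective φ) [DTen.HasLBase φ] {w : Dual.D A}
    (hw : Dual.IsDualizing A w) : Dual.IsDualizing B ((DTen.LBase φ).obj w) := by
  haveI := hw.isNoetherianRing
  letI := φ.toAlgebra
  haveI : Module.Flat A B := RingHom.Flat.of_bijective hφ
  haveI : DTen.HasLBase (algebraMap A B) := ‹DTen.HasLBase φ›
  haveI : IsNoetherianRing B := isNoetherianRing_of_surjective A B φ hφ.2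
  exact isDualizing_LBase hw fun n _ => ⟨n.comap φ, Ideal.map_comap_of_surjective φ hφ.2 n⟩

end Transfer

variable {X : Scheme.{u}}

/-- The stalk complex of a restriction. -/
noncomputable def stalkRestrictCxIso {U : Scheme.{u}} (j : U ⟶ X) [IsOpenImmersion j] (y : U)
    (I : CochainComplex X.Modules ℤ) :
    (stalkCx y).obj ((rCx j).obj I) ≅
      ((ModuleCat.extendScalars (j.stalkMap y).hom).mapHomologicalComplex (ComplexShape.up ℤ)).obj
        ((stalkCx (j.base y)).obj I) :=
  (stalkCx y).mapIso ((NatIso.mapHomologicalComplex (Scheme.Modules.restrictFunctorIsoPullback j)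
    (ComplexShape.up ℤ)).app I) ≪≫ stalkPullCxIso j y I

variable [∀ (U : Scheme.{u}) (j : U ⟶ X) [IsOpenImmersion j], PreservesFiniteLimits (Scheme.Modules.restrictFunctor j)]
  [∀ (R : CommRingCat.{u}), PreservesFiniteLimits (tilde.functor R)]

/-- A bounded complex of injectives with coherent cohomology and dualizing stalks is dualizing. -/
theorem isDualizingSch_of_stalks [IsLocallyNoetherian X] (I : CochainComplex X.Modules ℤ)
    (hIinj : ∀ i : ℤ, Injective (I.X i)) (a b : ℤ) (hI : ∀ i : ℤ, (i < a ∨ b < i) → IsZero (I.X i))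
    (hcoh : ∀ i : ℤ, Coh.IsCoh (DCoh.HD (DCoh.toD X I) i))
    (hst : ∀ x : X, Dual.IsDualizing (X.presheaf.stalk x) (DRing.toD ((stalkCx x).obj I))) :
    Dual2.IsDualizingSch X (DCoh.toD X I) := by
  intro A _ j _
  haveI : IsNoetherianRing A :=
    isLocallyNoetherian_Spec.1 (isLocallyNoetherian_of_isOpenImmersion j)
  haveI : (tilde.functor (CommRingCat.of A)).Additive := tilde_additive _
  haveI : PreservesFiniteColimits (tilde.functor (CommRingCat.of A)) := QCoh.tilde_preservesFiniteColimits
  let J := (rCx j).obj I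
  haveI : ∀ i, Injective (J.X i) := fun i => Adjunction.map_injective (lshAdj j) (I.X i) (hIinj i)
  have hJ : ∀ i : ℤ, (i < a ∨ b < i) → IsZero (J.X i) := fun i hi =>
    (Scheme.Modules.restrictFunctor j).map_isZero (hI i hi)
  haveI : J.IsStrictlyGE a := (CochainComplex.isStrictlyGE_iff _ _).2 fun i hi => hJ i (Or.inl hi)
  haveI : J.IsKInjective := CochainComplex.isKInjective_of_injective J a
  let eJ : (rho j).obj (DCoh.toD X I) ≅ DerivedCategory.Q.obj J := (rhoQ j).app I
  have hq : DCoh.IsQCohD (DerivedCategory.Q.obj J) :=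
    isQCohD_of_iso eJ (isQCohD_rho j fun i => (hcoh i).1)
  haveI := isIso_counitQ J hq
  let w : Dual.D A := DerivedCategory.Q.obj (gammaCx.obj J)
  let ew : (DCoh.tildeD (CommRingCat.of A)).obj w ≅ (rho j).obj (DCoh.toD X I) :=
    asIso (counitQ J) ≪≫ eJ.symm
  refine ⟨w, ?_, ⟨ew.symm⟩⟩
  haveI : (moduleSpecΓFunctor (R := CommRingCat.of A)).Additive :=
    (tilde.adjunction (R := CommRingCat.of A)).right_adjoint_additive
  haveI : (tilde.functor (CommRingCat.of A)).PreservesMonomorphisms :=
    preservesMonomorphisms_of_preservesLimitsOfShape _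
  have hamp : DRing.HasInjAmplitudeIn A a b w :=
    ⟨gammaCx.obj J, fun i hi => (moduleSpecΓFunctor (R := CommRingCat.of A)).map_isZero (hJ i hi),
      fun i =>
        haveI : Injective (ModuleCat.of A ((gammaCx.obj J).X i)) :=
          Adjunction.map_injective (tilde.adjunction (R := CommRingCat.of A)) (J.X i) inferInstance
        Module.injective_module_of_injective_object (R := A) _,
      ⟨Iso.refl _⟩⟩
  have hfin : ∀ i : ℤ, Module.Finite A (Dual.HD A w i) := fun i =>
    (isCoh_tilde_iff (R := CommRingCat.of A) _).1 (isCoh_of_iso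
      ((restrictHDIso j (DCoh.toD X I) i).symm ≪≫ ((DerivedCategory.homologyFunctor _ i).mapIso ew).symm ≪≫
        (mapDCHomologyIso (tilde.functor (CommRingCat.of A)) i).app w)
      (KFlatLib.isCoh_restrict j (hcoh i)))
  haveI := isGE_of_injAmplitude hamp
  haveI : w.IsLE b := by
    haveI : CochainComplex.IsStrictlyLE (gammaCx.obj J) b :=
      (CochainComplex.isStrictlyLE_iff _ _).2 fun i hi =>
        (moduleSpecΓFunctor (R := CommRingCat.of A)).map_isZero (hJ i (Or.inr hi))
    exact (DerivedCategory.isLE_Q_obj_iff _ _).2 inferInstance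
  let B : {m : Ideal A // m.IsMaximal} → Type u := fun m =>
    (Spec (CommRingCat.of A)).presheaf.stalk (⟨m.1, m.2.isPrime⟩ : PrimeSpectrum A)
  letI : ∀ m, CommRing (B m) := fun m => inferInstanceAs (CommRing
    ((Spec (CommRingCat.of A)).presheaf.stalk (⟨m.1, m.2.isPrime⟩ : PrimeSpectrum A)))
  letI : ∀ m, Algebra A (B m) := fun m =>
    (toStalkHom (R := CommRingCat.of A) (⟨m.1, m.2.isPrime⟩ : PrimeSpectrum A)).toAlgebra
  have hloc : ∀ m, IsLocalization (Ideal.primeCompl (hp := m.2.isPrime) m.1) (B m) := fun m =>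
    StructureSheaf.IsLocalization.to_stalk A ⟨m.1, m.2.isPrime⟩
  haveI : ∀ m, Module.Flat A (B m) := fun m => by
    haveI := hloc m
    exact IsLocalization.flat (B m) (Ideal.primeCompl (hp := m.2.isPrime) m.1)
  haveI : ∀ m, DTen.HasLBase (algebraMap A (B m)) := fun m => hasLBase _
  refine isDualizing_of_family (B := B) (fun m hm => ⟨⟨m, hm⟩, ?_⟩) a b hfin ⟨a, b, fun M _ _ i hi => ?_⟩ fun m => ?_
  · haveI := hloc ⟨m, hm⟩
    haveI := hm.isPrime
    exact (IsLocalization.map_algebraMap_ne_top_iff_disjoint m.primeCompl _ m).2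
      (Set.disjoint_left.2 fun x hx hx' => hx hx')
  · obtain ⟨E, hz, hE, ⟨e⟩⟩ := hamp
    exact H9Misc.DRingInjAmp.ext_subsingleton hz hE e (ModuleCat.of A M) i hi
  · let y : Spec (CommRingCat.of A) := (⟨m.1, m.2.isPrime⟩ : PrimeSpectrum A)
    let G := gammaCx.obj J
    haveI : DTen.HasLBase (j.stalkMap y).hom := hasLBase _
    haveI : DTen.HasLBase (toStalkHom y) := hasLBase _
    have hflat : (j.stalkMap y).hom.Flat :=
      RingHom.Flat.of_bijective (ConcreteCategory.bijective_of_isIso (j.stalkMap y))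
    have hd := isDualizing_LBase_bijective (j.stalkMap y).hom
      (ConcreteCategory.bijective_of_isIso (j.stalkMap y)) (hst (j.base y))
    obtain ⟨e₁⟩ := nonempty_LBase_toD (j.stalkMap y).hom hflat ((stalkCx (j.base y)).obj I)
    obtain ⟨e₂⟩ := nonempty_LBase_toD (toStalkHom y) (RingHom.flat_algebraMap_iff.2 (inferInstanceAs
      (Module.Flat A (B m)))) G
    let t := (tilde.functor (CommRingCat.of A)).mapHomologicalComplex (ComplexShape.up ℤ)
    let SD := (DerSch.stalkFunctor (Spec (CommRingCat.of A)) y).mapDerivedCategory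
    let SF := (DerSch.stalkFunctor (Spec (CommRingCat.of A)) y).mapDerivedCategoryFactors
    refine KFlatLib.isDualizing_of_iso ?_ hd
    exact e₁ ≪≫ DerivedCategory.Q.mapIso (stalkRestrictCxIso j y I).symm ≪≫ (SF.app J).symm ≪≫
      SD.mapIso ((asIso (counitQ J)).symm ≪≫ (tilde.functor (CommRingCat.of A)).mapDerivedCategoryFactors.app G) ≪≫
      SF.app (t.obj G) ≪≫
      DerivedCategory.Q.mapIso ((NatIso.mapHomologicalComplex (stalkTildeIso y) (ComplexShape.up ℤ)).app G) ≪≫
      e₂.symm

end Groth.Agent.Dual349
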