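import Groth.Agent.KFlatLib.Scheme.ProjFormula
import Groth.Agent.KFlatLib.Scheme.RHomBounded
import Groth.Agent.KFlatLib.Scheme.CohD
import Groth.Agent.KFlatLib.Scheme.AffinePush
import Groth.Agent.QCoh.Support
import Groth.Agent.QCoh.DevissageP
import Groth.Agent.QCoh.VanIdeal
import Groth.Prelude.Def_Dual3

/-!
# `Rf_* a = RHom(f_* O, -)` for a finite morphism
-/

set_option autoImplicit false
set_option linter.style.haveILetI false
set_option backward.isDefEq.respectTransparency false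

universe u

open CategoryTheory CategoryTheory.Limits AlgebraicGeometry

attribute [local instance] HasDerivedCategory.standard

namespace Groth.Agent.Dual349

open KFlatLib

variable {X Y : Scheme.{u}}

/-- Functors out of `D(O_Y)` agreeing on K-flat resolutions agree. -/
noncomputable def natIsoOfKRes {C : Type*} [Category C] {Φ Ψ : DCoh.D Y ⥤ C}
    (e : kRes Y ⋙ DerivedCategory.Q ⋙ Φ ≅ kRes Y ⋙ DerivedCategory.Q ⋙ Ψ) : Φ ≅ Ψ :=
  Localization.liftNatIso DerivedCategory.Q (qisX Y) (DerivedCategory.Q ⋙ Φ) (DerivedCategory.Q ⋙ Ψ) Φ Ψ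
    ((Functor.isoWhiskerRight (resQIso Y) Φ).symm ≪≫ Functor.associator _ _ _ ≪≫ e ≪≫
      (Functor.associator _ _ _).symm ≪≫ Functor.isoWhiskerRight (resQIso Y) Ψ)

/-- Cohomology of a sheaf in degree zero. -/
theorem hd_inD_mem {Φ : ObjectProperty Y.Modules} [Φ.IsClosedUnderIsomorphisms] {M : Y.Modules} (hM : Φ M)
    (h0 : ∀ N : Y.Modules, IsZero N → Φ N) (i : ℤ) : Φ (DCoh.HD (DCoh.inD Y M) i) := by
  rcases lt_trichotomy i 0 with h | rfl | h
  · exact h0 _ (DerivedCategory.isZero_of_isGE (DCoh.inD Y M) 0 i h)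
  · exact Φ.prop_of_iso ((DerivedCategory.singleFunctorCompHomologyFunctorIso Y.Modules 0).app M).symm hM
  · exact h0 _ (DerivedCategory.isZero_of_isLE (DCoh.inD Y M) 0 i h)

theorem isQCohD_inD {M : Y.Modules} (hM : Coh.IsQCoh M) : DCoh.IsQCohD (DCoh.inD Y M) := fun i =>
  haveI : ObjectProperty.IsClosedUnderIsomorphisms (Coh.IsQCoh (X := Y)) := ⟨fun e h => isQCoh_of_iso e h⟩
  hd_inD_mem (Φ := Coh.IsQCoh (X := Y)) hM (fun _ h => isQCoh_of_isZero h) i

theorem isCohD_inD [IsLocallyNoetherian Y] {M : Y.Modules} (hM : Coh.IsCoh M) : DCoh.IsCohD (DCoh.inD Y M) := fun i =>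
  haveI : ObjectProperty.IsClosedUnderIsomorphisms (Coh.IsCoh (X := Y)) := ⟨fun e h => isCoh_of_iso e h⟩
  hd_inD_mem (Φ := Coh.IsCoh (X := Y)) hM (fun _ h => isCoh_of_isZero h) i

/-- `R ⊗^L -` is `- ⊗^L R`. -/
theorem nonempty_projF_iso (R : CochainComplex Y.Modules ℤ) [DCoh.HasLTensorCx R] :
    Nonempty (projF R ≅ DCoh.LTensorCx R) := by
  refine ⟨natIsoOfKRes ?_⟩
  let c := (DCoh.tensorCxQ R).totalLeftDerivedCounit DerivedCategory.Q (qisX Y)
  haveI : ∀ K, IsIso ((kLiftε (kRespects_tensor R)).app ((kRes Y).obj K)) := fun K =>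
    isIso_kLiftε _ (isKFlat_kRes K)
  haveI : ∀ K, IsIso (c.app ((kRes Y).obj K)) := fun K => isIso_LTensorCx_counit R (isKFlat_kRes K)
  refine NatIso.ofComponents (fun K => asIso ((kLiftε (kRespects_tensor R)).app ((kRes Y).obj K)) ≪≫
    DerivedCategory.Q.mapIso ((symmIso (tensorBiFlipIso Y) R).app ((kRes Y).obj K)).symm ≪≫
      (asIso (c.app ((kRes Y).obj K))).symm) (fun {K L} g => ?_)
  have h1 := (kLiftε (kRespects_tensor R)).naturality ((kRes Y).map g)
  have h2 := c.naturality ((kRes Y).map g)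
  have h3 := congrArg DerivedCategory.Q.map ((symmIso (tensorBiFlipIso Y) R).inv.naturality ((kRes Y).map g))
  simp only [Functor.map_comp] at h3
  simp only [Iso.trans_hom, Iso.symm_hom, asIso_hom, asIso_inv, Functor.mapIso_inv, Iso.app_inv,
    ← Category.assoc, IsIso.comp_inv_eq]
  refine ((Category.assoc _ _ _).trans ?_).symm
  simp only [Category.assoc]
  refine Eq.trans (congrArg (_ ≫ _ ≫ ·) ((congrArg (_ ≫ ·) h2).trans (IsIso.inv_hom_id_assoc _ _))) ?_
  exact (congrArg (_ ≫ ·) h3.symm).trans (((Category.assoc _ _ _).symm.trans (congrArg (· ≫ _) h1.symm)).trans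
    (Category.assoc _ _ _))

/-- `O ⊗^L Lf^* -` is `Lf^*`. -/
theorem nonempty_projH_iso_lpull (f : X ⟶ Y) [DCoh.HasLpull f] (I : CochainComplex X.Modules ℤ)
    (s : (HomologicalComplex.single X.Modules (ComplexShape.up ℤ) 0).obj (Coh.structureModule X) ⟶ I)
    [QuasiIso s] : Nonempty (projH f I ≅ DCoh.Lpull f) := by
  refine ⟨natIsoOfKRes ?_⟩
  let S := (HomologicalComplex.single X.Modules (ComplexShape.up ℤ) 0).obj (Coh.structureModule X)
  let u : DCoh.tensorCx.obj S ≅ 𝟭 _ :=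
    (symmIso (tensorBiFlipIso X) S).symm ≪≫ singleIso (DCoh.tensorBi (X := X)) (Coh.structureModule X) ≪≫
      NatIso.mapHomologicalComplex (tensorStructureIso X) _ ≪≫ Functor.mapHomologicalComplexIdIso _ _
  let α : ∀ K, ((DCoh.tensorCx.obj S).obj ((pullCx f).obj ((kRes Y).obj K))) ⟶
      (DCoh.tensorCx.obj I).obj ((pullCx f).obj ((kRes Y).obj K)) := fun K =>
    (DCoh.tensorCx.map s).app ((pullCx f).obj ((kRes Y).obj K))
  haveI : ∀ K, IsIso (DerivedCategory.Q.map (α K)) := fun K =>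
    isIso_Q_map _ ((kFlat_iff_isKFlat.2 (isKFlat_pullback f (isKFlat_kRes K))).quasiIso_map s)
  haveI : ∀ K, IsIso ((kLiftε (kRespects_pullTensor f I)).app ((kRes Y).obj K)) := fun K =>
    isIso_kLiftε _ (isKFlat_kRes K)
  haveI : ∀ K, IsIso ((lpullComparison f).app ((kRes Y).obj K)) := fun K =>
    isIso_lpullComparison f (isKFlat_kRes K)
  refine (NatIso.ofComponents (F := kRes Y ⋙ DerivedCategory.Q ⋙ DCoh.Lpull f)
    (G := kRes Y ⋙ DerivedCategory.Q ⋙ projH f I) (fun K =>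
    asIso ((lpullComparison f).app ((kRes Y).obj K)) ≪≫
      DerivedCategory.Q.mapIso (u.app ((pullCx f).obj ((kRes Y).obj K))).symm ≪≫
        asIso (DerivedCategory.Q.map (α K)) ≪≫
          (asIso ((kLiftε (kRespects_pullTensor f I)).app ((kRes Y).obj K))).symm) (fun {K L} g => ?_)).symm
  have h1 := (lpullComparison f).naturality ((kRes Y).map g)
  have h2 := (kLiftε (kRespects_pullTensor f I)).naturality ((kRes Y).map g)
  have h3 := congrArg DerivedCategory.Q.map (u.inv.naturality ((pullCx f).map ((kRes Y).map g)))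
  have h4 := congrArg DerivedCategory.Q.map ((DCoh.tensorCx.map s).naturality ((pullCx f).map ((kRes Y).map g)))
  simp only [Functor.map_comp] at h3 h4
  simp only [Iso.trans_hom, Iso.symm_hom, asIso_hom, asIso_inv, Functor.mapIso_inv, Iso.app_inv,
    ← Category.assoc, IsIso.comp_inv_eq]
  refine ((Category.assoc _ _ _).trans ?_).symm
  simp only [Category.assoc]
  refine Eq.trans (congrArg (_ ≫ _ ≫ _ ≫ ·) ((congrArg (_ ≫ ·) h2).trans (IsIso.inv_hom_id_assoc _ _))) ?_
  refine Eq.trans (congrArg (fun t => _ ≫ _ ≫ t) h4.symm) ?_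
  refine Eq.trans (congrArg (fun t => _ ≫ t) ((Category.assoc _ _ _).symm.trans
    ((congrArg (· ≫ _) h3.symm).trans (Category.assoc _ _ _)))) ?_
  exact (Category.assoc _ _ _).symm.trans ((congrArg (· ≫ _) h1.symm).trans (Category.assoc _ _ _))

variable (f : X ⟶ Y)

/-- Pushing forward a pullback is tensoring with the pushforward of the structure sheaf. -/
theorem nonempty_lpull_rpush_ltensor [IsAffineHom f] [DCoh.HasRpush f] [DCoh.HasLpull f]
    (E : CochainComplex Y.Modules ℤ)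
    (hE : Nonempty (DCoh.toD Y E ≅ DCoh.inD Y ((Scheme.Modules.pushforward f).obj (Coh.structureModule X))))
    [DCoh.HasLTensorCx E] :
    Nonempty (ObjectProperty.ι (DCoh.IsQCohD (X := Y)) ⋙ DCoh.Lpull f ⋙ DCoh.Rpush f ≅
      ObjectProperty.ι (DCoh.IsQCohD (X := Y)) ⋙ DCoh.LTensorCx E) := by
  obtain ⟨eE⟩ := hE
  let S := (HomologicalComplex.single X.Modules (ComplexShape.up ℤ) 0).obj (Coh.structureModule X)
  obtain ⟨I, s, hI, hs⟩ := exists_kInjective_res S
  haveI := hs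
  haveI := hI
  haveI := isIso_Q_map s hs
  have hSq : ∀ n, Coh.IsQCoh (S.X n) := fun n => by
    by_cases hn : n = 0
    · subst hn
      exact isQCoh_of_iso (HomologicalComplex.singleObjXSelf (ComplexShape.up ℤ) 0 _).symm QCoh.isQCoh_structureModule
    · exact isQCoh_of_isZero (HomologicalComplex.isZero_single_obj_X (ComplexShape.up ℤ) 0 _ _ hn)
  let R := (kRes Y).obj ((pushCxF f).obj I)
  let a : R ⟶ (pushCxF f).obj I := (flatCover Y).ψ.app _
  haveI : QuasiIso a := (flatCover Y).quasiIso_ψ _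
  haveI := isIso_Q_map a inferInstance
  have hIq : DCoh.IsQCohD (DerivedCategory.Q.obj I) :=
    isQCohD_of_iso ((DerivedCategory.singleFunctorIsoCompQ X.Modules 0).app _ ≪≫ asIso (DerivedCategory.Q.map s)) (isQCohD_inD QCoh.isQCoh_structureModule)
  haveI := (isIso_rpushUnit_iff f S).2 (isIso_unit_of_isAffineHom f S hSq)
  haveI := isIso_rpushUnit_of_kInjective f I
  let eR : DerivedCategory.Q.obj R ≅ DerivedCategory.Q.obj E :=
    asIso (DerivedCategory.Q.map a) ≪≫ asIso ((rpushUnit f).app I) ≪≫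
      (DCoh.Rpush f).mapIso (asIso (DerivedCategory.Q.map s)).symm ≪≫ (asIso ((rpushUnit f).app S)).symm ≪≫
      DerivedCategory.Q.mapIso
        ((HomologicalComplex.singleMapHomologicalComplex (Scheme.Modules.pushforward f) _ 0).app _) ≪≫
      ((DerivedCategory.singleFunctorIsoCompQ Y.Modules 0).app _).symm ≪≫ eE.symm
  haveI := hasLTensorCx R
  obtain ⟨e₁⟩ := nonempty_projF_iso R
  obtain ⟨e₂⟩ := nonempty_LTensorCx_congr_D eR
  obtain ⟨e₃⟩ := nonempty_projH_iso_lpull f I s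
  haveI : ∀ K : DCoh.DQCoh Y, IsIso ((projθ f I a).app K.obj) := fun K => by
    let P := DerivedCategory.Q.objPreimage K.obj
    let eP : DerivedCategory.Q.obj P ≅ K.obj := DerivedCategory.Q.objObjPreimageIso _
    haveI := isIso_projθ f I a (isKFlat_kRes _) hIq P (isQCohD_of_iso eP.symm K.property)
    exact (NatTrans.isIso_app_iff_of_iso _ eP).1 inferInstance
  haveI : IsIso (Functor.whiskerLeft (ObjectProperty.ι (DCoh.IsQCohD (X := Y))) (projθ f I a)) := by
    haveI : ∀ K, IsIso ((Functor.whiskerLeft (ObjectProperty.ι (DCoh.IsQCohD (X := Y))) (projθ f I a)).app K) :=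
      fun K => inferInstanceAs (IsIso ((projθ f I a).app K.obj))
    exact NatIso.isIso_of_isIso_app _
  exact ⟨Functor.isoWhiskerLeft _ (Functor.isoWhiskerRight e₃.symm (DCoh.Rpush f)) ≪≫
    (asIso (Functor.whiskerLeft (ObjectProperty.ι (DCoh.IsQCohD (X := Y))) (projθ f I a))).symm ≪≫
      Functor.isoWhiskerLeft _ (e₁ ≪≫ e₂)⟩

/-- `Rf_* a ≅ RHom(f_* O, -)` on bounded below objects. -/
theorem nonempty_rpush_rightAdjoint_iso [IsNoetherian Y] [IsNoetherian X] [IsFinite f] [DCoh.HasRpush f]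
    (hf : DCoh.RpushPreservesQCoh f) (a : DCoh.DQCoh Y ⥤ DCoh.DQCoh X) (adj : DCoh.RpushQ f hf ⊣ a)
    (E : CochainComplex Y.Modules ℤ)
    (hE : Nonempty (DCoh.toD Y E ≅ DCoh.inD Y ((Scheme.Modules.pushforward f).obj (Coh.structureModule X))))
    [DCoh.HasLTensorCx E] [DCoh.HasRSheafHom E] :
    Nonempty (Dual3.bddι Y ⋙ a ⋙ DCoh.RpushQ f hf ⋙ ObjectProperty.ι _ ≅
      Dual3.bddι Y ⋙ ObjectProperty.ι _ ⋙ DCoh.RSheafHom E) := by
  haveI := hasLpull f
  obtain ⟨θ⟩ := nonempty_lpull_rpush_ltensor f E hE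
  obtain ⟨eE⟩ := hE
  obtain ⟨la⟩ := nonempty_lpull_rpush_adj f
  have hc : Coh.IsCoh ((Scheme.Modules.pushforward f).obj (Coh.structureModule X)) :=
    QCoh.isCoh_pushforward_finite f QCoh.isCoh_structureModule'
  have hEc : DCoh.IsCohD (DCoh.toD Y E) := isCohD_of_iso eE.symm (isCohD_inD hc)
  haveI : (DCoh.toD Y E).IsLE 0 := DerivedCategory.TStructure.t.isLE_of_iso eE.symm 0
  have hpc : ∀ m : ℤ, DCoh.IsPseudoCoherentD m (DCoh.toD Y E) := fun m =>
    (isPseudoCoherentD_iff _ _).2 (locPC_of_coh (isCohD_isQCohD hEc) (fun i _ => hEc i) 0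
      ((DerivedCategory.isLE_iff _ 0).1 inferInstance))
  have hq : ∀ K : (Dual3.IsBddBelowQ Y).FullSubcategory,
      DCoh.IsQCohD ((DCoh.RSheafHom E).obj K.obj.obj) := fun K => by
    obtain ⟨n, hn⟩ := K.property
    exact isQCohD_RSheafHom_of_pseudoCoherent E hpc _ K.obj.property n
  let Ψ : (Dual3.IsBddBelowQ Y).FullSubcategory ⥤ DCoh.DQCoh Y :=
    ObjectProperty.lift _ (Dual3.bddι Y ⋙ ObjectProperty.ι _ ⋙ DCoh.RSheafHom E) hq
  let hff := ObjectProperty.fullyFaithfulι (DCoh.IsQCohD (X := Y))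
  let hffX := ObjectProperty.fullyFaithfulι (DCoh.IsQCohD (X := X))
  let hLf : Dual3.LpullPreservesQCoh f := fun K hK => isQCohD_lpull f hK
  let eq : ∀ (K : (Dual3.IsBddBelowQ Y).FullSubcategory) (M : DCoh.DQCoh Y),
      (M ⟶ (DCoh.RpushQ f hf).obj (a.obj K.obj)) ≃ (M ⟶ Ψ.obj K) := fun K M =>
    hff.homEquiv.trans <| (la.homEquiv M.obj (a.obj K.obj).obj).symm.trans <|
      (hffX.homEquiv (X := (Dual3.LpullQ f hLf).obj M)).symm.trans <|
        (adj.homEquiv _ _).symm.trans <| hff.homEquiv.trans <| (θ.app M).homFromEquiv.trans <|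
          ((DCoh.RSheafHomAdj E).homEquiv M.obj K.obj.obj).trans (hff.homEquiv (Y := Ψ.obj K)).symm
  have hM : ∀ (K : (Dual3.IsBddBelowQ Y).FullSubcategory) {M M' : DCoh.DQCoh Y} (v : M' ⟶ M) (z), eq K M' (v ≫ z) = v ≫ eq K M z := by
    intro K M M' v z
    apply ObjectProperty.hom_ext
    simp only [eq, Equiv.trans_apply]
    have h1 : (adj.homEquiv ((Dual3.LpullQ f hLf).obj M') K.obj).symm (ObjectProperty.homMk
        ((la.homEquiv M'.obj (a.obj K.obj).obj).symm (v ≫ z).hom)) =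
        (DCoh.RpushQ f hf).map ((Dual3.LpullQ f hLf).map v) ≫ (adj.homEquiv _ K.obj).symm (ObjectProperty.homMk
          ((la.homEquiv M.obj (a.obj K.obj).obj).symm z.hom)) := by
      rw [← adj.homEquiv_naturality_left_symm]
      congr 1
      ext1
      exact la.homEquiv_naturality_left_symm v.hom z.hom
    change (DCoh.RSheafHomAdj E).homEquiv M'.obj K.obj.obj ((θ.app M').inv ≫ ((adj.homEquiv ((Dual3.LpullQ f hLf).obj M') K.obj).symm
      (ObjectProperty.homMk ((la.homEquiv M'.obj (a.obj K.obj).obj).symm (v ≫ z).hom))).hom) = v.hom ≫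
      (DCoh.RSheafHomAdj E).homEquiv M.obj K.obj.obj ((θ.app M).inv ≫ ((adj.homEquiv ((Dual3.LpullQ f hLf).obj M) K.obj).symm
      (ObjectProperty.homMk ((la.homEquiv M.obj (a.obj K.obj).obj).symm z.hom))).hom)
    rw [h1, ← (DCoh.RSheafHomAdj E).homEquiv_naturality_left]
    refine congrArg _ ?_
    exact ((Category.assoc _ _ _).symm.trans (congrArg (· ≫ _) (θ.inv.naturality v).symm)).trans (Category.assoc _ _ _)
  let iso : ∀ K, (DCoh.RpushQ f hf).obj (a.obj K.obj) ≅ Ψ.obj K := fun K =>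
    Yoneda.fullyFaithful.preimageIso (NatIso.ofComponents (fun M => (eq K M.unop).toIso)
      (fun {M M'} v => by ext z; exact hM K v.unop z))
  have hiso : ∀ K M (z : M ⟶ (DCoh.RpushQ f hf).obj (a.obj K.obj)), z ≫ (iso K).hom = eq K M z := fun K M z => by
    have := hM K z (𝟙 _)
    rw [Category.comp_id] at this
    rw [this]
    rfl
  have hnat : ∀ {K K' : (Dual3.IsBddBelowQ Y).FullSubcategory} (φ : K ⟶ K') (M) (z : M ⟶ (DCoh.RpushQ f hf).obj (a.obj K.obj)),
      eq K' M (z ≫ (DCoh.RpushQ f hf).map (a.map φ.hom)) = eq K M z ≫ Ψ.map φ := by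
    intro K K' φ M z
    apply ObjectProperty.hom_ext
    change (DCoh.RSheafHomAdj E).homEquiv M.obj K'.obj.obj ((θ.app M).inv ≫ ((adj.homEquiv ((Dual3.LpullQ f hLf).obj M) K'.obj).symm
      (ObjectProperty.homMk ((la.homEquiv M.obj (a.obj K'.obj).obj).symm
        (z ≫ (DCoh.RpushQ f hf).map (a.map φ.hom)).hom))).hom) =
      (DCoh.RSheafHomAdj E).homEquiv M.obj K.obj.obj ((θ.app M).inv ≫ ((adj.homEquiv ((Dual3.LpullQ f hLf).obj M) K.obj).symm
        (ObjectProperty.homMk ((la.homEquiv M.obj (a.obj K.obj).obj).symm z.hom))).hom) ≫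
          (DCoh.RSheafHom E).map φ.hom.hom
    rw [← (DCoh.RSheafHomAdj E).homEquiv_naturality_right, Category.assoc]
    refine congrArg _ (congrArg (_ ≫ ·) ?_)
    have h1 : (ObjectProperty.homMk ((la.homEquiv M.obj (a.obj K'.obj).obj).symm
        (z ≫ (DCoh.RpushQ f hf).map (a.map φ.hom)).hom) : (Dual3.LpullQ f hLf).obj M ⟶ a.obj K'.obj) =
        ObjectProperty.homMk ((la.homEquiv M.obj (a.obj K.obj).obj).symm z.hom) ≫ a.map φ.hom := by
      ext1
      exact la.homEquiv_naturality_right_symm z.hom (a.map φ.hom).hom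
    rw [h1, adj.homEquiv_naturality_right_symm]
    rfl
  refine ⟨NatIso.ofComponents (fun K => (ObjectProperty.ι _).mapIso (iso K)) (fun {K K'} φ => ?_)⟩
  refine congrArg (fun t => t.hom) (?_ : (DCoh.RpushQ f hf).map (a.map φ.hom) ≫ (iso K').hom =
    (iso K).hom ≫ Ψ.map φ)
  rw [hiso, ← Category.id_comp ((DCoh.RpushQ f hf).map (a.map φ.hom)), hnat, ← hiso, Category.id_comp]

end Groth.Agent.Dual349
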