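import Mathlib
import Groth.Agent.LC.GorRing

/-!
# Nondegenerate functionals and Gorenstein finite algebras
-/

set_option autoImplicit false
set_option linter.style.haveILetI false

universe u

open IsLocalRing TensorProduct

namespace Groth.Agent.Dual349.Frob

/-- A local ring with nilpotent maximal ideal has a socle element. -/
theorem exists_socle (A : Type u) [CommRing A] [IsLocalRing A] [IsNoetherianRing A]
    (hnil : IsNilpotent (maximalIdeal A)) : ∃ s : A, s ≠ 0 ∧ ∀ r ∈ maximalIdeal A, r * s = 0 := by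
  rcases LC.exists_regular_or_socle A with ⟨x, hx, hreg⟩ | h
  · obtain ⟨N, hN⟩ := hnil
    have h0 : x ^ N = 0 := by
      have := Ideal.pow_mem_pow hx N
      rwa [hN] at this
    exact absurd (hreg.pow N (show x ^ N • (1 : A) = x ^ N • (0 : A) by simp [h0])) one_ne_zero
  · exact h

variable {K : Type u} [Field K]

/-- A finite local algebra with a nondegenerate functional is Gorenstein. -/
theorem gor_of_functional {A : Type u} [CommRing A] [IsLocalRing A] [Algebra K A] [Module.Finite K A]
    (l : A →ₗ[K] K) (hl : ∀ x, (∀ y, l (x * y) = 0) → x = 0) : LocCoh.IsGorensteinLocalRing A := by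
  haveI : IsArtinianRing A := IsArtinianRing.of_finite K A
  have hnil : IsNilpotent (maximalIdeal A) := (isArtinianRing_iff_isNilpotent_maximalIdeal A).1 inferInstance
  obtain ⟨s, hs, hms⟩ := exists_socle A hnil
  let V : Submodule K A :=
    { carrier := {t | ∀ r ∈ maximalIdeal A, r * t = 0}
      add_mem' := fun {a b} ha hb r hr => by rw [mul_add, ha r hr, hb r hr, add_zero]
      zero_mem' := fun r _ => mul_zero r
      smul_mem' := fun c a ha r hr => by rw [mul_smul_comm, ha r hr, smul_zero] }
  let M : Submodule K A := (maximalIdeal A).restrictScalars K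
  let g : V →ₗ[K] Module.Dual K (A ⧸ M) :=
    { toFun := fun t => M.liftQ (l ∘ₗ LinearMap.mulLeft K (t : A)) fun r hr => by
        show l ((t : A) * r) = 0
        rw [mul_comm, t.2 r hr, map_zero]
      map_add' := fun a b => Submodule.linearMap_qext _ (LinearMap.ext fun r => by simp [add_mul])
      map_smul' := fun c a => Submodule.linearMap_qext _ (LinearMap.ext fun r => by simp) }
  have hg : Function.Injective g := fun a b hab => Subtype.ext (sub_eq_zero.1 (hl _ fun y => by
    have := LinearMap.congr_fun hab (Submodule.Quotient.mk y)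
    change l ((a : A) * y) = l ((b : A) * y) at this
    rw [sub_mul, map_sub, this, sub_self]))
  let φ : A ⧸ M →ₗ[K] A := M.liftQ (LinearMap.mulRight K s) fun r hr => hms r hr
  have hφ : Function.Injective φ := by
    rw [injective_iff_map_eq_zero]
    intro c hc
    obtain ⟨c, rfl⟩ := Submodule.Quotient.mk_surjective _ c
    rw [Submodule.Quotient.mk_eq_zero]
    show c ∈ maximalIdeal A
    by_contra hcu
    exact hs ((notMem_maximalIdeal.1 hcu).mul_right_eq_zero.1 (show c * s = 0 from hc))
  have hle : LinearMap.range φ ≤ V := by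
    rintro _ ⟨c, rfl⟩ r hr
    obtain ⟨c, rfl⟩ := Submodule.Quotient.mk_surjective _ c
    show r * (c * s) = 0
    rw [mul_left_comm, hms r hr, mul_zero]
  have h1 : Module.finrank K V ≤ Module.finrank K (A ⧸ M) :=
    (LinearMap.finrank_le_finrank_of_injective hg).trans_eq Subspace.dual_finrank_eq
  have h2 : LinearMap.range φ = V := Submodule.eq_of_le_of_finrank_le hle
    (by rwa [LinearMap.finrank_range_of_inj hφ])
  refine LC.gorenstein_of_socle hnil hs hms fun t ht => ?_
  have ht' : t ∈ LinearMap.range φ := by rw [h2]; exact ht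
  obtain ⟨c, rfl⟩ := ht'
  obtain ⟨c, rfl⟩ := Submodule.Quotient.mk_surjective _ c
  exact ⟨c, rfl⟩

/-- A finite local Gorenstein algebra has a nondegenerate functional. -/
theorem exists_functional_of_gor (A : Type u) [CommRing A] [LocCoh.IsGorensteinLocalRing A] [Algebra K A]
    [Module.Finite K A] : ∃ l : A →ₗ[K] K, ∀ x, (∀ y, l (x * y) = 0) → x = 0 := by
  haveI : IsArtinianRing A := IsArtinianRing.of_finite K A
  have hnil : IsNilpotent (maximalIdeal A) := (isArtinianRing_iff_isNilpotent_maximalIdeal A).1 inferInstance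
  obtain ⟨N, hN⟩ := hnil
  obtain ⟨s, hs, hms⟩ := exists_socle A ⟨N, hN⟩
  obtain ⟨-, hsoc⟩ := LC.socle_of_gorenstein hs hms
  obtain ⟨l, hls⟩ : ∃ l : A →ₗ[K] K, l s ≠ 0 := by
    by_contra h
    push Not at h
    exact hs ((Module.forall_dual_apply_eq_zero_iff K s).1 h)
  refine ⟨l, fun x hx => ?_⟩
  by_contra hx0
  classical
  have hex : ∃ n, ∀ r ∈ maximalIdeal A ^ n, r * x = 0 := ⟨N, fun r hr => by
    rw [hN] at hr; rw [show r = 0 from hr, zero_mul]⟩
  have hn0 : Nat.find hex ≠ 0 := fun h0 => hx0 (by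
    have := Nat.find_spec hex
    rw [h0] at this
    simpa using this 1 (by simp))
  obtain ⟨k, hk⟩ := Nat.exists_eq_succ_of_ne_zero hn0
  have hspec := Nat.find_spec hex
  rw [hk] at hspec
  have hmin := Nat.find_min hex (show k < Nat.find hex by omega)
  push Not at hmin
  obtain ⟨r, hr, hrx⟩ := hmin
  obtain ⟨c, hc⟩ := hsoc (r * x) fun a ha => by
    rw [← mul_assoc]
    exact hspec _ (by rw [Nat.succ_eq_add_one, pow_succ']; exact Ideal.mul_mem_mul ha hr)
  have hcu : IsUnit c := by
    by_contra hcu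
    exact hrx (hc.trans (hms c ((mem_maximalIdeal c).2 hcu)))
  obtain ⟨v, hv⟩ := hcu.exists_left_inv
  apply hls
  have := hx (v * r)
  rwa [show x * (v * r) = v * (r * x) by ring, hc, ← mul_assoc, hv, one_mul] at this

/-- The localizations of a finite algebra with a nondegenerate functional are Gorenstein. -/
theorem gorensteinRing_of_functional {C : Type u} [CommRing C] [Algebra K C] [Module.Finite K C]
    (l : C →ₗ[K] K) (hl : ∀ x, (∀ y, l (x * y) = 0) → x = 0) : LocCoh.IsGorensteinRing C := by
  haveI : IsArtinianRing C := IsArtinianRing.of_finite K C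
  refine LC.gorensteinRing_of_atPrime fun P _ => ?_
  let π : C →ₐ[K] Localization.AtPrime P := IsScalarTower.toAlgHom K C _
  have hπ : Function.Surjective π := IsArtinianRing.localization_surjective P.primeCompl _
  haveI : Module.Finite K (Localization.AtPrime P) := Module.Finite.of_surjective π.toLinearMap hπ
  obtain ⟨u, huP, hu⟩ : ∃ u ∉ P, ∀ x, π x = 0 → u * x = 0 := by
    obtain ⟨T, hT⟩ := (inferInstance : IsNoetherianRing C).noetherian (RingHom.ker (π : C →+* Localization.AtPrime P))
    have key : ∀ t ∈ T, ∃ u ∉ P, u * t = 0 := fun t ht => by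
      have h0 : algebraMap C (Localization.AtPrime P) t = 0 :=
        (RingHom.mem_ker (f := (π : C →+* Localization.AtPrime P))).1 (hT ▸ Submodule.subset_span ht)
      obtain ⟨⟨u, hu⟩, hut⟩ := (IsLocalization.map_eq_zero_iff P.primeCompl _ t).1 h0
      exact ⟨u, hu, hut⟩
    choose! u hu hut using key
    classical
    refine ⟨∏ t ∈ T, u t, P.primeCompl.prod_mem hu, fun x hx => ?_⟩
    have hle : RingHom.ker (π : C →+* Localization.AtPrime P) ≤
        LinearMap.ker (LinearMap.mulLeft C (∏ t ∈ T, u t)) := by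
      rw [← hT]
      refine Submodule.span_le.2 fun t ht => ?_
      show (∏ t ∈ T, u t) * t = 0
      rw [← Finset.prod_erase_mul T u ht, mul_assoc, hut t ht, mul_zero]
    exact hle hx
  obtain ⟨σ, hσ⟩ := π.toLinearMap.exists_rightInverse_of_surjective (LinearMap.range_eq_top.2 hπ)
  have hσ' : ∀ a, π (σ a) = a := LinearMap.congr_fun hσ
  refine gor_of_functional (l ∘ₗ LinearMap.mulLeft K u ∘ₗ σ) fun a ha => ?_
  have h0 : u * σ a = 0 := hl _ fun y => by
    have h1 : u * (σ (a * π y) - σ a * y) = 0 := hu _ (by rw [map_sub, hσ', map_mul π, hσ', sub_self])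
    rw [mul_sub, sub_eq_zero, ← mul_assoc] at h1
    have := ha (π y)
    rw [← h1]
    exact this
  have h2 : π u * a = 0 := by rw [← hσ' a, ← map_mul, h0, map_zero]
  exact (IsLocalization.map_units (Localization.AtPrime P) (⟨u, huP⟩ : P.primeCompl)).mul_right_eq_zero.1 h2

/-- A local Gorenstein ring is a Gorenstein local ring. -/
theorem gorLocal_of_gorensteinRing (A : Type u) [CommRing A] [IsLocalRing A] [LocCoh.IsGorensteinRing A] :
    LocCoh.IsGorensteinLocalRing A := by
  haveI := LocCoh.IsGorensteinRing.isGorensteinLocalRing_localization (A := A) (maximalIdeal A)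
  exact LC.gorenstein_of_ringEquiv (IsLocalization.atUnits A (maximalIdeal A).primeCompl
    (S := Localization.AtPrime (maximalIdeal A)) fun x hx => notMem_maximalIdeal.1 hx).symm.toRingEquiv

/-- The Gram determinant detects nondegeneracy. -/
theorem nondeg_iff_det {C : Type u} [CommRing C] [Algebra K C] {ι : Type*} [Fintype ι] [DecidableEq ι]
    (b : Module.Basis ι K C) (l : C →ₗ[K] K) :
    (∀ x, (∀ y, l (x * y) = 0) → x = 0) ↔ (Matrix.of fun i j => l (b i * b j)).det ≠ 0 := by
  have key : ∀ (v : ι → K) (j : ι), Matrix.vecMul v (Matrix.of fun i j => l (b i * b j)) j =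
      l (b.equivFun.symm v * b j) := fun v j => by
    simp [Matrix.vecMul, dotProduct, Finset.sum_mul, map_sum, smul_mul_assoc]
  rw [Ne, ← Matrix.exists_vecMul_eq_zero_iff]
  constructor
  · rintro h ⟨v, hv, hvM⟩
    refine hv (b.equivFun.symm.injective (a₂ := 0) ?_)
    rw [map_zero]
    refine h _ fun y => ?_
    rw [← b.sum_repr y, Finset.mul_sum, map_sum]
    refine Finset.sum_eq_zero fun j _ => ?_
    rw [mul_smul_comm, map_smul, ← key, hvM]
    simp
  · intro h x hx
    by_contra hx0
    refine h ⟨b.equivFun x, fun h0 => hx0 (by simpa using h0), funext fun j => ?_⟩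
    rw [key, LinearEquiv.symm_apply_apply]
    exact hx _

/-- A functional on a free finite algebra with nondegenerate special fibre gives an open condition. -/
theorem exists_det {R C : Type u} [CommRing R] [CommRing C] [Algebra R C] [Module.Free R C] [Module.Finite R C]
    (κ₀ : Type u) [Field κ₀] [Algebra R κ₀]
    (hfrac : ∀ z : κ₀, ∃ a d : R, algebraMap R κ₀ d ≠ 0 ∧ z * algebraMap R κ₀ d = algebraMap R κ₀ a)
    [IsLocalRing (κ₀ ⊗[R] C)] (hG : LocCoh.IsGorensteinRing (κ₀ ⊗[R] C)) :
    ∃ D : R, algebraMap R κ₀ D ≠ 0 ∧ ∀ (κ : Type u) [Field κ] [Algebra R κ], algebraMap R κ D ≠ 0 →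
      LocCoh.IsGorensteinRing (κ ⊗[R] C) := by
  classical
  haveI : Nontrivial R := (algebraMap R κ₀).domain_nontrivial
  let b := Module.Free.chooseBasis R C
  haveI := gorLocal_of_gorensteinRing (κ₀ ⊗[R] C)
  obtain ⟨l₀, hl₀⟩ := exists_functional_of_gor (K := κ₀) (κ₀ ⊗[R] C)
  choose a d hd had using fun i => hfrac (l₀ (1 ⊗ₜ b i))
  let l : C →ₗ[R] R := b.constr R fun i => a i * ∏ j ∈ Finset.univ.erase i, d j
  have hev : ∀ x, algebraMap R κ₀ (l x) = algebraMap R κ₀ (∏ i, d i) * l₀ (1 ⊗ₜ x) := by
    let f₁ : C →ₗ[R] κ₀ := Algebra.linearMap R κ₀ ∘ₗ l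
    let f₂ : C →ₗ[R] κ₀ := LinearMap.mulLeft R (algebraMap R κ₀ (∏ i, d i)) ∘ₗ
      l₀.restrictScalars R ∘ₗ TensorProduct.mk R κ₀ C 1
    have : f₁ = f₂ := b.ext fun i => by
      show algebraMap R κ₀ (l (b i)) = algebraMap R κ₀ (∏ i, d i) * l₀ (1 ⊗ₜ b i)
      rw [Module.Basis.constr_basis, ← Finset.mul_prod_erase Finset.univ d (Finset.mem_univ i), map_mul, map_mul,
        ← had i]
      ring
    exact LinearMap.congr_fun this
  have hd0 : algebraMap R κ₀ (∏ i, d i) ≠ 0 := by
    rw [map_prod]
    exact Finset.prod_ne_zero_iff.2 fun i _ => hd i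
  let M : Matrix _ _ R := Matrix.of fun i j => l (b i * b j)
  have hgram : ∀ (κ : Type u) [Field κ] [Algebra R κ] (lκ : κ ⊗[R] C →ₗ[κ] κ) (c : κ),
      (∀ x, lκ (1 ⊗ₜ x) = c * algebraMap R κ (l x)) →
      (Matrix.of fun i j => lκ (Algebra.TensorProduct.basis κ b i * Algebra.TensorProduct.basis κ b j)) =
        c • (algebraMap R κ).mapMatrix M := fun κ _ _ lκ c hlκ => by
    ext i j
    simp [M, Algebra.TensorProduct.basis_apply, hlκ]
  refine ⟨M.det, ?_, fun κ _ _ hD => ?_⟩
  · rw [RingHom.map_det]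
    have h1 := (nondeg_iff_det (Algebra.TensorProduct.basis κ₀ b) l₀).1 hl₀
    rw [hgram κ₀ l₀ (algebraMap R κ₀ (∏ i, d i))⁻¹ fun x => by rw [hev, inv_mul_cancel_left₀ hd0],
      Matrix.det_smul] at h1
    exact right_ne_zero_of_mul h1
  · let lκ : κ ⊗[R] C →ₗ[κ] κ := (TensorProduct.AlgebraTensorModule.rid R κ κ).toLinearMap ∘ₗ l.baseChange κ
    refine gorensteinRing_of_functional lκ ((nondeg_iff_det (Algebra.TensorProduct.basis κ b) lκ).2 ?_)
    rw [hgram κ lκ 1 fun x => by simp [lκ, Algebra.algebraMap_eq_smul_one], one_smul, ← RingHom.map_det]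
    exact hD

/-- Openness of Gorenstein fibres for a finite flat algebra near a fibre with one point. -/
theorem exists_notMem_gorensteinRing_fiber {R C : Type u} [CommRing R] [CommRing C] [Algebra R C]
    [Module.Finite R C] [Module.FinitePresentation R C] [Module.Flat R C] (P : Ideal R) [P.IsPrime]
    [IsLocalRing (P.Fiber C)] (hG : LocCoh.IsGorensteinRing (P.Fiber C)) :
    ∃ D ∉ P, ∀ (P' : Ideal R) [P'.IsPrime], D ∉ P' → LocCoh.IsGorensteinRing (P'.Fiber C) := by
  have hmem : (⟨P, inferInstance⟩ : PrimeSpectrum R) ∈ Module.freeLocus R C := by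
    rw [Module.freeLocus_eq_univ]; trivial
  haveI : Module.Free (Localization.AtPrime P) (LocalizedModule P.primeCompl C) := hmem
  obtain ⟨f, hfP, hfree, -⟩ := Module.FinitePresentation.exists_free_localizedModule_powers P.primeCompl
    (LocalizedModule.mkLinearMap P.primeCompl C) (Localization.AtPrime P)
  haveI : Module.Free (Localization.Away f) (Localization.Away f ⊗[R] C) :=
    Module.Free.of_equiv (LocalizedModule.equivTensorProduct (Submonoid.powers f) C)
  have hu : ∀ (κ : Type u) [Field κ] [Algebra R κ], algebraMap R κ f ≠ 0 →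
      ∃ j : Localization.Away f →+* κ, j.comp (algebraMap R _) = algebraMap R κ :=
    fun κ _ _ hf => ⟨IsLocalization.Away.lift f (isUnit_iff_ne_zero.2 hf), IsLocalization.Away.lift_comp _ _⟩
  have hne : ∀ (Q : Ideal R) [Q.IsPrime] (x : R), algebraMap R Q.ResidueField x ≠ 0 ↔ x ∉ Q :=
    fun Q _ x => not_congr Ideal.algebraMap_residueField_eq_zero
  obtain ⟨j, hj⟩ := hu P.ResidueField ((hne P f).2 hfP)
  letI := j.toAlgebra
  haveI : IsScalarTower R (Localization.Away f) P.ResidueField := IsScalarTower.of_algebraMap_eq' hj.symm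
  let e := (Algebra.TensorProduct.cancelBaseChange R (Localization.Away f) P.ResidueField P.ResidueField C).toRingEquiv
  haveI : IsLocalRing (P.ResidueField ⊗[Localization.Away f] (Localization.Away f ⊗[R] C)) := e.symm.isLocalRing
  obtain ⟨D₁, hD₁, hD₁'⟩ := exists_det (C := Localization.Away f ⊗[R] C) P.ResidueField (fun z => by
    obtain ⟨z, rfl⟩ := residue_surjective z
    obtain ⟨⟨a, d⟩, h⟩ := IsLocalization.surj P.primeCompl z
    refine ⟨algebraMap R _ a, algebraMap R _ d.1, ?_, ?_⟩
    · rw [← IsScalarTower.algebraMap_apply]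
      exact (hne P _).2 d.2
    · rw [← IsScalarTower.algebraMap_apply, ← IsScalarTower.algebraMap_apply]
      exact congrArg (residue _) h)
    (LC.gorensteinRing_of_ringEquiv e.symm hG)
  obtain ⟨⟨D₀, ⟨_, n, rfl⟩⟩, hD₀⟩ := IsLocalization.surj (Submonoid.powers f) D₁
  refine ⟨D₀ * f, ?_, fun P' _ hP' => ?_⟩
  · intro h
    rcases ‹P.IsPrime›.mem_or_mem h with h | h
    · refine (hne P D₀).2 ?_ (Ideal.algebraMap_residueField_eq_zero.2 h) |>.elim
      rw [← hne P D₀, IsScalarTower.algebraMap_apply R (Localization.Away f) P.ResidueField, ← hD₀, map_mul]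
      refine mul_ne_zero hD₁ ?_
      rw [← IsScalarTower.algebraMap_apply, map_pow]
      exact pow_ne_zero _ ((hne P f).2 hfP)
    · exact hfP h
  · obtain ⟨j', hj'⟩ := hu P'.ResidueField ((hne P' f).2 fun h => hP' (P'.mul_mem_left _ h))
    letI := j'.toAlgebra
    haveI : IsScalarTower R (Localization.Away f) P'.ResidueField := IsScalarTower.of_algebraMap_eq' hj'.symm
    refine LC.gorensteinRing_of_ringEquiv
      (Algebra.TensorProduct.cancelBaseChange R (Localization.Away f) P'.ResidueField P'.ResidueField C).toRingEquiv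
      (hD₁' P'.ResidueField fun h => ?_)
    refine (hne P' D₀).2 (fun h' => hP' (P'.mul_mem_right _ h')) ?_
    rw [IsScalarTower.algebraMap_apply R (Localization.Away f) P'.ResidueField, ← hD₀, map_mul, h, zero_mul]

end Groth.Agent.Dual349.Frob
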