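import Groth.Agent.Dual349.GorOpen
import Groth.Agent.FlatB12.QfDim
import Groth.Agent.DimFormula.Fibre
import Groth.Agent.AlgSpPts.Sep
import Groth.Agent.S1343
import Groth.Agent.S1386
import Groth.Agent.S2082
import Groth.Agent.S7625

/-!
# Gorenstein morphisms and quasi-finite maps to affine space
-/

set_option autoImplicit false
set_option linter.style.haveILetI false
set_option backward.isDefEq.respectTransparency false
set_option backward.isDefEq.respectTransparency.types false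

universe u

open CategoryTheory CategoryTheory.Limits AlgebraicGeometry IsLocalRing

namespace Groth.Agent.Dual349.GorSlice

open Groth.Agent Groth.Agent.Dual349

variable {S : Scheme.{u}}

/-- The local rings of the fibres of affine space are regular. -/
theorem isRegular_fibre_stalk (n : ℕ) (y : 𝔸(ULift.{u} (Fin n); S)) :
    IsRegularLocalRing (((𝔸(ULift.{u} (Fin n); S) ↘ S).fiber ((𝔸(ULift.{u} (Fin n); S) ↘ S) y)).presheaf.stalk
      ((𝔸(ULift.{u} (Fin n); S) ↘ S).asFiber y)) := by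
  let π := 𝔸(ULift.{u} (Fin n); S) ↘ S
  let k := S.residueField (π y)
  let iso : π.fiber (π y) ≅ Spec (CommRingCat.of (MvPolynomial (ULift.{u} (Fin n)) k)) :=
    (AffineSpace.isPullback_map (n := ULift.{u} (Fin n)) (S.fromSpecResidueField (π y))).isoPullback.symm ≪≫
      AffineSpace.SpecIso _ k
  let q : PrimeSpectrum (MvPolynomial (ULift.{u} (Fin n)) k) := iso.hom (π.asFiber y)
  haveI : IsRegularLocalRing (Localization.AtPrime q.asIdeal) := IsRegularRing.isRegularLocalRing_localization q.asIdeal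
  exact IsRegularLocalRing.of_ringEquiv (R := Localization.AtPrime q.asIdeal)
    (((Spec.stalkIso (CommRingCat.of (MvPolynomial (ULift.{u} (Fin n)) k)) q).symm.commRingCatIsoToRingEquiv).trans
      (asIso (iso.hom.stalkMap (π.asFiber y))).commRingCatIsoToRingEquiv)

theorem flat_affineSpace (n : ℕ) : Flat (𝔸(ULift.{u} (Fin n); S) ↘ S) := by
  refine (Flat.iff_flat_stalkMap _).2 fun y => ?_
  exact (CMOpen5.isCMAt_affineSpace n y).1

/-- Affine space is Gorenstein over the base. -/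
theorem isGorensteinAt_affineSpace (n : ℕ) (y : 𝔸(ULift.{u} (Fin n); S)) :
    Dual3.IsGorensteinAt (𝔸(ULift.{u} (Fin n); S) ↘ S) y :=
  ⟨(CMOpen5.isCMAt_affineSpace n y).1,
    haveI := isRegular_fibre_stalk n y
    LC.gorenstein_of_isRegularLocalRing⟩

theorem fibreDimAt_affineSpace (n : ℕ) (y : 𝔸(ULift.{u} (Fin n); S)) :
    FlatMor.fibreDimAt (𝔸(ULift.{u} (Fin n); S) ↘ S) y = ((n : ℕ∞) : WithBot ℕ∞) := by
  obtain ⟨z, -, -, hz, h⟩ := FibDim.exists_fibMax_generization (𝔸(ULift.{u} (Fin n); S) ↘ S) y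
  rw [h, FibDim.rd_affineSpace_fibMax n hz]

/-- The dimension of the fibre local ring as a quotient. -/
theorem ringKrullDim_fibre_quotient {X Y : Scheme.{u}} (f : X ⟶ Y) [LocallyOfFiniteType f] (x : X) (y : Y)
    (h : f x = y) : ringKrullDim (↑(X.presheaf.stalk x) ⧸ (maximalIdeal (Y.presheaf.stalk y)).map (FibFlat.sm f x y h)) =
      (DimFormula.fb f x : WithBot ℕ∞) := by
  subst h
  rw [FibFlat.sm_self, ringKrullDim_eq_of_ringEquiv (Triage.CMMor.exists_equiv_fibre_stalk f x).some]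
  exact DimFormula.ringKrullDim_stalk_fibre f x

/-- A quasi-finite map to affine space of the fibre dimension is flat at Cohen-Macaulay points. -/
theorem flat_of_quasiFinite {U : Scheme.{u}} (n : ℕ) (g : U ⟶ 𝔸(ULift.{u} (Fin n); S))
    [LocallyOfFinitePresentation (g ≫ (𝔸(ULift.{u} (Fin n); S) ↘ S))] [LocallyOfFiniteType g] [LocallyQuasiFinite g]
    (u : U) (hcm : MoreMor.IsCMAt (g ≫ (𝔸(ULift.{u} (Fin n); S) ↘ S)) u)
    (hd : FlatMor.fibreDimAt (g ≫ (𝔸(ULift.{u} (Fin n); S) ↘ S)) u = ((n : ℕ∞) : WithBot ℕ∞)) :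
    (g.stalkMap u).hom.Flat := by
  let π := 𝔸(ULift.{u} (Fin n); S) ↘ S
  let y := g u
  let s := π y
  have hs : (g ≫ π) u = s := Scheme.Hom.comp_apply g π u
  have hg0 : FibDim.rd g u = 0 := FibDim.rd_eq_zero_of_quasiFinite g u
  have hfg : DimFormula.fb g u = 0 := by
    obtain ⟨z, -, -, -, -, he⟩ := DimFormula.exists_fibMax_top g u
    rw [FibDim.rd_eq_zero_of_quasiFinite g z, hg0] at he
    omega
  have hdim : DimFormula.fb (g ≫ π) u = DimFormula.fb π y := by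
    rw [DimFormula.fibreDimAt_eq_add, FibDim.rd_comp, hg0] at hd
    have h2 := fibreDimAt_affineSpace n y
    rw [DimFormula.fibreDimAt_eq_add] at h2
    have h1' : FibDim.rd π (g u) + 0 + DimFormula.fb (g ≫ π) u = n := by exact_mod_cast hd
    have h2' : FibDim.rd π (g u) + DimFormula.fb π (g u) = n := by exact_mod_cast h2
    show _ = DimFormula.fb π (g u)
    omega
  refine (((S1386.result g π).1 u).1 ⟨hcm.1, ?_⟩).2
  rw [FibFlat.fiberMap_flat_iff, FibFlat.ff_iff g π u y s rfl rfl]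
  let φ := FibFlat.sm g u y rfl
  let I : Ideal ((𝔸(ULift.{u} (Fin n); S)).presheaf.stalk y) :=
    (maximalIdeal (S.presheaf.stalk s)).map (FibFlat.sm π y s rfl)
  have hJ : I.map φ = (maximalIdeal (S.presheaf.stalk s)).map (FibFlat.sm (g ≫ π) u s hs) :=
    CMOpen5.map_map_sm g π (g ≫ π) rfl u y s rfl rfl hs
  haveI : IsRegularLocalRing (↑((𝔸(ULift.{u} (Fin n); S)).presheaf.stalk y) ⧸ I) := by
    haveI := isRegular_fibre_stalk n y
    obtain ⟨e⟩ := Triage.CMMor.exists_equiv_fibre_stalk_aux π y s rfl (π.asFiber y) (π.fiberι_asFiber y)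
    exact IsRegularLocalRing.of_ringEquiv (R := (π.fiber (π y)).presheaf.stalk (π.asFiber y)) e.symm
  haveI hB : LocCoh.IsCohenMacaulayLocalRing (↑(U.presheaf.stalk u) ⧸ I.map φ) :=
    Triage.CMMor.isCM_of_equiv (Ideal.quotEquivOfEq hJ.symm) ((Triage.CMMor.isCMAt_iff_sm (g ≫ π) u s hs).1 hcm).2
  letI : Algebra (↑((𝔸(ULift.{u} (Fin n); S)).presheaf.stalk y) ⧸ I) (↑(U.presheaf.stalk u) ⧸ I.map φ) :=
    (Ideal.quotientMap (I.map φ) φ Ideal.le_comap_map).toAlgebra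
  haveI : IsLocalHom φ := by
    show IsLocalHom (FibFlat.sm g u (g u) rfl)
    rw [FibFlat.sm_self]; infer_instance
  haveI : IsLocalHom (Ideal.Quotient.mk (I.map φ)) := IsLocalHom.of_surjective _ Ideal.Quotient.mk_surjective
  haveI : IsLocalHom (algebraMap (↑((𝔸(ULift.{u} (Fin n); S)).presheaf.stalk y) ⧸ I)
      (↑(U.presheaf.stalk u) ⧸ I.map φ)) := by
    constructor
    intro z hz
    obtain ⟨z, rfl⟩ := Ideal.Quotient.mk_surjective z
    exact (isUnit_of_map_unit φ z (isUnit_of_map_unit (Ideal.Quotient.mk (I.map φ)) _ hz)).map _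
  have hIm : I ≤ maximalIdeal _ :=
    le_maximalIdeal fun h => Ideal.Quotient.nontrivial_iff.1 (inferInstance :
      Nontrivial (↑((𝔸(ULift.{u} (Fin n); S)).presheaf.stalk y) ⧸ I)) h
  refine S2082.result ?_
  have h0 : ringKrullDim ((↑(U.presheaf.stalk u) ⧸ I.map φ) ⧸
      (maximalIdeal (↑((𝔸(ULift.{u} (Fin n); S)).presheaf.stalk y) ⧸ I)).map
        (algebraMap (↑((𝔸(ULift.{u} (Fin n); S)).presheaf.stalk y) ⧸ I) (↑(U.presheaf.stalk u) ⧸ I.map φ))) = 0 := by
    have hm : (maximalIdeal (↑((𝔸(ULift.{u} (Fin n); S)).presheaf.stalk y) ⧸ I)).map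
        (algebraMap _ (↑(U.presheaf.stalk u) ⧸ I.map φ)) =
        ((maximalIdeal _).map φ).map (Ideal.Quotient.mk (I.map φ)) := by
      rw [← map_maximalIdeal_of_surjective (Ideal.Quotient.mk I) Ideal.Quotient.mk_surjective]
      refine (Ideal.map_map _ _).trans (Eq.trans ?_ (Ideal.map_map φ (Ideal.Quotient.mk (I.map φ))).symm)
      exact congrArg (fun h => Ideal.map h (maximalIdeal _)) (RingHom.ext fun _ => rfl)
    rw [ringKrullDim_eq_of_ringEquiv ((Ideal.quotEquivOfEq hm).trans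
      (DoubleQuot.quotQuotEquivQuotOfLE (Ideal.map_mono hIm))), ringKrullDim_fibre_quotient g u y rfl, hfg]
    rfl
  rw [h0, add_zero, ringKrullDim_eq_of_ringEquiv (Ideal.quotEquivOfEq hJ), ringKrullDim_fibre_quotient (g ≫ π) u s hs,
    ringKrullDim_fibre_quotient π y s rfl, hdim]

variable {X : Scheme.{u}} (f : X ⟶ S) [LocallyOfFinitePresentation f]

theorem hN_of_lft {X Y : Scheme.{u}} (f : X ⟶ Y) [LocallyOfFiniteType f] (y : Y) :
    IsLocallyNoetherian (f.fiber y) :=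
  LocallyOfFiniteType.isLocallyNoetherian (f.fiberToSpecResidueField y)

/-- Being Gorenstein is detected by a flat map to affine space. -/
theorem iff_of_flat {n : ℕ} (U : X.Opens) (g : (U : Scheme.{u}) ⟶ 𝔸(ULift.{u} (Fin n); S))
    (hg : g ≫ (𝔸(ULift.{u} (Fin n); S) ↘ S) = U.ι ≫ f) (z : (U : Scheme.{u})) (hflat : (g.stalkMap z).hom.Flat) :
    Dual3.IsGorensteinAt f (U.ι z) ↔ Dual3.IsGorensteinAt g z := by
  haveI : LocallyOfFiniteType (g ≫ (𝔸(ULift.{u} (Fin n); S) ↘ S)) := by rw [hg]; infer_instance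
  rw [← AlgSpC7.GorScheme.isGorensteinAt_precomp U.ι f (hN_of_lft f) z, ← hg,
    isGorensteinAt_comp_iff g _ z hflat (hN_of_lft _ _) (hN_of_lft _ _)]
  exact and_iff_left (isGorensteinAt_affineSpace n _)

theorem lfp_of_over {n : ℕ} (U : X.Opens) (g : (U : Scheme.{u}) ⟶ 𝔸(ULift.{u} (Fin n); S))
    (hg : g ≫ (𝔸(ULift.{u} (Fin n); S) ↘ S) = U.ι ≫ f) : LocallyOfFinitePresentation g := by
  let π := 𝔸(ULift.{u} (Fin n); S) ↘ S
  haveI : LocallyOfFinitePresentation (g ≫ π) := by rw [hg]; infer_instance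
  haveI : LocallyOfFiniteType g := locallyOfFiniteType_of_comp g π
  exact AlgSpPts.locallyOfFinitePresentation_of_comp g π

theorem localFibreDim_eq {X Y : Scheme.{u}} (f : X ⟶ Y) (x : X) :
    Dual3.localFibreDim f x = FlatMor.fibreDimAt f x :=
  (iInf_subtype' (f := fun (U : (f.fiber (f x)).Opens) (_ : f.asFiber x ∈ U) => topologicalKrullDim ↥U))

/-- At a Gorenstein point a map to affine space of the fibre dimension, quasi-finite there, is Gorenstein there. -/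
theorem gor_of_quasiFiniteAt {d : ℕ} (x : X) (hd : Dual3.localFibreDim f x = (d : WithBot ℕ∞))
    (hG : Dual3.IsGorensteinAt f x) (U : X.Opens) (hx : x ∈ U)
    (g : (U : Scheme.{u}) ⟶ 𝔸(ULift.{u} (Fin d); S)) (hg : g ≫ (𝔸(ULift.{u} (Fin d); S) ↘ S) = U.ι ≫ f)
    (hqf : Dual3.QuasiFiniteAt g ⟨x, hx⟩) : Dual3.IsGorensteinAt g ⟨x, hx⟩ := by
  haveI := lfp_of_over f U g hg
  let π := 𝔸(ULift.{u} (Fin d); S) ↘ S
  let W : (U : Scheme.{u}).Opens := g.quasiFiniteLocus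
  have hxW : (⟨x, hx⟩ : (U : Scheme.{u})) ∈ W := Scheme.Hom.quasiFiniteAt_iff_isOpen_singleton_asFiber.2 hqf
  let w : (W : Scheme.{u}) := ⟨⟨x, hx⟩, hxW⟩
  let g' : (W : Scheme.{u}) ⟶ 𝔸(ULift.{u} (Fin d); S) := W.ι ≫ g
  have hcomp : g' ≫ π = (W.ι ≫ U.ι) ≫ f := by
    show (W.ι ≫ g) ≫ π = _
    rw [Category.assoc, hg, Category.assoc]
  haveI : LocallyOfFinitePresentation (g' ≫ π) := by rw [hcomp]; infer_instance
  have hj : (W.ι ≫ U.ι) w = x := rfl
  have hflat' : (g'.stalkMap w).hom.Flat := by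
    refine flat_of_quasiFinite d g' w ?_ ?_
    · refine GorOpen.isCMAt_of_isGorensteinAt _ _ ?_
      rw [hcomp, AlgSpC7.GorScheme.isGorensteinAt_precomp _ f (hN_of_lft f) w, hj]
      exact hG
    · rw [hcomp, FibDim.fibreDimAt_openImmersion_comp, hj, ← localFibreDim_eq, hd]
      rfl
  exact (iff_of_flat f U g hg ⟨x, hx⟩ ((FibFlat.flat_stalk_open_comp W.ι g w).1 hflat')).1 hG

theorem exists_gorenstein_chart [Flat f] {d : ℕ} (x : X) (hd : Dual3.localFibreDim f x = (d : WithBot ℕ∞))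
    (hG : Dual3.IsGorensteinAt f x) :
    ∃ (U : X.Opens) (_ : x ∈ U) (g : (U : Scheme.{u}) ⟶ 𝔸(ULift.{u} (Fin d); S)),
      g ≫ (𝔸(ULift.{u} (Fin d); S) ↘ S) = U.ι ≫ f ∧ LocallyQuasiFinite g ∧ Dual3.IsGorensteinMor g := by
  obtain ⟨U, g, hx, hg, hflat, hqf⟩ := (S1343.result f x d ((localFibreDim_eq f x).symm.trans hd)).1
    (GorOpen.isCMAt_of_isGorensteinAt f x hG)
  haveI := lfp_of_over f U g hg
  let W : (U : Scheme.{u}).Opens := ⟨_, GorOpen.isOpen_isGorensteinAt g⟩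
  have hxW : (⟨x, hx⟩ : (U : Scheme.{u})) ∈ W :=
    (iff_of_flat f U g hg ⟨x, hx⟩ ((Flat.iff_flat_stalkMap g).1 hflat _)).1 hG
  let U' : X.Opens := U.ι ''ᵁ W
  have hU' : U' ≤ U := by rintro _ ⟨w, -, rfl⟩; exact w.2
  let j := X.homOfLE hU'
  refine ⟨U', ⟨⟨x, hx⟩, hxW, rfl⟩, j ≫ g, ?_, ?_, fun z => ?_⟩
  · rw [Category.assoc, hg, ← Category.assoc, X.homOfLE_ι]
  · infer_instance
  · have hzW : j z ∈ W := by
      obtain ⟨w, hw, hwz⟩ := z.2
      rwa [show w = j z from U.ι.isOpenEmbedding.injective (hwz.trans (by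
        rw [← Scheme.Hom.comp_apply, X.homOfLE_ι]; rfl))] at hw
    exact (AlgSpC7.GorScheme.isGorensteinAt_precomp j g (hN_of_lft g) z).2 hzW

theorem exists_quasiFinite_chart {d : ℕ} (x : X) (hd : Dual3.localFibreDim f x = (d : WithBot ℕ∞)) :
    ∃ (U : X.Opens) (hx : x ∈ U) (g : (U : Scheme.{u}) ⟶ 𝔸(ULift.{u} (Fin d); S)),
      g ≫ (𝔸(ULift.{u} (Fin d); S) ↘ S) = U.ι ≫ f ∧ Dual3.QuasiFiniteAt g ⟨x, hx⟩ := by
  obtain ⟨V, hV, hxV, -⟩ := exists_isAffineOpen_mem_and_subset (U := (⊤ : S.Opens)) (x := f x) trivial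
  obtain ⟨U, -, hx, g, π', hg, hπ', hqf, hlft⟩ :=
    S7625.result f x V hV hxV d ((localFibreDim_eq f x).symm.trans hd)
  haveI : IsOpenImmersion (AffineSpace.map (ULift.{u} (Fin d)) V.ι) :=
    MorphismProperty.of_isPullback (AffineSpace.isPullback_map V.ι).flip inferInstance
  refine ⟨U, hx, π' ≫ AffineSpace.map _ V.ι, ?_, ?_⟩
  · rw [Category.assoc, AffineSpace.map_over, reassoc_of% hπ', hg]
  · exact Scheme.Hom.quasiFiniteAt_iff_isOpen_singleton_asFiber.1
      ((π' ≫ AffineSpace.map _ V.ι).quasiFiniteAt ⟨x, hx⟩)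

end Groth.Agent.Dual349.GorSlice
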