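import Groth.Agent.Dual349.ClosedUnit
import Groth.Agent.Dual349.KerStalk
import Groth.Agent.KFlatLib.Scheme.Grothendieck
import Groth.Prelude.Def_Dual3
import Mathlib.CategoryTheory.Adjunction.AdjointFunctorTheorems

/-!
# The right adjoint `Hom(O_Z, -)` of `i_*` along a closed immersion
-/

set_option autoImplicit false
set_option linter.style.haveILetI false
set_option backward.isDefEq.respectTransparency false

universe u

open CategoryTheory CategoryTheory.Limits AlgebraicGeometry TopologicalSpace Opposite

namespace Groth.Agent.Dual349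

open KFlatLib

variable {Z X : Scheme.{u}} (i : Z ⟶ X) [IsClosedImmersion i]

theorem preservesColimits_push : PreservesColimitsOfSize.{u, u} (Scheme.Modules.pushforward i) :=
  ⟨fun {K} _ => preservesColimitsOfShape_push i K⟩

theorem preservesFiniteColimits_push : PreservesFiniteColimits (Scheme.Modules.pushforward i) :=
  ⟨fun J _ _ => preservesColimitsOfShape_push i J⟩

theorem preservesFiniteLimits_push : PreservesFiniteLimits (Scheme.Modules.pushforward i) := by
  haveI : (Scheme.Modules.pushforward i).IsRightAdjoint :=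
    (Scheme.Modules.pullbackPushforwardAdjunction i).isRightAdjoint
  infer_instance

theorem hasHomO : Dual3.HasHomO i := by
  haveI := preservesColimits_push i
  exact isLeftAdjoint_of_preservesColimits_of_isSeparating
    (P := ObjectProperty.singleton (separator Z.Modules)) (isSeparator_separator Z.Modules) _

theorem stalkIdeal_le (U : X.affineOpens) (y : X) (hy : y ∈ U.1) :
    stalkIdeal i y ≤ (i.ker.ideal U).map (X.presheaf.germ U.1 y hy).hom := by
  by_cases hr : y ∈ Set.range i.base
  · obtain ⟨z, rfl⟩ := hr
    intro a ha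
    refine ker_stalkMap_le i U z hy ?_
    have := (Submodule.mem_iInf _).1 ((Submodule.mem_iInf _).1 ha z) rfl
    rwa [RingHom.mem_ker, show FibFlat.sm i z (i.base z) rfl = (i.stalkMap z).hom from FibFlat.sm_self i z] at this
  · refine le_top.trans (top_le_iff.2 ?_)
    have hy' : y ∉ i.ker.support := by
      rw [← SetLike.mem_coe, Scheme.Hom.support_ker]
      exact fun h => hr (i.isClosedEmbedding.isClosed_range.closure_subset h)
    rw [Scheme.IdealSheafData.mem_support_iff_of_mem hy, Scheme.mem_zeroLocus_iff] at hy'
    push Not at hy'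
    obtain ⟨a, ha, hay⟩ := hy'
    refine Ideal.eq_top_of_isUnit_mem _ (Ideal.mem_map_of_mem _ ha) ?_
    exact (Scheme.mem_basicOpen X a y hy).1 hay

variable [Dual3.HasHomO i]

instance mono_counit (F : X.Modules) : Mono ((Dual3.homOAdj i).counit.app F) := by
  refine Preadditive.mono_of_cancel_zero _ fun {M} T hT => ?_
  let A := Scheme.Modules.pullbackPushforwardAdjunction i
  have hT' : A.unit.app M ≫ (Scheme.Modules.pushforward i).map ((A.homEquiv _ _).symm T) = T :=
    (A.homEquiv_unit _ _ _).symm.trans (Equiv.apply_symm_apply _ _)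
  have h1 : (Scheme.Modules.pushforward i).map ((A.homEquiv _ _).symm T) ≫
      (Dual3.homOAdj i).counit.app F = 0 := by
    rw [← cancel_epi (A.unit.app M), ← Category.assoc, hT', comp_zero]
    exact hT
  have h2 : ((Dual3.homOAdj i).homEquiv _ _).symm ((A.homEquiv _ _).symm T) = 0 :=
    ((Dual3.homOAdj i).homEquiv_counit _ _ _).trans h1
  rw [← hT', show (A.homEquiv _ _).symm T = 0 from
    ((Dual3.homOAdj i).homEquiv _ _).symm.injective (h2.trans (by simp [Adjunction.homEquiv_counit]))]
  simp

theorem counit_injective (F : X.Modules) (U : X.Opens) :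
    Function.Injective (((Dual3.homOAdj i).counit.app F).app U) :=
  QCoh.app_injective _ U

theorem range_counit (F : X.Modules) (U : X.affineOpens) (s : Γ(F, U.1)) :
    s ∈ Set.range (((Dual3.homOAdj i).counit.app F).app U.1) ↔
      ∀ a ∈ i.ker.ideal U, a • s = 0 := by
  constructor
  · rintro ⟨w, rfl⟩ a ha
    rw [← Scheme.Modules.Hom.app_smul]
    refine (congrArg _ ?_).trans (map_zero _)
    rw [Scheme.Hom.ker_apply, RingHom.mem_ker] at ha
    exact (congrArg (fun t : Γ(Z, i ⁻¹ᵁ U.1) => t • (show Γ((Dual3.homO i).obj F, i ⁻¹ᵁ U.1) from w)) ha).trans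
      (zero_smul _ _)
  · intro hs
    have hmem : s ∈ (annSub i F).mem U.1 := fun y hy a ha => by
      have h := stalkIdeal_le i U y hy ha
      refine Submodule.span_induction ?_ (zero_smul _ _) (fun p q _ _ hp hq => by rw [add_smul, hp, hq, add_zero])
        (fun c p _ hp => by rw [smul_assoc, hp, smul_zero]) h
      rintro _ ⟨r, hr, rfl⟩
      rw [← germ_smul, hs r hr, map_zero]
    obtain ⟨t, ht⟩ := (annSub i F).exists_app_eq hmem
    let A := Scheme.Modules.pullbackPushforwardAdjunction i
    let G := (annSub i F).toModules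
    let g : (Scheme.Modules.pushforward i).obj ((Scheme.Modules.pullback i).obj G) ⟶ F :=
      inv (A.unit.app G) ≫ (annSub i F).ι
    have hg : A.unit.app G ≫ (Scheme.Modules.pushforward i).map ((Dual3.homOAdj i).homEquiv _ _ g) ≫
        (Dual3.homOAdj i).counit.app F = (annSub i F).ι := by
      refine (congrArg (A.unit.app G ≫ ·) (((Dual3.homOAdj i).homEquiv_counit _ _ _).symm.trans
        (Equiv.symm_apply_apply _ _))).trans ?_
      exact IsIso.hom_inv_id_assoc _ _
    rw [← ht, ← hg]
    exact ⟨_, rfl⟩

end Groth.Agent.Dual349
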