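import Groth.Agent.Dual349.ClosedUnit
import Groth.Agent.Dual349.KerStalk
import Groth.Agent.QCoh.Extension
import Groth.Agent.Lib.CurveBundle
import Groth.Prelude.Def_Dual3
import Mathlib.RingTheory.Filtration

/-!
# Sections lying in all `Iⁿ F`
-/

set_option autoImplicit false
set_option linter.style.haveILetI false
set_option backward.isDefEq.respectTransparency false
set_option backward.isDefEq.respectTransparency.types false

universe u

open CategoryTheory CategoryTheory.Limits AlgebraicGeometry TopologicalSpace Opposite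

namespace Groth.Agent.Dual349

variable {X : Scheme.{u}}

/-- A section lies in `J·F` iff the unit kills it. -/
theorem mem_idealMul_iff (J : X.IdealSheafData) (F : X.Modules) (U : X.Opens) (s : Γ(F, U)) :
    (∃ t, (Dual3.idealMulι J F).app U t = s) ↔
      ((Scheme.Modules.pullbackPushforwardAdjunction J.subschemeι).unit.app F).app U s = 0 := by
  let u := (Scheme.Modules.pullbackPushforwardAdjunction J.subschemeι).unit.app F
  haveI : Epi u := epi_unit J.subschemeι F
  have hS : (ShortComplex.mk (kernel.ι u) u (kernel.condition u)).ShortExact :=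
    { exact := ShortComplex.exact_of_f_is_kernel _ (kernelIsKernel u) }
  constructor
  · rintro ⟨t, rfl⟩
    exact QCoh.app_g_f (S := ShortComplex.mk (kernel.ι u) u (kernel.condition u)) U t
  · exact QCoh.exists_app_f_eq hS U s

/-- The unit of a closed immersion kills a section iff it kills its germs on the subscheme. -/
theorem unit_app_eq_zero_iff {Z : Scheme.{u}} (i : Z ⟶ X) [IsClosedImmersion i] (F : X.Modules) (U : X.Opens)
    (s : Γ(F, U)) :
    ((Scheme.Modules.pullbackPushforwardAdjunction i).unit.app F).app U s = 0 ↔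
      ∀ (z : Z) (hz : i.base z ∈ U), unitStalk i F z (F.presheaf.germ U (i.base z) hz s) = 0 := by
  constructor
  · intro h z hz
    rw [unitStalk_germ, h, map_zero]
  · intro h
    refine TopCat.Presheaf.section_ext
      (⟨((Scheme.Modules.pullback i).obj F).presheaf, ((Scheme.Modules.pullback i).obj F).isSheaf⟩ :
        TopCat.Sheaf Ab.{u} Z) (i ⁻¹ᵁ U) _ _ fun z hz => ?_
    have := h z hz
    rw [unitStalk_germ] at this
    exact this.trans (map_zero _).symm

/-- Sections in all `Iⁿ F` are those vanishing near the zero locus. -/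
theorem mem_all_idealMul_iff [IsLocallyNoetherian X] (I : X.IdealSheafData) (F : X.Modules) (hF : Coh.IsCoh F)
    (s : Γ(F, (⊤ : X.Opens))) :
    (∀ n : ℕ, ∃ t, (Dual3.idealMulι (I ^ n) F).app ⊤ t = s) ↔
      ∃ V : X.Opens, I.supportSet ⊆ (V : Set X) ∧ F.presheaf.map (homOfLE le_top : V ⟶ ⊤).op s = 0 := by
  simp only [mem_idealMul_iff, unit_app_eq_zero_iff]
  constructor
  · intro h
    let V : X.Opens := sSup {W | F.presheaf.map (homOfLE le_top : W ⟶ ⊤).op s = 0}
    refine ⟨V, fun x hx => ?_, ?_⟩
    · obtain ⟨_, ⟨U, hU, rfl⟩, hxU, -⟩ :=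
        X.isBasis_affineOpens.exists_subset_of_mem_open (Set.mem_univ x) isOpen_univ
      haveI := QCoh.finite_stalk_of_isFT hF.1 hF.2 x
      have hm : ∀ f ∈ I.ideal ⟨U, hU⟩, X.presheaf.germ U x hxU f ∈ IsLocalRing.maximalIdeal (X.presheaf.stalk x) := by
        intro f hf
        have h1 := (Scheme.IdealSheafData.mem_supportSet_iff_of_mem (U := ⟨U, hU⟩) hxU).1 hx
        rw [Scheme.mem_zeroLocus_iff] at h1
        exact fun hunit => h1 f hf ((Scheme.mem_basicOpen X f x hxU).2 hunit)
      have hg : F.presheaf.germ ⊤ x trivial s = 0 := by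
        rw [← Submodule.mem_bot (X.presheaf.stalk x), ← Ideal.iInf_pow_smul_eq_bot_of_isLocalRing
          (M := F.presheaf.stalk x) _ (IsLocalRing.maximalIdeal.isMaximal _).ne_top, Submodule.mem_iInf]
        intro n
        have hxn : x ∈ Set.range (I ^ (n + 1)).subschemeι := by
          rw [Scheme.IdealSheafData.range_subschemeι, Scheme.IdealSheafData.support_pow_succ]
          exact hx
        obtain ⟨z, hz⟩ := hxn
        subst hz
        refine Submodule.smul_mono_left ?_ (mem_of_unitStalk_eq_zero _ F z _ (h (n + 1) z trivial))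
        refine (ker_stalkMap_le _ ⟨U, hU⟩ z hxU).trans ?_
        rw [Scheme.IdealSheafData.ker_subschemeι, Scheme.IdealSheafData.ideal_pow, Pi.pow_apply, Ideal.map_pow]
        exact (Ideal.pow_right_mono (Ideal.map_le_iff_le_comap.2 hm) _).trans (Ideal.pow_le_pow_right (Nat.le_succ n))
      obtain ⟨W, hW, i₁, i₂, he⟩ := F.presheaf.germ_eq x (U := ⊤) (V := ⊤) trivial trivial s 0
        (hg.trans (map_zero _).symm)
      rw [map_zero] at he
      exact Opens.mem_sSup.2 ⟨W, he, hW⟩
    · refine TopCat.Presheaf.section_ext (⟨F.presheaf, F.isSheaf⟩ : TopCat.Sheaf Ab.{u} X) V _ _ fun y hy => ?_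
      obtain ⟨W, hW, hyW⟩ := Opens.mem_sSup.1 hy
      refine (TopCat.Presheaf.germ_res_apply _ _ _ _ _).trans (Eq.trans ?_ (map_zero _).symm)
      rw [← TopCat.Presheaf.germ_res_apply F.presheaf (homOfLE le_top : W ⟶ ⊤) y hyW s, hW, map_zero]
  · rintro ⟨V, hV, hs⟩ n z hz
    rcases n with _ | n
    · have := Set.mem_range_self (f := (I ^ 0).subschemeι) z
      rw [Scheme.IdealSheafData.range_subschemeι] at this
      simp at this
    · have hzV : (I ^ (n + 1)).subschemeι z ∈ V := hV (by
        have := Set.mem_range_self (f := (I ^ (n + 1)).subschemeι) z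
        rw [Scheme.IdealSheafData.range_subschemeι, Scheme.IdealSheafData.support_pow_succ] at this
        exact this)
      rw [← TopCat.Presheaf.germ_res_apply F.presheaf (homOfLE le_top : V ⟶ ⊤) _ hzV s, hs, map_zero, map_zero]

end Groth.Agent.Dual349
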