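import Groth.Agent.KFlatLib.Scheme.RestrictHom
import Groth.Agent.KFlatLib.Scheme.LocalQis

/-!
# The evaluation map of the internal hom restricts to the evaluation map
-/

set_option autoImplicit false
set_option linter.style.haveILetI false
set_option backward.isDefEq.respectTransparency false

universe u

open CategoryTheory CategoryTheory.Limits AlgebraicGeometry

attribute [local instance] HasDerivedCategory.standard

namespace Groth.Agent.Dual349

open KFlatLib

section General

variable {A B : Type*} [Category A] [Category B] {L : A ⥤ B} {R : B ⥤ A} (l : L ⊣ R)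
  {F : B ⥤ B} {G : B ⥤ B} (aB : F ⊣ G) {F' : A ⥤ A} {G' : A ⥤ A} (aA : F' ⊣ G') (α : R ⋙ F' ≅ F ⋙ R)

/-- The mate of a comparison of two left adjoints along `R`. -/
noncomputable def mate (I : B) : R.obj (G.obj I) ⟶ G'.obj (R.obj I) :=
  aA.homEquiv _ _ (α.hom.app _ ≫ R.map (aB.counit.app I))

theorem mate_counit (I : B) :
    F'.map (mate aB aA α I) ≫ aA.counit.app (R.obj I) = α.hom.app _ ≫ R.map (aB.counit.app I) :=
  (aA.homEquiv_counit _ _ _).symm.trans (Equiv.symm_apply_apply _ _)

/-- The projection map. -/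
noncomputable def projMate (N : A) : L.obj (F'.obj N) ⟶ F.obj (L.obj N) :=
  (l.homEquiv _ _).symm (F'.map (l.unit.app N) ≫ α.hom.app (L.obj N))

theorem unit_projMate (N : A) :
    l.unit.app (F'.obj N) ≫ R.map (projMate l α N) = F'.map (l.unit.app N) ≫ α.hom.app (L.obj N) :=
  (l.homEquiv_unit _ _ _).symm.trans (Equiv.apply_symm_apply _ _)

theorem isIso_mate (h : ∀ N, IsIso (projMate l α N)) (I : B) : IsIso (mate aB aA α I) := by
  refine isIso_of_yoneda_map_bijective _ fun N => ?_
  haveI := h N
  let e : (N ⟶ R.obj (G.obj I)) ≃ (N ⟶ G'.obj (R.obj I)) :=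
    (l.homEquiv _ _).symm.trans ((aB.homEquiv _ _).symm.trans
      (((asIso (projMate l α N)).homFromEquiv (Z := I)).symm.trans ((l.homEquiv _ _).trans (aA.homEquiv _ _))))
  suffices hm : ∀ a, a ≫ mate aB aA α I = e a by
    simpa only [funext hm] using e.bijective
  intro a
  obtain ⟨b, rfl⟩ := (l.homEquiv N _).surjective a
  refine (aA.homEquiv _ _).symm.injective ?_
  have he : (aA.homEquiv _ _).symm (e (l.homEquiv _ _ b)) =
      l.homEquiv _ _ (projMate l α N ≫ (aB.homEquiv _ _).symm b) := by
    simp only [e, Equiv.trans_apply, Equiv.symm_apply_apply]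
    rfl
  rw [he, aA.homEquiv_naturality_left_symm, mate, Equiv.symm_apply_apply, l.homEquiv_naturality_right, projMate,
    Equiv.apply_symm_apply, aB.homEquiv_counit, Adjunction.homEquiv_unit, Functor.map_comp, Functor.map_comp]
  simp only [Category.assoc]
  exact congrArg (_ ≫ ·) (α.hom.naturality_assoc b _)

theorem quasiIso_iff_of_square {C : Type*} [Category C] [Abelian C] {M M' N K : CochainComplex C ℤ}
    (u : M ⟶ N) (e : N ⟶ K) (v : M ⟶ M') (f : M' ⟶ K) (h : u ≫ e = v ≫ f) (hu : IsIso u) (hv : IsIso v) :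
    QuasiIso f ↔ QuasiIso e := by
  constructor
  · intro hf
    haveI : QuasiIso (u ≫ e) := by rw [h]; infer_instance
    exact quasiIso_of_comp_left u e
  · intro he
    haveI : QuasiIso (v ≫ f) := by rw [← h]; infer_instance
    exact quasiIso_of_comp_left v f

end General

variable {U X : Scheme.{u}} (j : U ⟶ X) [IsOpenImmersion j]

/-- Tensor products of complexes restrict, naturally in the first factor. -/
noncomputable def tenRes (P : CochainComplex X.Modules ℤ) :
    rCx j ⋙ Inner.tenX (DCoh.tensorBi (X := U)) ((rCx j).obj P) ≅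
      Inner.tenX (DCoh.tensorBi (X := X)) P ⋙ rCx j :=
  totalMapNatIso (restrictTensorBiIso j) P

theorem isIso_lshCxAdj_unit (N : CochainComplex U.Modules ℤ) : IsIso ((lshCxAdj j).unit.app N) := by
  haveI : ∀ i, IsIso (((lshCxAdj j).unit.app N).f i) := fun i =>
    inferInstanceAs (IsIso ((lshAdj j).unit.app (N.X i)))
  exact HomologicalComplex.Hom.isIso_of_components _

theorem isIso_projCx (P : CochainComplex X.Modules ℤ) (N : CochainComplex U.Modules ℤ) :
    IsIso (projMate (lshCxAdj j) (tenRes j P) N) := by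
  haveI : ∀ n, IsIso ((projMate (lshCxAdj j) (tenRes j P) N).f n) := fun n => by
    let M := (Inner.tenX (DCoh.tensorBi (X := U)) ((rCx j).obj P)).obj N
    let e := (totalProjIso (Ψ := lsh j) (R := Scheme.Modules.restrictFunctor j) (T := DCoh.tensorBi (X := U))
      (S := DCoh.tensorBi (X := X)) (projIso j) (lshCx j) rfl (rCx j) rfl _ rfl _ rfl P).app N
    refine isIso_of_restrict_of_stalk j _ ?_ (fun x hx => isZero_stalk_lsh j x hx _) fun x hx => ?_
    · haveI := isIso_lshCxAdj_unit j N
      haveI : IsIso ((lshCxAdj j).unit.app M ≫ (rCx j).map (projMate (lshCxAdj j) (tenRes j P) N)) := by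
        rw [unit_projMate]
        infer_instance
      haveI := isIso_lshCxAdj_unit j M
      haveI : IsIso ((rCx j).map (projMate (lshCxAdj j) (tenRes j P) N)) :=
        IsIso.of_isIso_comp_left ((lshCxAdj j).unit.app M) _
      exact inferInstanceAs (IsIso (((rCx j).map (projMate (lshCxAdj j) (tenRes j P) N)).f n))
    · exact (isZero_stalk_lsh j x hx (M.X n)).of_iso
        ((DerSch.stalkFunctor X x).mapIso ((HomologicalComplex.eval _ _ n).mapIso e))
  exact HomologicalComplex.Hom.isIso_of_components _

/-- The comparison of internal homs with restriction. -/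
noncomputable def innerRes (P I : CochainComplex X.Modules ℤ) :
    (rCx j).obj ((iHom P).obj I) ⟶ (iHom ((rCx j).obj P)).obj ((rCx j).obj I) :=
  mate (iHomAdj P) (iHomAdj ((rCx j).obj P)) (tenRes j P) I

theorem isIso_innerRes (P I : CochainComplex X.Modules ℤ) : IsIso (innerRes j P I) :=
  isIso_mate (lshCxAdj j) _ _ _ (isIso_projCx j P) I

/-- The evaluation is a quasi-isomorphism on the open iff the evaluation of the restricted data is. -/
theorem quasiIso_rCx_counit_iff (P I : CochainComplex X.Modules ℤ) :
    QuasiIso ((rCx j).map ((iHomAdj P).counit.app I)) ↔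
      QuasiIso ((iHomAdj ((rCx j).obj P)).counit.app ((rCx j).obj I)) := by
  exact quasiIso_iff_of_square _ _ _ _ (mate_counit (iHomAdj P) (iHomAdj ((rCx j).obj P)) (tenRes j P) I)
    (@Functor.map_isIso _ _ _ _ _ _ (Inner.tenX (DCoh.tensorBi (X := U)) ((rCx j).obj P)) _ (isIso_innerRes j P I))
    ((tenRes j P).app _).isIso_hom

end Groth.Agent.Dual349
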