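import Mathlib.CategoryTheory.Adjunction.Basic

/-!
# The base-change map of right adjoints, abstractly
-/

set_option autoImplicit false
set_option backward.isDefEq.respectTransparency false

universe v₁ v₂ v₃ v₄ u₁ u₂ u₃ u₄

open CategoryTheory

namespace Groth.Agent.Dual349

variable {C : Type u₁} [Category.{v₁} C] {C' : Type u₂} [Category.{v₂} C'] {D : Type u₃} [Category.{v₃} D]
  {D' : Type u₄} [Category.{v₄} D']
  {F : C ⥤ D} {F' : C' ⥤ D'} {G : D' ⥤ D} {G' : C' ⥤ C} {L : D ⥤ D'} {L' : C ⥤ C'}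
  {a : D ⥤ C} {a' : D' ⥤ C'}
  (adj : F ⊣ a) (adj' : F' ⊣ a') (adjg : L ⊣ G) (adjg' : L' ⊣ G') (e : G' ⋙ F ≅ F' ⋙ G)

/-- The mate `G' a' ⟶ a G`. -/
def xiGen (M : D') : G'.obj (a'.obj M) ⟶ a.obj (G.obj M) :=
  adj.homEquiv _ _ (e.hom.app (a'.obj M) ≫ G.map (adj'.counit.app M))

theorem xiGen_naturality {M N : D'} (φ : M ⟶ N) :
    G'.map (a'.map φ) ≫ xiGen adj adj' e N = xiGen adj adj' e M ≫ a.map (G.map φ) := by
  simp only [xiGen]
  rw [← adj.homEquiv_naturality_left, ← adj.homEquiv_naturality_right]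
  congr 1
  have := e.hom.naturality (a'.map φ)
  simp only [Functor.comp_map] at this
  rw [reassoc_of% this, ← G.map_comp, Category.assoc, ← G.map_comp, adj'.counit_naturality]

theorem counit_compat (K : D) [IsIso (xiGen adj adj' e (L.obj K))] :
    (adjg.homEquiv _ _).symm (F.map (adjg'.unit.app (a.obj K)) ≫ e.hom.app (L'.obj (a.obj K))) ≫
        F'.map (L'.map (a.map (adjg.unit.app K)) ≫ L'.map (inv (xiGen adj adj' e (L.obj K))) ≫
          adjg'.counit.app (a'.obj (L.obj K))) ≫ adj'.counit.app (L.obj K) =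
      L.map (adj.counit.app K) := by
  apply (adjg.homEquiv _ _).injective
  rw [adjg.homEquiv_naturality_right, Equiv.apply_symm_apply, Category.assoc, G.map_comp]
  have := e.hom.naturality (L'.map (a.map (adjg.unit.app K)) ≫ L'.map (inv (xiGen adj adj' e (L.obj K))) ≫
          adjg'.counit.app (a'.obj (L.obj K)))
  simp only [Functor.comp_map] at this
  rw [← reassoc_of% this, ← F.map_comp_assoc]
  have h1 : adjg'.unit.app (a.obj K) ≫ G'.map (L'.map (a.map (adjg.unit.app K)) ≫
      L'.map (inv (xiGen adj adj' e (L.obj K))) ≫ adjg'.counit.app (a'.obj (L.obj K))) =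
      a.map (adjg.unit.app K) ≫ inv (xiGen adj adj' e (L.obj K)) := by
    rw [← L'.map_comp_assoc]
    exact (Adjunction.homEquiv_unit adjg' _ _ _).symm.trans ((congrArg _
      (Adjunction.homEquiv_counit adjg' _ _ _).symm).trans (Equiv.apply_symm_apply _ _))
  rw [h1, F.map_comp, Category.assoc]
  have h2 : e.hom.app (a'.obj (L.obj K)) ≫ G.map (adj'.counit.app (L.obj K)) =
      F.map (xiGen adj adj' e (L.obj K)) ≫ adj.counit.app _ := by
    exact ((Adjunction.homEquiv_counit adj _ _ _).symm.trans (Equiv.symm_apply_apply _ _)).symm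
  rw [h2, ← F.map_comp_assoc (inv (xiGen adj adj' e (L.obj K))), IsIso.inv_hom_id, F.map_id, Category.id_comp,
    adjg.homEquiv_unit]
  exact (adj.counit.naturality _).trans (adjg.unit.naturality _)

theorem homEquiv_map_comp_counit {X Y Z : C} {W V : C'} (u : X ⟶ Y) (v : Y ⟶ Z) (w : Z ⟶ G'.obj W) (z : W ⟶ V) :
    adjg'.homEquiv X V (L'.map u ≫ (L'.map v ≫ L'.map w ≫ adjg'.counit.app W) ≫ z) =
      u ≫ v ≫ w ≫ G'.map z := by
  apply (adjg'.homEquiv X V).symm.injective
  rw [Equiv.symm_apply_apply, adjg'.homEquiv_naturality_left_symm, adjg'.homEquiv_naturality_left_symm,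
    adjg'.homEquiv_naturality_right_symm, Adjunction.homEquiv_counit]
  simp only [Category.assoc]

theorem unit_compat (M : C) [IsIso (xiGen adj adj' e (L.obj (F.obj M)))]
    [IsIso (xiGen adj adj' e (F'.obj (L'.obj M)))] :
    adj'.unit.app (L'.obj M) = L'.map (adj.unit.app M) ≫
      (L'.map (a.map (adjg.unit.app (F.obj M))) ≫ L'.map (inv (xiGen adj adj' e (L.obj (F.obj M)))) ≫
        adjg'.counit.app (a'.obj (L.obj (F.obj M)))) ≫
      a'.map ((adjg.homEquiv _ _).symm (F.map (adjg'.unit.app M) ≫ e.hom.app (L'.obj M))) := by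
  apply (adjg'.homEquiv _ _).injective
  obtain ⟨b, hb⟩ : ∃ b : L.obj (F.obj M) ⟶ F'.obj (L'.obj M),
      (adjg.homEquiv _ _).symm (F.map (adjg'.unit.app M) ≫ e.hom.app (L'.obj M)) = b := ⟨_, rfl⟩
  have hb' : adjg.unit.app (F.obj M) ≫ G.map b = F.map (adjg'.unit.app M) ≫ e.hom.app (L'.obj M) :=
    (Adjunction.homEquiv_unit adjg _ _ _).symm.trans ((congrArg _ hb.symm).trans (Equiv.apply_symm_apply _ _))
  refine (?_ : _ = adj.unit.app M ≫ a.map (adjg.unit.app (F.obj M)) ≫
    inv (xiGen adj adj' e (L.obj (F.obj M))) ≫ G'.map (a'.map b)).trans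
    ((congrArg _ (congrArg (fun t => L'.map (adj.unit.app M) ≫
      (L'.map (a.map (adjg.unit.app (F.obj M))) ≫ L'.map (inv (xiGen adj adj' e (L.obj (F.obj M)))) ≫
        adjg'.counit.app (a'.obj (L.obj (F.obj M)))) ≫ a'.map t) hb)).trans
      (homEquiv_map_comp_counit adjg' _ _ _ _)).symm
  have hnat : inv (xiGen adj adj' e (L.obj (F.obj M))) ≫ G'.map (a'.map b) =
      a.map (G.map b) ≫ inv (xiGen adj adj' e (F'.obj (L'.obj M))) := by
    rw [IsIso.inv_comp_eq, ← Category.assoc, IsIso.eq_comp_inv, xiGen_naturality]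
  rw [hnat, ← a.map_comp_assoc, hb', a.map_comp, Category.assoc]
  refine ((adjg'.homEquiv_unit _ _ _).trans ?_).trans (adj.unit_naturality_assoc (adjg'.unit.app M) _).symm
  rw [← Category.assoc (adj.unit.app _) (a.map _), ← Category.assoc, IsIso.eq_comp_inv, Category.assoc]
  congr 1
  rw [xiGen]
  refine (adj.homEquiv_naturality_left _ _).symm.trans
    ((congrArg _ ?_).trans (Adjunction.homEquiv_unit adj _ _ (e.hom.app (L'.obj M))))
  have := e.hom.naturality (adj'.unit.app (L'.obj M))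
  simp only [Functor.comp_map] at this
  refine (Category.assoc _ _ _).symm.trans ((congrArg (· ≫ G.map (adj'.counit.app (F'.obj (L'.obj M)))) this).trans
    ((Category.assoc _ _ _).trans ?_))
  refine (congrArg (e.hom.app (L'.obj M) ≫ ·) ((G.map_comp _ _).symm.trans ?_)).trans (Category.comp_id _)
  exact (congrArg G.map (adj'.left_triangle_components _)).trans (G.map_id _)

end Groth.Agent.Dual349
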