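import Groth.Agent.Perf52.GeneratorGlobal
import Groth.Agent.Perf52.AffineKill
import Groth.Agent.KFlatLib.Scheme.Adjoint
import Groth.Agent.KFlatLib.Scheme.QCohD
import Groth.Agent.DEqT.LpullOrth
import Groth.Agent.DEqT.FibreVanish
import Groth.Agent.DEqT.RHomExists

/-!
# Detecting isomorphisms after `Rf_* RHom(E, -)` for perfect `E`
-/

set_option autoImplicit false
set_option linter.style.haveILetI false
set_option backward.isDefEq.respectTransparency false

universe u

open CategoryTheory CategoryTheory.Limits CategoryTheory.Pretriangulated AlgebraicGeometry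

attribute [local instance] HasDerivedCategory.standard

namespace Groth.Agent.Dual349

open KFlatLib

variable {X S : Scheme.{u}} (f : X ⟶ S)

/-- Homs out of `E` are sections of `Rf_* RHom(E, -)`. -/
theorem bijective_comp_of_isIso [DCoh.HasRpush f] (E : CochainComplex X.Modules ℤ) [DCoh.HasLTensorCx E]
    [DCoh.HasRSheafHom E] {F G : DCoh.D X} (φ : F ⟶ G)
    (h : IsIso ((DCoh.Rpush f).map ((DCoh.RSheafHom E).map φ))) :
    Function.Bijective fun a : DCoh.toD X E ⟶ F => a ≫ φ := by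
  haveI := hasLpull f
  obtain ⟨adj⟩ := nonempty_lpull_rpush_adj f
  obtain ⟨el⟩ := DEqT.nonempty_lpull_structure f
  obtain ⟨eu⟩ := DEqT.nonempty_ltensor_structure E
  let e : DCoh.toD X E ≅ (DCoh.LTensorCx E).obj ((DCoh.Lpull f).obj (DCoh.inD S (Coh.structureModule S))) :=
    eu.symm ≪≫ (DCoh.LTensorCx E).mapIso el.symm
  let c : ∀ Z, (DCoh.toD X E ⟶ Z) ≃
      (DCoh.inD S (Coh.structureModule S) ⟶ (DCoh.Rpush f).obj ((DCoh.RSheafHom E).obj Z)) := fun Z =>
    e.homFromEquiv.trans (((DCoh.RSheafHomAdj E).homEquiv _ _).trans (adj.homEquiv _ _))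
  have hc : ∀ a : DCoh.toD X E ⟶ F,
      c G (a ≫ φ) = c F a ≫ (DCoh.Rpush f).map ((DCoh.RSheafHom E).map φ) := fun a => by
    simp [c, ← Adjunction.homEquiv_naturality_right]
  haveI := h
  have h2 : Function.Bijective fun a : DCoh.toD X E ⟶ F =>
      (c G).symm (c F a ≫ (DCoh.Rpush f).map ((DCoh.RSheafHom E).map φ)) :=
    (c G).symm.bijective.comp
      ((asIso ((DCoh.Rpush f).map ((DCoh.RSheafHom E).map φ))).homToEquiv.bijective.comp (c F).bijective)
  refine (iff_of_eq (congrArg Function.Bijective (funext fun a => ?_))).1 h2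
  rw [← hc, Equiv.symm_apply_apply]

/-- A morphism in `D_QCoh` inverted by all `Rf_* RHom(E, -)`, `E` perfect, is an isomorphism. -/
theorem isIso_of_perfect_test [CompactSpace X] [QuasiSeparatedSpace X] [DCoh.HasRpush f] {F G : DCoh.D X}
    (hF : DCoh.IsQCohD F) (hG : DCoh.IsQCohD G) (φ : F ⟶ G)
    (h : ∀ (E : CochainComplex X.Modules ℤ) [DCoh.HasLTensorCx E] [DCoh.HasRSheafHom E],
      DCoh.IsPerfect (DCoh.toD X E) → IsIso ((DCoh.Rpush f).map ((DCoh.RSheafHom E).map φ))) :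
    IsIso φ := by
  obtain ⟨P, hP, -, hgen⟩ := Perf52.genOn_qcqs (X := X) (T := Set.univ) isClosed_univ (by simp)
  have hbij : ∀ m : ℤ, Function.Bijective fun a : P⟦m⟧ ⟶ F => a ≫ φ := fun m => by
    let E := DerivedCategory.Q.objPreimage (P⟦m⟧)
    let eE : DCoh.toD X E ≅ P⟦m⟧ := DerivedCategory.Q.objObjPreimageIso _
    haveI := hasLTensorCx E
    haveI := DEqT.hasRSheafHom E
    have hb := bijective_comp_of_isIso f E φ
      (h E (Perf52.isPerfect_of_iso eE.symm (Perf52.isPerfect_shift hP m)))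
    have h2 : Function.Bijective fun a : P⟦m⟧ ⟶ F => eE.inv ≫ (eE.hom ≫ a) ≫ φ :=
      eE.homFromEquiv.bijective.comp (hb.comp eE.homFromEquiv.symm.bijective)
    refine (iff_of_eq (congrArg Function.Bijective (funext fun a => ?_))).1 h2
    simp
  obtain ⟨C, g, d, hT⟩ := distinguished_cocone_triangle φ
  suffices hC : IsZero C from (Triangle.isZero₃_iff_isIso₁ _ hT).1 hC
  refine hgen C (isQCohD_obj₃ hT hF hG) (fun x hx => absurd (Set.mem_univ x) hx) fun n ψ => ?_
  let se := shiftFunctorCompIsoId (DCoh.D X) n (-n) (add_neg_cancel n)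
  let w : P⟦-n⟧ ⟶ C := ψ⟦-n⟧' ≫ se.hom.app C
  suffices hw : w = 0 by
    have h0 : ψ⟦-n⟧' = 0 := by rw [← cancel_mono (se.hom.app C), zero_comp]; exact hw
    exact (shiftFunctor (DCoh.D X) (-n)).map_injective (h0.trans ((shiftFunctor _ _).map_zero _ _).symm)
  have hd : w ≫ d = 0 := by
    let s1 := shiftFunctorCompIsoId (DCoh.D X) (-1 : ℤ) 1 (by omega)
    let s2 := (shiftFunctorAdd' (DCoh.D X) (-n - 1) 1 (-n) (by omega)).app P
    obtain ⟨a, ha⟩ := (shiftFunctor (DCoh.D X) (1 : ℤ)).map_surjective (s2.inv ≫ w ≫ d)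
    have h1 : (a ≫ φ)⟦(1 : ℤ)⟧' = 0 := by
      rw [Functor.map_comp, ha, Category.assoc, Category.assoc]
      have hz : d ≫ φ⟦(1 : ℤ)⟧' = 0 := comp_distTriang_mor_zero₃₁ _ hT
      rw [hz]
      simp
    have h2 : a ≫ φ = 0 := (shiftFunctor (DCoh.D X) (1 : ℤ)).map_injective (by rw [h1, Functor.map_zero])
    have h3 : a = 0 := (hbij (-n - 1)).1 (by simpa using h2)
    rw [h3, Functor.map_zero] at ha
    rw [← cancel_epi s2.inv, comp_zero]
    exact ha.symm
  obtain ⟨v, hv⟩ := Triangle.coyoneda_exact₃ _ hT w hd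
  obtain ⟨a, rfl⟩ := (hbij (-n)).2 v
  rw [hv]
  have hz : φ ≫ g = 0 := comp_distTriang_mor_zero₁₂ _ hT
  simp [hz]

end Groth.Agent.Dual349
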