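import Groth.Agent.KFlatLib.Scheme.RHomBounded
import Groth.Agent.KFlatLib.Scheme.CohD
import Groth.Agent.DEqT.RHomExists
import Groth.Agent.S1116

/-!
# `RHom` into a bounded complex of injectives with coherent cohomology
-/

set_option autoImplicit false
set_option linter.style.haveILetI false
set_option backward.isDefEq.respectTransparency false

universe u

open CategoryTheory CategoryTheory.Limits CategoryTheory.Pretriangulated AlgebraicGeometry

attribute [local instance] HasDerivedCategory.standard

namespace Groth.Agent.Dual349.RHomInj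

open KFlatLib

variable {X : Scheme.{u}}

/-- High degree cohomology of `iHom` of complexes bounded below and above vanishes. -/
theorem isZero_homology_iHom_high (C J : CochainComplex X.Modules ℤ) (c b : ℤ) [C.IsStrictlyGE c]
    [J.IsStrictlyLE b] (k : ℤ) (hk : b < k + c) : IsZero (((iHom C).obj J).homology k) := by
  let A := (iHom C).obj J
  have hA : IsZero (A.cycles k) := by
    let g : (HomologicalComplex.single X.Modules (ComplexShape.up ℤ) k).obj (A.cycles k) ⟶ A :=
      HomologicalComplex.mkHomFromSingle (A.iCycles k) (fun i _ => A.iCycles_d k i)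
    have hg : g = 0 := by
      refine ((iHomAdj C).homEquiv _ _).symm.injective
        (HomologicalComplex.hom_ext _ _ fun n => ?_)
      by_cases hn : b < n
      · exact (J.isZero_of_isStrictlyLE b n hn).eq_of_tgt _ _
      · refine HomologicalComplex.mapBifunctor.hom_ext (fun p q h => ?_)
        change p + q = n at h
        refine IsZero.eq_of_src ?_ _ _
        by_cases hp : p = k
        · exact Functor.map_isZero _ (C.isZero_of_isStrictlyGE c q (by omega))
        · exact Functor.map_isZero ((DCoh.tensorBi (X := X)).flip.obj (C.X q))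
            (HomologicalComplex.isZero_single_obj_X _ _ _ _ hp)
    have h := congrArg (fun φ : _ ⟶ A => φ.f k) hg
    simp only [g, HomologicalComplex.mkHomFromSingle_f, HomologicalComplex.zero_f] at h
    rw [IsZero.iff_id_eq_zero, ← cancel_mono (A.iCycles k), Category.id_comp, zero_comp,
      ← cancel_epi (HomologicalComplex.singleObjXSelf (ComplexShape.up ℤ) k (A.cycles k)).hom,
      comp_zero]
    exact h
  exact IsZero.of_epi (A.homologyπ k) hA

variable (J : CochainComplex X.Modules ℤ) [J.IsKInjective] [∀ n, Injective (J.X n)]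

/-- High degree cohomology vanishes for sources bounded below in cohomology. -/
theorem isZero_HD_iHom_high (C : CochainComplex X.Modules ℤ) (c b : ℤ) [C.IsGE c] [J.IsStrictlyLE b]
    (k : ℤ) (hk : b < k + c) : IsZero (((iHom C).obj J).homology k) := by
  haveI : QuasiIso (C.πTruncGE c) := (C.quasiIso_πTruncGE_iff c).2 inferInstance
  haveI := quasiIso_iHomMap (C.πTruncGE c) J
  exact (isZero_homology_iHom_high (C.truncGE c) J c b k hk).of_iso
    (asIso (HomologicalComplex.homologyMap ((iHomMap (C.πTruncGE c)).app J) k)).symm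

variable [IsLocallyNoetherian X] (a b : ℤ) [J.IsStrictlyGE a] [J.IsStrictlyLE b]

include a b

/-- Coherence for a shifted source. -/
theorem isCoh_homology_iHom_shift (hJ : DCoh.IsCohD (DerivedCategory.Q.obj J)) (L : CochainComplex X.Modules ℤ)
    (hL : DCoh.IsCohD (DerivedCategory.Q.obj L)) (i : ℤ) :
    Coh.IsCoh (((iHom (L⟦(1 : ℤ)⟧)).obj J).homology i) := by
  let c := b - i + 2
  let B := L.truncGE c
  let φ : L ⟶ B := L.πTruncGE c
  have hiso : ∀ k, c ≤ k → IsIso ((DerivedCategory.homologyFunctor X.Modules k).map (DerivedCategory.Q.map φ)) :=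
    fun k hk => (NatIso.isIso_map_iff (DerivedCategory.homologyFunctorFactors X.Modules k) φ).2
      ((quasiIsoAt_iff_isIso_homologyMap φ k).1 (L.quasiIsoAt_πTruncGE c k hk))
  have hcone : ∀ k, c ≤ k → IsZero ((CochainComplex.mappingCone φ).homology k) :=
    (isPcMap_iff_cone c φ).1 ⟨fun k hk => hiso k hk.le, by haveI := hiso c le_rfl; infer_instance⟩
  let C := CochainComplex.mappingCone φ
  haveI : C.IsLE (c - 1) := by
    rw [CochainComplex.isLE_iff]
    exact fun k hk => (C.exactAt_iff_isZero_homology k).2 (hcone k (by omega))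
  have hB : DCoh.IsCohD (DerivedCategory.Q.obj B) := fun k => by
    by_cases hk : c ≤ k
    · haveI := hiso k hk
      exact isCoh_of_iso (asIso ((DerivedCategory.homologyFunctor X.Modules k).map (DerivedCategory.Q.map φ))) (hL k)
    · haveI : (DerivedCategory.Q.obj B).IsGE c := (DerivedCategory.isGE_Q_obj_iff B c).2 inferInstance
      exact isCoh_of_isZero (DerivedCategory.isZero_of_isGE _ c k (by omega))
  have hC : DCoh.IsCohD (DerivedCategory.Q.obj C) :=
    isCohD_obj₂ (T := (DerivedCategory.Q.mapTriangle.obj (CochainComplex.mappingCone.triangle φ)).rotate)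
      (rot_of_distTriang _ ((DerivedCategory.mem_distTriang_iff _).2 ⟨_, _, φ, ⟨Iso.refl _⟩⟩)) hB
      (isCohD_shift hL 1)
  haveI : (DCoh.toD X C).IsLE (c - 1) := (DerivedCategory.isLE_Q_obj_iff C (c - 1)).2 inferInstance
  haveI : (DerivedCategory.Q.obj J).IsGE a := (DerivedCategory.isGE_Q_obj_iff J a).2 inferInstance
  haveI := hasLTensorCx C
  haveI := DEqT.hasRSheafHom C
  obtain ⟨e⟩ := nonempty_RSheafHom_iso C J
  have hH : Coh.IsCoh (((iHom C).obj J).homology i) :=
    isCoh_of_iso ((DerivedCategory.homologyFunctor X.Modules i).mapIso e ≪≫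
      (DerivedCategory.homologyFunctorFactors X.Modules i).app _)
      ((S1116.result X C (c - 1) hC (DerivedCategory.Q.obj J) a hJ).1 i)
  obtain ⟨hw, hse⟩ := Inner.innerHom_shortExact (DCoh.tensorBi (X := X)) (coneSeq φ)
    (fun n => ⟨coneSeqSplitting φ n⟩) J
  have hz : ∀ k, b < k + c → IsZero (((iHom B).obj J).homology k) := fun k hk =>
    isZero_homology_iHom_high B J c b k hk
  haveI := (hse.homology_exact₁ (i - 1) i (by simp)).mono_g ((hz (i - 1) (by omega)).eq_of_src _ _)
  haveI := (hse.homology_exact₂ i).epi_f ((hz i (by omega)).eq_of_tgt _ _)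
  let g := HomologicalComplex.homologyMap ((iHomMap (coneSeq φ).g).app J) i
  haveI : IsIso g := isIso_of_mono_of_epi _
  exact isCoh_of_iso (asIso g).symm hH

/-- `RHom` of a complex with coherent cohomology into a bounded complex of injectives with coherent
cohomology has coherent cohomology. -/
theorem isCoh_HD_RSheafHom (hJ : DCoh.IsCohD (DerivedCategory.Q.obj J)) (L : CochainComplex X.Modules ℤ)
    (hL : DCoh.IsCohD (DerivedCategory.Q.obj L)) [DCoh.HasLTensorCx L] [DCoh.HasRSheafHom L] (i : ℤ) :
    Coh.IsCoh (DCoh.HD ((DCoh.RSheafHom L).obj (DerivedCategory.Q.obj J)) i) := by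
  obtain ⟨e⟩ := nonempty_RSheafHom_iso L J
  let s : (L⟦(-1 : ℤ)⟧)⟦(1 : ℤ)⟧ ≅ L :=
    (shiftFunctorCompIsoId (CochainComplex X.Modules ℤ) (-1 : ℤ) 1 (by omega)).app L
  obtain ⟨e'⟩ := nonempty_iHom_iso_of_iso (DerivedCategory.Q.mapIso s) J
  refine isCoh_of_iso ((DerivedCategory.homologyFunctorFactors X.Modules i).app _).symm ?_ |> fun h =>
    isCoh_of_iso ((DerivedCategory.homologyFunctor X.Modules i).mapIso (e ≪≫ e'.symm)).symm h
  exact isCoh_homology_iHom_shift J a b hJ (L⟦(-1 : ℤ)⟧)
    (isCohD_of_iso ((DerivedCategory.Q.commShiftIso (-1 : ℤ)).app L).symm (isCohD_shift hL (-1))) i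

end Groth.Agent.Dual349.RHomInj
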